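import Cfsg.Agent.H985.VZ.Defs
import Cfsg.Agent.H627.Gow.Mackey_m3
import Cfsg.Agent.Characters.Core
import Mathlib
import Cfsg.Agent.FastGrp
import Cfsg.Agent.Prune
set_option linter.all false

section
prune_inst 0x7ffceff9afaca9dfdffb7fbfaededffdf5a88fffe6fffdcbffe061bf6bdf6fa1efc5fb8f8fe010fe9ff7e23414b87b53f9feef7fea6bdc7ffffd5ff41ffbee0fa5e7b50951dc98b40fbc2ffe03f1778e6f3ffffffffffffffffffffffffffffffffdfbfeffff

-- part: H985/VZ/Frame
section
prune_inst 0x11002504044202000000050200000004730000000003000048840800010020032001060134400000001888042008802011080010423000002a000600011d048180a822022040a10020001f000081010000000000000000000000000000000000204010000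
set_option linter.all false
open scoped Cfsg.Agent.FastGrp

/-!
# S4842: linear characters of `B` and minimal representatives (helper985)

* `prT`, `lamB l` : the projection `B → T` and the inflation of `l : T →* ℂˣ` to `B`;
* `Vl_eq` : `Vl ρ l = eig ρ B (lamB l)`;
* `exists_left_rep` : `x = a g b`, `a ∈ P_J`, `b ∈ B`, `g` over `w` with `w⁻¹ J > 0`;
* `gen_VJ` : `V^{V_J}` is spanned by `P_J V^U`;
* `el_n` : `p_{λ''} n_i p_{λ'} u = p_{λ''} n_i u` for `u` fixed by `X_i`, `λ'' = s_i λ'`.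
-/

set_option autoImplicit false
set_option linter.unusedSectionVars false

open Cfsg

namespace Cfsg.Agent.H985.VZ

open CoxeterSystem Cfsg.Agent.ChevalleyStructure.CoxeterGeom Cfsg.Agent.Tits.Roots Cfsg.Agent.Tits.Core
  Cfsg.Agent.Tits.Exchange Cfsg.Agent.Nodes.Reps Cfsg.Agent.Nodes.BNOf Cfsg.Agent.Nodes.StabComb
  Cfsg.Agent.Nodes.Bruhat Cfsg.Agent.Nodes.OppDec Cfsg.Agent.Nodes.LeviDec Module

universe u v

variable {I W : Type*} {Y : Type u} [Fintype I] [DecidableEq I] [Group W] [Group Y] {M : CoxeterMatrix I}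
  {cs : CoxeterSystem M W} {A : I → I → ℤ} {h : IsCartan M A} {p : ℕ} {T : Subgroup Y} {n : I → Y}
  {X : (I → ℤ) → Subgroup Y}

/-! ### twisted characters -/

section mv

variable {hN : NSys M T n}

/-- one representative is enough -/
theorem mv_of_rp {w : W} {g : Y} (hg : Rp cs hN w g) {l l' : T →* ℂˣ}
    (h1 : ∀ s t : T, (s : Y) = g * t * g⁻¹ → l' s = l t) : Mv cs hN w l l' := by
  intro k hk s t e
  have h2 : g⁻¹ * k ∈ T := hg.unique hk
  have h3 : (s : Y) = g * ((⟨g⁻¹ * k, h2⟩ * t * ⟨g⁻¹ * k, h2⟩⁻¹ : T) : Y) * g⁻¹ := by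
    rw [e]
    change _ = g * (g⁻¹ * k * t * (g⁻¹ * k)⁻¹) * g⁻¹
    group
  rw [h1 s _ h3, map_mul, map_mul, map_inv, mul_comm, ← mul_assoc, inv_mul_cancel, one_mul]

theorem mv_one (l : T →* ℂˣ) : Mv cs hN 1 l l := by
  refine mv_of_rp (g := 1) rp_one fun s t e => ?_
  rw [one_mul, inv_one, mul_one] at e
  rw [Subtype.ext e]

theorem Mv.mul {v w : W} {l l' l'' : T →* ℂˣ} (hw : Mv cs hN w l l') (hv : Mv cs hN v l' l'') :
    Mv cs hN (v * w) l l'' := by
  obtain ⟨g, hg⟩ := exists_rp cs hN v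
  obtain ⟨k, hk⟩ := exists_rp cs hN w
  refine mv_of_rp (hg.mul hk) fun s t e => ?_
  have h1 : k * t * k⁻¹ ∈ T := (Subgroup.mem_normalizer_iff.1 hk.mem_normalizer _).1 t.2
  rw [hv g hg s ⟨_, h1⟩ (by rw [e]; group), hw k hk ⟨_, h1⟩ t rfl]

theorem Mv.inv {w : W} {l l' : T →* ℂˣ} (hw : Mv cs hN w l l') : Mv cs hN w⁻¹ l' l := by
  obtain ⟨g, hg⟩ := exists_rp cs hN w
  refine mv_of_rp hg.inv fun s t e => (hw g hg t s ?_).symm
  rw [e]
  group

theorem Mv.unique {w : W} {l l' l'' : T →* ℂˣ} (h1 : Mv cs hN w l l') (h2 : Mv cs hN w l l'') : l' = l'' := by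
  obtain ⟨g, hg⟩ := exists_rp cs hN w
  ext s
  have h3 : g⁻¹ * s * g ∈ T := by
    have := (Subgroup.mem_normalizer_iff.1 hg.inv.mem_normalizer (s : Y)).1 s.2
    rwa [inv_inv] at this
  rw [h1 g hg s ⟨_, h3⟩ (by group), h2 g hg s ⟨_, h3⟩ (by group)]

/-- the twisted character exists -/
theorem exists_mv_to (w : W) (l : T →* ℂˣ) : ∃ l', Mv cs hN w l l' := by
  obtain ⟨g, hg⟩ := exists_rp cs hN w
  have h3 : ∀ s : T, g⁻¹ * s * g ∈ T := by
    intro s
    have := (Subgroup.mem_normalizer_iff.1 hg.inv.mem_normalizer (s : Y)).1 s.2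
    rwa [inv_inv] at this
  refine ⟨l.comp ⟨⟨fun s => ⟨_, h3 s⟩, Subtype.ext (by simp)⟩, fun s t => Subtype.ext ?_⟩, mv_of_rp hg fun s t e => ?_⟩
  · change g⁻¹ * ((s : Y) * t) * g = g⁻¹ * s * g * (g⁻¹ * t * g)
    group
  · change l ⟨g⁻¹ * s * g, h3 s⟩ = l t
    congr 1
    apply Subtype.ext
    change g⁻¹ * s * g = t
    rw [e]
    group

end mv

/-! ### the inflation -/

variable (R : RGD cs h p T n X) [Finite W]

include R

theorem tu_unique {t t' u u' : Y} (ht : t ∈ T) (ht' : t' ∈ T) (hu : u ∈ RGD.Sup X (RGD.Pos cs h))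
    (hu' : u' ∈ RGD.Sup X (RGD.Pos cs h)) (e : t * u = t' * u') : t = t' := by
  have h1 : t'⁻¹ * t = u' * u⁻¹ := by
    have : t'⁻¹ * t = t'⁻¹ * (t * u) * u⁻¹ := by group
    rw [this, e]
    group
  have h2 : t'⁻¹ * t ∈ RGD.Sup X (RGD.Pos cs h) ⊓ T :=
    ⟨by rw [h1]; exact Subgroup.mul_mem _ hu' (Subgroup.inv_mem _ hu), T.mul_mem (T.inv_mem ht') ht⟩
  rw [U_inf_T R, Subgroup.mem_bot] at h2
  exact (inv_mul_eq_one.1 h2).symm

/-- the projection `B → T` -/
noncomputable def prT : RGD.B cs h T X →* T where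
  toFun b := ⟨(R.mem_B.1 b.2).choose, (R.mem_B.1 b.2).choose_spec.1⟩
  map_one' := by
    apply Subtype.ext
    obtain ⟨ht, u, hu, e⟩ := (R.mem_B.1 (1 : RGD.B cs h T X).2).choose_spec
    exact tu_unique R ht (one_mem T) hu (one_mem _) (by rw [← e, mul_one]; rfl)
  map_mul' a b := by
    apply Subtype.ext
    obtain ⟨ht, u, hu, e⟩ := (R.mem_B.1 (a * b).2).choose_spec
    obtain ⟨ht1, u1, hu1, e1⟩ := (R.mem_B.1 a.2).choose_spec
    obtain ⟨ht2, u2, hu2, e2⟩ := (R.mem_B.1 b.2).choose_spec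
    change (R.mem_B.1 (a * b).2).choose = (R.mem_B.1 a.2).choose * (R.mem_B.1 b.2).choose
    set t2 := (R.mem_B.1 b.2).choose
    have h3 : t2⁻¹ * u1 * t2 ∈ RGD.Sup X (RGD.Pos cs h) := by
      have := (Subgroup.mem_normalizer_iff.1 (R.T_le_normalizer_U (inv_mem ht2)) u1).1 hu1
      rwa [inv_inv] at this
    refine tu_unique R ht (mul_mem ht1 ht2) hu (mul_mem h3 hu2) ?_
    rw [← e]
    exact (congrArg₂ (· * ·) e1 e2).trans (by group)

theorem prT_eq {t u : Y} (ht : t ∈ T) (hu : u ∈ RGD.Sup X (RGD.Pos cs h)) (hb : t * u ∈ RGD.B cs h T X) :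
    prT R ⟨t * u, hb⟩ = ⟨t, ht⟩ := by
  apply Subtype.ext
  obtain ⟨ht1, u1, hu1, e1⟩ := (R.mem_B.1 hb).choose_spec
  exact (tu_unique R ht ht1 hu hu1 e1).symm

/-- the inflation of `l` -/
noncomputable def lamB (l : T →* ℂˣ) : RGD.B cs h T X →* ℂˣ := l.comp (prT R)

theorem lamB_T (l : T →* ℂˣ) {t : Y} (ht : t ∈ T) (hb : t ∈ RGD.B cs h T X) : lamB R l ⟨t, hb⟩ = l ⟨t, ht⟩ := by
  have h1 : (⟨t, hb⟩ : RGD.B cs h T X) = ⟨t * 1, by rwa [mul_one]⟩ := Subtype.ext (mul_one t).symm
  unfold lamB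
  rw [MonoidHom.comp_apply, h1, prT_eq R ht (one_mem _)]

theorem lamB_U (l : T →* ℂˣ) {u : Y} (hu : u ∈ RGD.Sup X (RGD.Pos cs h)) (hb : u ∈ RGD.B cs h T X) :
    lamB R l ⟨u, hb⟩ = 1 := by
  have h1 : (⟨u, hb⟩ : RGD.B cs h T X) = ⟨1 * u, by rwa [one_mul]⟩ := Subtype.ext (one_mul u).symm
  unfold lamB
  rw [MonoidHom.comp_apply, h1, prT_eq R (one_mem T) hu]
  exact map_one l

theorem lamB_mul (l : T →* ℂˣ) {t u : Y} (ht : t ∈ T) (hu : u ∈ RGD.Sup X (RGD.Pos cs h))
    (hb : t * u ∈ RGD.B cs h T X) : lamB R l ⟨t * u, hb⟩ = l ⟨t, ht⟩ := by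
  unfold lamB
  rw [MonoidHom.comp_apply, prT_eq R ht hu]

section rep

variable {V : Type v} [AddCommGroup V] [Module ℂ V] {ρ : Representation ℂ Y V}

theorem Vl_eq (l : T →* ℂˣ) : Vl cs h T X ρ l = eig ρ (RGD.B cs h T X) (lamB R l) := by
  ext v
  constructor
  · rintro ⟨h1, h2⟩ ⟨b, hb⟩
    obtain ⟨t, ht, u, hu, rfl⟩ := R.mem_B.1 hb
    rw [lamB_mul R l ht hu, map_mul, Module.End.mul_apply, h1 u hu]
    exact h2 ⟨t, ht⟩
  · intro h1
    refine ⟨fun u hu => ?_, fun t => ?_⟩
    · have := h1 ⟨u, RGD.U_le_B hu⟩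
      rwa [lamB_U R l hu, Units.val_one, one_smul] at this
    · have := h1 ⟨t, RGD.T_le_B t.2⟩
      rwa [lamB_T R l t.2] at this

end rep

/-! ### representatives -/

/-- every element is `a g b`, `a ∈ P_J`, `b ∈ B`, `g` over `w` with `w⁻¹ J > 0` -/
theorem exists_left_rep (hG : GG cs h T X = ⊤) (J : Set I) (x : Y) :
    ∃ a ∈ PJ cs h T X J, ∃ b ∈ RGD.B cs h T X, ∃ w g, Rp cs R.nsys w g ∧ x = a * g * b ∧
      ∀ i ∈ J, 0 ≤ rep cs h w⁻¹ (sr i) := by
  classical
  have hex : ∃ m : ℕ, ∃ w, cs.length w = m ∧ ∃ a ∈ PJ cs h T X J, ∃ b ∈ RGD.B cs h T X, ∃ g,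
      Rp cs R.nsys w g ∧ x = a * g * b := by
    obtain ⟨w, b₁, hb₁, k, hk, b₂, hb₂, e⟩ := (mem_GG R).1 (show x ∈ GG cs h T X by rw [hG]; exact Subgroup.mem_top x)
    exact ⟨_, w, rfl, b₁, B_le_PJ hb₁, b₂, hb₂, k, hk, e⟩
  obtain ⟨w, hw, a, ha, b, hb, g, hg, e⟩ := Nat.find_spec hex
  have hmin := fun m hm => Nat.find_min hex (m := m) hm
  refine ⟨a, ha, b, hb, w, g, hg, e, fun i hi => ?_⟩
  refine nonneg_of_lt cs h w⁻¹ i ?_
  rw [cs.length_inv, ← cs.length_inv (w⁻¹ * cs.simple i), mul_inv_rev, inv_inv, cs.inv_simple]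
  have h1 : cs.length w ≤ cs.length (cs.simple i * w) := by
    rw [hw]
    by_contra hcon
    exact hmin _ (not_le.1 hcon) ⟨cs.simple i * w, rfl, a * (n i)⁻¹,
      mul_mem ha (inv_mem (LJ_le_PJ (n_mem_LJ R hi))), b, hb, n i * g, (rp_simple cs R.nsys i).mul hg, by rw [e]; group⟩
  have h2 := cs.length_simple_mul w i
  omega

section rep

variable [Finite Y] {V : Type v} [AddCommGroup V] [Module ℂ V] {ρ : Representation ℂ Y V}

/-- the elements of `P_J` preserve `V^{V_J}` -/
theorem rho_fx_VJ {J : Set I} {g : Y} (hg : g ∈ PJ cs h T X J) {v : V} (hv : v ∈ fx ρ (VJ cs h X J)) :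
    ρ g v ∈ fx ρ (VJ cs h X J) := by
  intro u hu
  have h1 : g⁻¹ * u * g ∈ VJ cs h X J := by
    have := (Subgroup.mem_normalizer_iff.1 (PJ_le_normalizer_VJ R J (inv_mem hg)) u).1 hu
    rwa [inv_inv] at this
  rw [← Module.End.mul_apply, ← map_mul, show u * g = g * (g⁻¹ * u * g) by group, map_mul, Module.End.mul_apply,
    hv _ h1]

theorem rho_av_VJ {J : Set I} {g : Y} (hg : g ∈ PJ cs h T X J) (v : V) :
    ρ g (av ρ (VJ cs h X J) v) = av ρ (VJ cs h X J) (ρ g v) :=
  rho_av_conj ρ (fun x => Subgroup.mem_normalizer_iff.1 (PJ_le_normalizer_VJ R J hg) x) v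

theorem rho_VU {b : Y} (hb : b ∈ RGD.B cs h T X) {v : V} (hv : v ∈ VU cs h X ρ) : ρ b v ∈ VU cs h X ρ := by
  intro u hu
  have h1 : b⁻¹ * u * b ∈ RGD.Sup X (RGD.Pos cs h) := by
    have := (Subgroup.mem_normalizer_iff.1 (R.B_le_normalizer_U (inv_mem hb)) u).1 hu
    rwa [inv_inv] at this
  rw [← Module.End.mul_apply, ← map_mul, show u * b = b * (b⁻¹ * u * b) by group, map_mul, Module.End.mul_apply,
    hv _ h1]

omit R [Finite W] in
/-- `ρ g v` is fixed by `X z` if `v` is fixed by `U` and `w⁻¹ z > 0` -/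
theorem rho_fx_X (R : RGD cs h p T n X) {w : W} {g : Y} (hg : Rp cs R.nsys w g) {z : I → ℤ} (hz : IsRoot cs h z)
    (h0 : 0 ≤ rep cs h w⁻¹ z) {v : V} (hv : v ∈ VU cs h X ρ) : ρ g v ∈ fx ρ (X z) := by
  intro u hu
  have h1 : g⁻¹ * u * g ∈ RGD.Sup X (RGD.Pos cs h) :=
    RGD.le_Sup (S := RGD.Pos cs h) ⟨hz.act _, h0⟩ (R.conj_mem' hg hz hu)
  rw [← Module.End.mul_apply, ← map_mul, show u * g = g * (g⁻¹ * u * g) by group, map_mul, Module.End.mul_apply,
    hv _ h1]

omit R [Finite W] in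
theorem fx_Sup {S : Set (I → ℤ)} {v : V} (hv : ∀ z ∈ S, v ∈ fx ρ (X z)) : v ∈ fx ρ (RGD.Sup X S) := by
  have key : RGD.Sup X S ≤ { carrier := {x | ρ x v = v}
                             one_mem' := by simp
                             mul_mem' := fun {a b} ha hb => by
                              change ρ (a * b) v = v
                              rw [map_mul, Module.End.mul_apply, show ρ b v = v from hb, show ρ a v = v from ha]
                             inv_mem' := fun {a} ha => by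
                              change ρ a⁻¹ v = v
                              have h3 : ρ a v = v := ha
                              conv_lhs => rw [← h3]
                              rw [← Module.End.mul_apply, ← map_mul, inv_mul_cancel, map_one,
                                Module.End.one_apply] } :=
    RGD.Sup_le fun z hz u hu => hv z hz u hu
  exact fun x hx => key hx

/-- for `w⁻¹ J > 0` and `v ∈ V^U` the vector `av_{V_J} (g v)` is fixed by `U` -/
theorem av_rho_mem {J : Set I} {w : W} {g : Y} (hg : Rp cs R.nsys w g) (hw : ∀ i ∈ J, 0 ≤ rep cs h w⁻¹ (sr i)) {v : V}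
    (hv : v ∈ VU cs h X ρ) : av ρ (VJ cs h X J) (ρ g v) ∈ VU cs h X ρ := by
  have h1 : ρ g v ∈ fx ρ (UJ cs h X J) := fx_Sup fun z hz => rho_fx_X R hg hz.1
    (Cfsg.Agent.H53.HC.rep_nonneg_of_supp hw hz.2.1 hz.2.2) hv
  intro x hx
  obtain ⟨u, hu, y, hy, rfl⟩ := (mem_U_iff R).1 hx
  have hu' : u ∈ PJ cs h T X J := LJ_le_PJ (BJ_le_LJ (UJ_le_BJ hu))
  rw [map_mul, Module.End.mul_apply, rho_av ρ hy, rho_av_VJ R hu', h1 u hu]

/-- **`V^{V_J}` is spanned by `P_J V^U`** -/
theorem gen_VJ (hG : GG cs h T X = ⊤) (hρ : ρ.IsIrreducible) (h0 : VU cs h X ρ ≠ ⊥) (J : Set I) {S : Submodule ℂ V}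
    (hS : ∀ g ∈ PJ cs h T X J, ∀ v ∈ VU cs h X ρ, ρ g v ∈ S) : fx ρ (VJ cs h X J) ≤ S := by
  -- the span of `Y V^U` is everything
  let Z : Subrepresentation ρ :=
    { toSubmodule := Submodule.span ℂ {x | ∃ g : Y, ∃ v ∈ VU cs h X ρ, x = ρ g v}
      apply_mem_toSubmodule := fun g v hv => by
        refine Submodule.span_induction (p := fun v _ => ρ g v ∈ Submodule.span ℂ {x | ∃ g : Y, ∃ v ∈ VU cs h X ρ, x = ρ g v})
          ?_ ?_ ?_ ?_ hv
        · rintro _ ⟨k, v, hv, rfl⟩
          refine Submodule.subset_span ⟨g * k, v, hv, ?_⟩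
          rw [map_mul, Module.End.mul_apply]
        · rw [map_zero]
          exact Submodule.zero_mem _
        · intro x y _ _ hx hy
          rw [map_add]
          exact Submodule.add_mem _ hx hy
        · intro a x _ hx
          rw [map_smul]
          exact Submodule.smul_mem _ _ hx }
  have hZ : Z.toSubmodule = ⊤ := by
    rcases hρ.2 Z with h1 | h1
    · exfalso
      apply h0
      rw [eq_bot_iff]
      intro v hv
      have h2 : v ∈ Z.toSubmodule := Submodule.subset_span ⟨1, v, hv, by rw [map_one, Module.End.one_apply]⟩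
      rw [h1] at h2
      exact h2
    · rw [h1]
      rfl
  intro v hv
  rw [← av_of_mem hv]
  have h1 : v ∈ Z.toSubmodule := by rw [hZ]; exact Submodule.mem_top
  refine Submodule.span_induction (p := fun v _ => av ρ (VJ cs h X J) v ∈ S) ?_ ?_ ?_ ?_ h1
  · rintro _ ⟨k, v, hv, rfl⟩
    obtain ⟨a, ha, b, hb, w, g, hg, rfl, hw⟩ := exists_left_rep R hG J k
    rw [map_mul, map_mul, Module.End.mul_apply, Module.End.mul_apply, ← rho_av_VJ R ha]
    exact hS a ha _ (av_rho_mem R hg hw (rho_VU R hb hv))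
  · rw [map_zero]
    exact Submodule.zero_mem _
  · intro x y _ _ hx hy
    rw [map_add]
    exact Submodule.add_mem _ hx hy
  · intro a x _ hx
    rw [map_smul]
    exact Submodule.smul_mem _ _ hx

end rep

/-- conjugation by a representative -/
theorem lamB_conj {w : W} {g : Y} (hg : Rp cs R.nsys w g) {l l' : T →* ℂˣ} (hm : Mv cs R.nsys w l l')
    {b c : RGD.B cs h T X} (e : (c : Y) = g * b * g⁻¹) : lamB R l' c = lamB R l b := by
  obtain ⟨b, hb⟩ := b
  obtain ⟨c, hc⟩ := c
  obtain ⟨t, ht, u, hu, rfl⟩ := R.mem_B.1 hb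
  change c = g * (t * u) * g⁻¹ at e
  have h1 : g * t * g⁻¹ ∈ T := (Subgroup.mem_normalizer_iff.1 hg.mem_normalizer t).1 ht
  have h2 : g * u * g⁻¹ ∈ RGD.B cs h T X := by
    have h3 : g * u * g⁻¹ = (g * t * g⁻¹)⁻¹ * c := by rw [e]; group
    rw [h3]
    exact mul_mem (inv_mem (RGD.T_le_B h1)) hc
  have h3 : g * u * g⁻¹ ∈ RGD.Sup X (RGD.Pos cs h) := by
    obtain ⟨k, hk⟩ := (R.isPGroup_Upos) ⟨u, hu⟩
    refine R.mem_U_of_mem_B h2 (k := k) ?_
    have h4 : u ^ p ^ k = 1 := congrArg Subtype.val hk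
    rw [conj_pow, h4, mul_one, mul_inv_cancel]
  have h4 : (⟨c, hc⟩ : RGD.B cs h T X) = ⟨(g * t * g⁻¹) * (g * u * g⁻¹), mul_mem (RGD.T_le_B h1) h2⟩ :=
    Subtype.ext (e.trans (by group))
  rw [h4, lamB_mul R l' h1 h3, lamB_mul R l ht hu]
  exact hm g hg ⟨_, h1⟩ ⟨t, ht⟩ rfl

section rep

variable [Finite Y] {V : Type v} [AddCommGroup V] [Module ℂ V] {ρ : Representation ℂ Y V}

/-- the step -/
theorem el_n {i : I} {l l' : T →* ℂˣ} (hm : Mv cs R.nsys (cs.simple i) l l') {v : V} (hv : v ∈ fx ρ (X (sr i))) :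
    el ρ (RGD.B cs h T X) (lamB R l') (ρ (n i) (el ρ (RGD.B cs h T X) (lamB R l) v)) =
      el ρ (RGD.B cs h T X) (lamB R l') (ρ (n i) v) := by
  classical
  let _ : Fintype (RGD.B cs h T X) := Fintype.ofFinite _
  rw [el_apply ρ _ (lamB R l) v, map_smul, map_smul, map_sum, map_sum]
  have key : ∀ b : RGD.B cs h T X, el ρ _ (lamB R l') (ρ (n i) (((lamB R l b)⁻¹ : ℂˣ).val • ρ b v)) =
      el ρ _ (lamB R l') (ρ (n i) v) := by
    intro b
    obtain ⟨y, hy, x, hx1, t, ht, e⟩ := R.mem_B' i b.2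
    have e1 : (b : Y) = (y * t) * (t⁻¹ * x * t) := by rw [e]; group
    have hx2 : t⁻¹ * x * t ∈ X (sr i) := by
      have h1 := R.tor (sr i) (isRoot_sr cs h i) t⁻¹ (inv_mem ht)
      have h2 := (conj_mem_cj (g := t⁻¹)).2 hx1
      rwa [h1, inv_inv] at h2
    have hxU : t⁻¹ * x * t ∈ RGD.Sup X (RGD.Pos cs h) := by
      have h1 : sr i ∈ RGD.Pos cs h := ⟨isRoot_sr cs h i, sr_nonneg i⟩
      exact RGD.le_Sup h1 hx2
    have hxB : t⁻¹ * x * t ∈ RGD.B cs h T X := RGD.U_le_B hxU
    have hle : RGD.Sup X (RGD.PosNe cs h i) ≤ RGD.B cs h T X :=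
      le_trans (RGD.Sup_mono (fun z hz => (⟨hz.1, hz.2.1⟩ : z ∈ RGD.Pos cs h))) RGD.U_le_B
    have hyB : y ∈ RGD.B cs h T X := hle hy
    have hc : y * t ∈ RGD.B cs h T X := mul_mem hyB (RGD.T_le_B ht)
    have hn1 : n i * y * (n i)⁻¹ ∈ RGD.Sup X (RGD.PosNe cs h i) := by
      rw [← R.cj_n_V i]
      exact conj_mem_cj.2 hy
    have hn2 : n i * t * (n i)⁻¹ ∈ T := (Subgroup.mem_normalizer_iff.1 (R.nsys.norm i) t).1 ht
    have hcB : n i * (y * t) * (n i)⁻¹ ∈ RGD.B cs h T X := by
      have h3 : n i * (y * t) * (n i)⁻¹ = (n i * y * (n i)⁻¹) * (n i * t * (n i)⁻¹) := by group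
      rw [h3]
      exact mul_mem (hle hn1) (RGD.T_le_B hn2)
    have e2 : lamB R l b = lamB R l ⟨y * t, hc⟩ := by
      have h3 : b = ⟨y * t, hc⟩ * ⟨t⁻¹ * x * t, hxB⟩ := Subtype.ext e1
      rw [h3, map_mul, lamB_U R l hxU, mul_one]
    have e3 : ρ (n i) (ρ b v) = ρ (n i * (y * t) * (n i)⁻¹) (ρ (n i) v) := by
      rw [e1, map_mul, Module.End.mul_apply, hv _ hx2, ← Module.End.mul_apply, ← map_mul, ← Module.End.mul_apply,
        ← map_mul]
      congr 2
      group
    have e4 : lamB R l' ⟨n i * (y * t) * (n i)⁻¹, hcB⟩ = lamB R l ⟨y * t, hc⟩ :=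
      lamB_conj R (rp_simple cs R.nsys i) hm rfl
    rw [map_smul, map_smul, e3]
    have e5 := el_rho ρ (RGD.B cs h T X) (lamB R l') ⟨_, hcB⟩ (ρ (n i) v)
    change el ρ _ (lamB R l') (ρ (n i * (y * t) * (n i)⁻¹) (ρ (n i) v)) = _ at e5
    rw [e5, e4, e2, smul_smul, Units.inv_mul, one_smul]
  rw [Finset.sum_congr rfl fun b _ => key b, Finset.sum_const, Finset.card_univ, ← Nat.card_eq_fintype_card,
    ← Nat.cast_smul_eq_nsmul ℂ, smul_smul, inv_mul_cancel₀ (card_ne _), one_smul]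

/-- `p_{l'} g v = 0` for `v ∈ V_l` unless `l' = w l` -/
theorem el_rho_eq_zero {w : W} {g : Y} (hg : Rp cs R.nsys w g) {l l' : T →* ℂˣ} (hm : ¬ Mv cs R.nsys w l l') {v : V}
    (hv : v ∈ Vl cs h T X ρ l) : el ρ (RGD.B cs h T X) (lamB R l') (ρ g v) = 0 := by
  by_contra hne
  apply hm
  refine mv_of_rp hg fun s t e => ?_
  have h1 : ρ s (ρ g v) = (l t : ℂ) • ρ g v := by
    rw [e, ← Module.End.mul_apply, ← map_mul, show g * t * g⁻¹ * g = g * t by group, map_mul, Module.End.mul_apply,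
      hv.2 t, map_smul]
  have h2 := el_rho ρ (RGD.B cs h T X) (lamB R l') ⟨s, RGD.T_le_B s.2⟩ (ρ g v)
  rw [lamB_T R l' s.2] at h2
  change el ρ _ _ (ρ (s : Y) (ρ g v)) = _ at h2
  rw [h1, map_smul] at h2
  have h3 : ((l t : ℂ) - (l' s : ℂ)) • el ρ (RGD.B cs h T X) (lamB R l') (ρ g v) = 0 := by
    rw [sub_smul, h2, sub_self]
  rcases smul_eq_zero.1 h3 with h4 | h4
  · exact (Units.ext (sub_eq_zero.1 h4)).symm
  · exact absurd h4 hne

/-- **the `T`-characters of `V^U` are conjugate** -/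
theorem exists_mv (hG : GG cs h T X = ⊤) (hρ : ρ.IsIrreducible) {l l' : T →* ℂˣ}
    (hl : Vl cs h T X ρ l ≠ ⊥) (hl' : Vl cs h T X ρ l' ≠ ⊥) : ∃ w, Mv cs R.nsys w l l' := by
  by_contra hcon
  push Not at hcon
  let Z : Subrepresentation ρ :=
    { toSubmodule := Submodule.span ℂ {x | ∃ g : Y, ∃ v ∈ Vl cs h T X ρ l, x = ρ g v}
      apply_mem_toSubmodule := fun g v hv => by
        refine Submodule.span_induction
          (p := fun v _ => ρ g v ∈ Submodule.span ℂ {x | ∃ g : Y, ∃ v ∈ Vl cs h T X ρ l, x = ρ g v}) ?_ ?_ ?_ ?_ hv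
        · rintro _ ⟨k, v, hv, rfl⟩
          refine Submodule.subset_span ⟨g * k, v, hv, ?_⟩
          rw [map_mul, Module.End.mul_apply]
        · rw [map_zero]
          exact Submodule.zero_mem _
        · intro x y _ _ hx hy
          rw [map_add]
          exact Submodule.add_mem _ hx hy
        · intro a x _ hx
          rw [map_smul]
          exact Submodule.smul_mem _ _ hx }
  have hZ : Z.toSubmodule = ⊤ := by
    rcases hρ.2 Z with h1 | h1
    · exfalso
      apply hl
      rw [eq_bot_iff]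
      intro v hv
      have h2 : v ∈ Z.toSubmodule := Submodule.subset_span ⟨1, v, hv, by rw [map_one, Module.End.one_apply]⟩
      rw [h1] at h2
      exact h2
    · rw [h1]
      rfl
  apply hl'
  rw [eq_bot_iff]
  intro v hv
  rw [Vl_eq R] at hv
  rw [Submodule.mem_bot, ← el_of_mem hv]
  have h1 : v ∈ Z.toSubmodule := by rw [hZ]; exact Submodule.mem_top
  refine Submodule.span_induction (p := fun v _ => el ρ (RGD.B cs h T X) (lamB R l') v = 0) ?_ ?_ ?_ ?_ h1
  · rintro _ ⟨k, v, hv, rfl⟩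
    obtain ⟨w, b₁, hb₁, g, hg, b₂, hb₂, rfl⟩ := (mem_GG R).1 (show k ∈ GG cs h T X by rw [hG]; exact Subgroup.mem_top k)
    have hv' := hv
    rw [Vl_eq R] at hv'
    have h3 := hv' ⟨b₂, hb₂⟩
    change ρ b₂ v = _ at h3
    rw [map_mul, map_mul, Module.End.mul_apply, Module.End.mul_apply, h3, map_smul, map_smul]
    have h2 := el_rho ρ (RGD.B cs h T X) (lamB R l') ⟨b₁, hb₁⟩ (ρ g v)
    change el ρ _ _ (ρ b₁ (ρ g v)) = _ at h2
    rw [map_smul, h2, el_rho_eq_zero R hg (hcon w) hv, smul_zero, smul_zero]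
  · rw [map_zero]
  · intro x y _ _ hx hy
    rw [map_add, hx, hy, add_zero]
  · intro a x _ hx
    rw [map_smul, hx, smul_zero]

omit [Finite W] [Finite Y] R in
/-- a common eigenvector of an abelian group -/
theorem exists_eig [Finite Y] [FiniteDimensional ℂ V] (hT : ∀ s ∈ T, ∀ t ∈ T, s * t = t * s) {S : Submodule ℂ V} (h0 : S ≠ ⊥)
    (hS : ∀ t ∈ T, ∀ v ∈ S, ρ t v ∈ S) : ∃ l : T →* ℂˣ, ∃ v ∈ S, v ≠ 0 ∧ v ∈ eig ρ T l := by
  classical
  let U : Subrepresentation (ρ.comp T.subtype) := ⟨S, fun g v hv => hS g g.2 v hv⟩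
  have : Nontrivial U.toSubmodule := Submodule.nontrivial_iff_ne_bot.mpr h0
  obtain ⟨N, hN⟩ := Cfsg.Agent.Characters.Core.exists_irreducible_sub U.toRepresentation
  have hNn : Nontrivial N.toSubmodule := by
    by_contra hcon
    rw [not_nontrivial_iff_subsingleton] at hcon
    obtain ⟨a, b, hab⟩ := (hN.1 : Nontrivial (Subrepresentation N.toRepresentation))
    apply hab
    apply Subrepresentation.toSubmodule_injective
    ext x
    rw [Subsingleton.elim x 0]
    exact ⟨fun _ => Submodule.zero_mem _, fun _ => Submodule.zero_mem _⟩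
  -- every element acts by a scalar
  have key : ∀ t : T, ∃ c : ℂ, ∀ x : N.toSubmodule, N.toRepresentation t x = c • x := by
    intro t
    obtain ⟨c, hc⟩ := Module.End.exists_eigenvalue (N.toRepresentation t)
    let E : Subrepresentation N.toRepresentation :=
      { toSubmodule := Module.End.eigenspace (N.toRepresentation t) c
        apply_mem_toSubmodule := fun g v hv => by
          rw [Module.End.mem_eigenspace_iff] at hv ⊢
          rw [← Module.End.mul_apply, ← map_mul, show t * g = g * t from Subtype.ext (hT t t.2 g g.2), map_mul,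
            Module.End.mul_apply, hv, map_smul] }
    rcases hN.2 E with h1 | h1
    · exfalso
      exact hc (congrArg Subrepresentation.toSubmodule h1)
    · refine ⟨c, fun x => ?_⟩
      have h2 : x ∈ E.toSubmodule := by rw [h1]; exact Submodule.mem_top
      exact Module.End.mem_eigenspace_iff.1 h2
  choose c hc using key
  obtain ⟨x, hx⟩ := exists_ne (0 : N.toSubmodule)
  have hv : ∀ t : T, ρ t (x : V) = c t • (x : V) := fun t => congrArg (fun z : N.toSubmodule => ((z : U.toSubmodule) : V)) (hc t x)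
  have hx0 : ((x : U.toSubmodule) : V) ≠ 0 := fun h => hx (Subtype.ext (Subtype.ext h))
  let f : T →* ℂ :=
    { toFun := c
      map_one' := by
        have h1 := hv 1
        rw [Subgroup.coe_one, map_one, Module.End.one_apply] at h1
        have h2 : (c 1 - 1) • ((x : U.toSubmodule) : V) = 0 := by rw [sub_smul, one_smul, ← h1, sub_self]
        rcases smul_eq_zero.1 h2 with h3 | h3
        · exact sub_eq_zero.1 h3
        · exact absurd h3 hx0
      map_mul' := fun s t => by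
        have h1 := hv (s * t)
        rw [Subgroup.coe_mul, map_mul, Module.End.mul_apply, hv t, map_smul, hv s, smul_smul] at h1
        have h2 : (c (s * t) - c s * c t) • ((x : U.toSubmodule) : V) = 0 := by
          rw [sub_smul, ← h1, mul_comm, sub_self]
        rcases smul_eq_zero.1 h2 with h3 | h3
        · exact sub_eq_zero.1 h3
        · exact absurd h3 hx0 }
  exact ⟨f.toHomUnits, x, (x : U.toSubmodule).2, hx0, fun t => hv t⟩

end rep

end Cfsg.Agent.H985.VZ

private theorem dce_4fdbd797b0bc : _root_.True := by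
  try have : _root_.True := by simp only [_root_.Cfsg.Agent.H985.VZ.Mv.congr_simp]
  try have : _root_.True := by simp only [_root_.Cfsg.Agent.Nodes.BNOf.RGD.Pos.congr_simp]
  exact _root_.True.intro
end

-- part: H985/VZ/Fix
section
prune_inst 0x10002104050000000000000000000000220001000000000000400900010020002000000180a0000000000c0400000040000800000000000000000000011900800000000010000000000000000000000000000000000000000000000000000000000000000
set_option linter.all false
open scoped Cfsg.Agent.FastGrp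

-- part: H985/VZ/RankOne
section
/-!
# S4842: the rank one formula (helper985)

`P = B ∪ B n B`, `l` a linear character of `B` fixed by `n`, `p` the projection onto the `l`-eigenspace `E` of a
representation `V` of `P`, `T = p n` on `E`. Then `T² = α T + β` with universal `α`, `β ≠ 0`, and, if `V` is generated by `E`
and `t` has no conjugate in `B`, `tr t = c (2 tr (T | E) - α dim E)` (`rank_one`).
-/

set_option autoImplicit false
set_option linter.unusedSectionVars false

open scoped ComplexConjugate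
open Cfsg

namespace Cfsg.Agent.H985.VZ

open Cfsg.Agent.Characters Module

universe u v

/-- the rank one situation -/
structure RkOne {P : Type u} [Group P] (B : Subgroup P) (n : P) (l : B →* ℂˣ) : Prop where
  nmem : n ∉ B
  sq : n * n ∈ B
  cell : ∀ g : P, g ∈ B ∨ ∃ b ∈ B, ∃ c ∈ B, g = b * n * c
  fix : ∀ b c : B, (c : P) = n * b * n⁻¹ → l c = l b

namespace RkOne

variable {P : Type u} [Group P] {B : Subgroup P} {n : P} {l : B →* ℂˣ}

/-- the operator `v ↦ p (n v)` -/
noncomputable def Tn [Finite P] {V : Type v} [AddCommGroup V] [Module ℂ V] (ρ : Representation ℂ P V) (B : Subgroup P)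
    (n : P) (l : B →* ℂˣ) : Module.End ℂ V := el ρ B l * ρ n * el ρ B l

section

variable {V : Type v} [AddCommGroup V] [Module ℂ V] {ρ : Representation ℂ P V}

theorem Tn_apply [Finite P] {v : V} (hv : v ∈ eig ρ B l) : Tn ρ B n l v = el ρ B l (ρ n v) := by
  unfold Tn
  rw [Module.End.mul_apply, Module.End.mul_apply, el_of_mem hv]

theorem Tn_mem [Finite P] (v : V) : Tn ρ B n l v ∈ eig ρ B l := by
  unfold Tn
  rw [Module.End.mul_apply, Module.End.mul_apply]
  exact el_mem _ _ _ _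

/-- `p (b n c v) = l(b) l(c) T v` -/
theorem el_cell [Finite P] {v : V} (hv : v ∈ eig ρ B l) (b c : B) :
    el ρ B l (ρ (b * n * c) v) = ((l b : ℂ) * (l c : ℂ)) • Tn ρ B n l v := by
  rw [map_mul, map_mul, Module.End.mul_apply, Module.End.mul_apply, el_rho, hv c, map_smul, map_smul, smul_smul,
    Tn_apply hv]

end

variable (H : RkOne B n l)

include H

theorem disj {b c : B} (h : (b : P) * n * c ∈ B) : False := by
  apply H.nmem
  have h2 : n = (b : P)⁻¹ * ((b : P) * n * c) * (c : P)⁻¹ := by group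
  rw [h2]
  exact mul_mem (mul_mem (inv_mem b.2) h) (inv_mem c.2)

/-- the value of a double coset element -/
theorem psi_unique {b c b' c' : B} (h : (b : P) * n * c = b' * n * c') : l b * l c = l b' * l c' := by
  have h1 : (b'⁻¹ * b : B) = (⟨n * (c' * c⁻¹ : B) * n⁻¹, by
      have : n * ((c' * c⁻¹ : B) : P) * n⁻¹ = (b' : P)⁻¹ * b := by
        rw [Subgroup.coe_mul, Subgroup.coe_inv]
        have h3 : n * ((c' : P) * (c : P)⁻¹) * n⁻¹ = (b' : P)⁻¹ * ((b' : P) * n * c') * (c : P)⁻¹ * n⁻¹ := by group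
        rw [h3, ← h]
        group
      rw [this]
      exact mul_mem (inv_mem b'.2) b.2⟩ : B) := by
    apply Subtype.ext
    change (b' : P)⁻¹ * b = n * ((c' * c⁻¹ : B) : P) * n⁻¹
    rw [Subgroup.coe_mul, Subgroup.coe_inv]
    have h3 : n * ((c' : P) * (c : P)⁻¹) * n⁻¹ = (b' : P)⁻¹ * ((b' : P) * n * c') * (c : P)⁻¹ * n⁻¹ := by group
    rw [h3, ← h]
    group
  have h2 : l (b'⁻¹ * b) = l (c' * c⁻¹) := by
    rw [h1]
    exact H.fix _ _ rfl
  rw [map_mul, map_mul, map_inv, map_inv] at h2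
  calc l b * l c = l b' * ((l b')⁻¹ * l b) * l c := by group
    _ = l b' * (l c' * (l c)⁻¹) * l c := by rw [h2]
    _ = l b' * l c' := by group

omit H in
/-- the coefficients -/
noncomputable def ca (B : Subgroup P) (l : B →* ℂˣ) (g : P) : ℂ :=
  open Classical in if hg : g ∈ B then (l ⟨g, hg⟩ : ℂ) else 0

omit H in
/-- the coefficients -/
noncomputable def cb (B : Subgroup P) (n : P) (l : B →* ℂˣ) (g : P) : ℂ :=
  open Classical in if hg : ∃ x : B × B, g = (x.1 : P) * n * x.2 then (l hg.choose.1 : ℂ) * (l hg.choose.2 : ℂ) else 0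

omit H in
theorem ca_of_mem {g : P} (hg : g ∈ B) : ca B l g = (l ⟨g, hg⟩ : ℂ) := by
  unfold ca
  rw [dif_pos hg]

omit H in
theorem ca_of_not {g : P} (hg : g ∉ B) : ca B l g = 0 := by
  unfold ca
  rw [dif_neg hg]

theorem cb_of_mem {g : P} (hg : g ∈ B) : cb B n l g = 0 := by
  unfold cb
  rw [dif_neg]
  rintro ⟨x, rfl⟩
  exact H.disj hg

theorem exists_cb {g : P} (hg : g ∉ B) : ∃ b c : B, g = b * n * c ∧ cb B n l g = (l b : ℂ) * l c := by
  have h1 : ∃ x : B × B, g = (x.1 : P) * n * x.2 := by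
    rcases H.cell g with h | ⟨b, hb, c, hc, e⟩
    · exact absurd h hg
    · exact ⟨(⟨b, hb⟩, ⟨c, hc⟩), e⟩
  refine ⟨h1.choose.1, h1.choose.2, h1.choose_spec, ?_⟩
  unfold cb
  rw [dif_pos h1]

section fin

variable [Finite P] {V : Type v} [AddCommGroup V] [Module ℂ V] {ρ : Representation ℂ P V}

/-- `p (g v) = a(g) v + b(g) T v` -/
theorem el_coef {v : V} (hv : v ∈ eig ρ B l) (g : P) :
    el ρ B l (ρ g v) = ca B l g • v + cb B n l g • Tn ρ B n l v := by
  by_cases hg : g ∈ B
  · rw [ca_of_mem hg, H.cb_of_mem hg, zero_smul, add_zero]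
    have := el_rho ρ B l ⟨g, hg⟩ v
    rwa [el_of_mem hv] at this
  · obtain ⟨b, c, e, h1⟩ := H.exists_cb hg
    rw [ca_of_not hg, h1, zero_smul, zero_add, e]
    exact el_cell hv b c

omit H in
/-- `α` -/
noncomputable def al (B : Subgroup P) (n : P) (l : B →* ℂˣ) : ℂ :=
  (Nat.card B : ℂ)⁻¹ * ∑ᶠ b : B, ((l b)⁻¹ : ℂˣ).val * cb B n l (n * b * n)

omit H in
/-- `β` -/
noncomputable def be (B : Subgroup P) (n : P) (l : B →* ℂˣ) : ℂ :=
  (Nat.card B : ℂ)⁻¹ * ∑ᶠ b : B, ((l b)⁻¹ : ℂˣ).val * ca B l (n * b * n)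

theorem Tn_sq {v : V} (hv : v ∈ eig ρ B l) :
    Tn ρ B n l (Tn ρ B n l v) = al B n l • Tn ρ B n l v + be B n l • v := by
  classical
  let _ : Fintype B := Fintype.ofFinite B
  rw [Tn_apply (Tn_mem v)]
  conv_lhs => rw [Tn_apply hv, el_apply ρ B l (ρ n v)]
  rw [map_smul, map_smul, map_sum, map_sum]
  have h1 : ∀ b : B, el ρ B l (ρ n (((l b)⁻¹ : ℂˣ).val • ρ b (ρ n v))) =
      (((l b)⁻¹ : ℂˣ).val * ca B l (n * b * n)) • v + (((l b)⁻¹ : ℂˣ).val * cb B n l (n * b * n)) • Tn ρ B n l v := by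
    intro b
    rw [map_smul, map_smul, ← Module.End.mul_apply (ρ b), ← map_mul, ← Module.End.mul_apply (ρ n), ← map_mul,
      ← mul_assoc, H.el_coef hv, smul_add, smul_smul, smul_smul]
  rw [Finset.sum_congr rfl fun b _ => h1 b, Finset.sum_add_distrib, ← Finset.sum_smul, ← Finset.sum_smul, smul_add,
    smul_smul, smul_smul, al, be, finsum_eq_sum_of_fintype, finsum_eq_sum_of_fintype, add_comm]

theorem map_conj {b : B} (hb : n * b * n ∈ B) : l ⟨n * b * n, hb⟩ = l b * l ⟨n * n, H.sq⟩ := by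
  have h1 : n * b * n⁻¹ ∈ B := by
    have h2 : n * b * n⁻¹ = (n * b * n) * (n * n)⁻¹ := by group
    rw [h2]
    exact mul_mem hb (inv_mem H.sq)
  have h3 : (⟨n * b * n, hb⟩ : B) = ⟨n * b * n⁻¹, h1⟩ * ⟨n * n, H.sq⟩ := Subtype.ext (by
    change n * b * n = n * b * n⁻¹ * (n * n)
    group)
  rw [h3, map_mul, H.fix b ⟨n * b * n⁻¹, h1⟩ rfl]

omit H in
/-- the number of `b` with `n b n ∈ B` -/
noncomputable def dd (B : Subgroup P) (n : P) : ℕ := Nat.card {b : B // n * b * n ∈ B}

theorem dd_pos : 0 < dd B n := by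
  unfold dd
  have : Nonempty {b : B // n * b * n ∈ B} := ⟨⟨1, by rw [Subgroup.coe_one, mul_one]; exact H.sq⟩⟩
  exact Nat.card_pos

theorem be_eq : be B n l = (dd B n : ℂ) * (l ⟨n * n, H.sq⟩ : ℂ) / (Nat.card B : ℂ) := by
  classical
  let _ : Fintype B := Fintype.ofFinite B
  have h1 : ∀ b : B, ((l b)⁻¹ : ℂˣ).val * ca B l (n * b * n) = if n * b * n ∈ B then (l ⟨n * n, H.sq⟩ : ℂ) else 0 := by
    intro b
    split_ifs with hb
    · rw [ca_of_mem hb, H.map_conj hb, Units.val_mul, ← mul_assoc, Units.inv_mul, one_mul]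
    · rw [ca_of_not hb, mul_zero]
  rw [be, finsum_eq_sum_of_fintype, Finset.sum_congr rfl fun b _ => h1 b, ← Finset.sum_filter, Finset.sum_const,
    nsmul_eq_mul, dd, Nat.card_eq_fintype_card (α := {b : B // n * b * n ∈ B}), Fintype.card_subtype, div_eq_inv_mul]

theorem be_ne : be B n l ≠ 0 := by
  rw [H.be_eq]
  refine div_ne_zero (mul_ne_zero ?_ (Units.ne_zero _)) (card_ne B)
  exact_mod_cast H.dd_pos.ne'

/-- the size of the big cell -/
theorem card_cell : Nat.card {g : P // g ∉ B} * dd B n = Nat.card B * Nat.card B := by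
  classical
  -- the map `(b, c) ↦ b n c`
  let f : B × B → {g : P // g ∉ B} := fun x => ⟨x.1 * n * x.2, fun h => H.disj h⟩
  have hfib : ∀ g : {g : P // g ∉ B}, Nat.card {x : B × B // f x = g} = dd B n := by
    intro g
    obtain ⟨b₀, c₀, e, -⟩ := H.exists_cb g.2
    refine (Nat.card_congr ?_).symm
    have hm : ∀ d : {b : B // n * b * n ∈ B}, n * (d.1 : P) * n⁻¹ ∈ B := by
      intro d
      have h2 : n * (d.1 : P) * n⁻¹ = (n * d.1 * n) * (n * n)⁻¹ := by group
      rw [h2]
      exact mul_mem d.2 (inv_mem H.sq)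
    refine
      { toFun := fun d => ⟨(b₀ * ⟨n * (d.1 : P) * n⁻¹, hm d⟩, d.1⁻¹ * c₀), Subtype.ext (by
          change (b₀ : P) * (n * (d.1 : P) * n⁻¹) * n * ((d.1 : P)⁻¹ * (c₀ : P)) = g
          rw [e]
          group)⟩
        invFun := fun x => ⟨c₀ * x.1.2⁻¹, by
          have h1 : (x.1.1 : P) * n * x.1.2 = b₀ * n * c₀ := by
            have := congrArg Subtype.val x.2
            rw [e] at this
            exact this
          have h2 : n * ((c₀ * x.1.2⁻¹ : B) : P) * n = ((b₀ : P)⁻¹ * x.1.1) * (n * n) := by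
            rw [Subgroup.coe_mul, Subgroup.coe_inv]
            have h3 : n * (c₀ : P) = (b₀ : P)⁻¹ * ((x.1.1 : P) * n * x.1.2) := by rw [h1]; group
            rw [← mul_assoc n, h3]
            group
          rw [h2]
          exact mul_mem (mul_mem (inv_mem b₀.2) x.1.1.2) H.sq⟩
        left_inv := fun d => Subtype.ext (by simp)
        right_inv := ?_ }
    intro x
    have h1 : (x.1.1 : P) * n * x.1.2 = b₀ * n * c₀ := by
      have := congrArg Subtype.val x.2
      rw [e] at this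
      exact this
    apply Subtype.ext
    apply Prod.ext
    · apply Subtype.ext
      change (b₀ : P) * (n * ((c₀ * x.1.2⁻¹ : B) : P) * n⁻¹) = x.1.1
      rw [Subgroup.coe_mul, Subgroup.coe_inv]
      have h3 : (b₀ : P) * (n * ((c₀ : P) * (x.1.2 : P)⁻¹) * n⁻¹) = (b₀ * n * c₀) * (x.1.2 : P)⁻¹ * n⁻¹ := by group
      rw [h3, ← h1]
      group
    · simp
  have h1 : Nat.card (B × B) = Nat.card {g : P // g ∉ B} * dd B n := by
    let _ : Fintype {g : P // g ∉ B} := Fintype.ofFinite _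
    rw [← Nat.card_congr (Equiv.sigmaFiberEquiv f), Nat.card_sigma, Finset.sum_congr rfl fun g _ => hfib g,
      Finset.sum_const, Finset.card_univ, smul_eq_mul, Nat.card_eq_fintype_card (α := {g : P // g ∉ B})]
  rw [← h1, Nat.card_prod]

omit H in
/-- the operator `s = |B|⁻¹ ∑ g p g⁻¹` -/
noncomputable def ss (ρ : Representation ℂ P V) (B : Subgroup P) (l : B →* ℂˣ) : Module.End ℂ V :=
  (Nat.card B : ℂ)⁻¹ • ∑ᶠ g : P, ρ g * el ρ B l * ρ g⁻¹

omit H in
theorem ss_comm (k : P) (v : V) : ss ρ B l (ρ k v) = ρ k (ss ρ B l v) := by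
  classical
  let _ : Fintype P := Fintype.ofFinite P
  unfold ss
  rw [finsum_eq_sum_of_fintype, LinearMap.smul_apply, LinearMap.smul_apply, map_smul, LinearMap.sum_apply,
    LinearMap.sum_apply, map_sum]
  congr 1
  refine (Fintype.sum_equiv (Equiv.mulLeft k) _ _ fun g => ?_).symm
  change ρ k ((ρ g * el ρ B l * ρ g⁻¹) v) = (ρ (k * g) * el ρ B l * ρ (k * g)⁻¹) (ρ k v)
  simp only [Module.End.mul_apply]
  rw [← Module.End.mul_apply (ρ (k * g)⁻¹), ← map_mul, show (k * g)⁻¹ * k = g⁻¹ by group,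
    ← Module.End.mul_apply (ρ k), ← map_mul]

omit H in
theorem ss_mem {v : V} (hv : v ∈ eig ρ B l) : ss ρ B l v ∈ eig ρ B l := by
  intro b
  rw [← ss_comm, hv b, map_smul]

theorem ss_apply' {v : V} (hv : v ∈ eig ρ B l) : ss ρ B l v = v + (be B n l)⁻¹ • Tn ρ B n l (Tn ρ B n l v) := by
  classical
  let _ : Fintype P := Fintype.ofFinite P
  rw [← el_of_mem (ss_mem hv)]
  have h1 : ss ρ B l v = (Nat.card B : ℂ)⁻¹ • ∑ g : P, ρ g (el ρ B l (ρ g⁻¹ v)) := by
    unfold ss
    rw [finsum_eq_sum_of_fintype, LinearMap.smul_apply, LinearMap.sum_apply]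
    rfl
  have h2 : ∀ g : P, el ρ B l (ρ g (el ρ B l (ρ g⁻¹ v))) =
      if g ∈ B then v else ((l ⟨n * n, H.sq⟩)⁻¹ : ℂˣ).val • Tn ρ B n l (Tn ρ B n l v) := by
    intro g
    split_ifs with hg
    · have e1 := el_rho ρ B l ⟨g, hg⟩⁻¹ v
      rw [el_of_mem hv] at e1
      change el ρ B l (ρ g⁻¹ v) = _ at e1
      rw [e1, map_smul, map_smul]
      have e2 := el_rho ρ B l ⟨g, hg⟩ v
      rw [el_of_mem hv] at e2
      change el ρ B l (ρ g v) = _ at e2
      rw [e2, smul_smul, map_inv, Units.inv_mul, one_smul]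
    · obtain ⟨b, c, e, -⟩ := H.exists_cb hg
      have e3 : g⁻¹ = ((c⁻¹ : B) : P) * n * ((⟨n * n, H.sq⟩⁻¹ * b⁻¹ : B) : P) := by
        rw [e, Subgroup.coe_mul, Subgroup.coe_inv, Subgroup.coe_inv, Subgroup.coe_inv]
        group
      rw [e3, el_cell hv, map_smul, map_smul, e, el_cell (Tn_mem v), smul_smul]
      congr 1
      rw [map_mul, map_inv, map_inv, map_inv, Units.val_mul]
      have h3 : (l c : ℂ) ≠ 0 := Units.ne_zero _
      have h4 : (l b : ℂ) ≠ 0 := Units.ne_zero _
      rw [Units.val_inv_eq_inv_val, Units.val_inv_eq_inv_val, Units.val_inv_eq_inv_val]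
      field_simp
  rw [h1, map_smul, map_sum, Finset.sum_congr rfl fun g _ => h2 g, Finset.sum_ite, Finset.sum_const, Finset.sum_const,
    smul_add, ← Nat.cast_smul_eq_nsmul ℂ, ← Nat.cast_smul_eq_nsmul ℂ, smul_smul, smul_smul, smul_smul]
  have h5 : ((Finset.univ.filter fun g : P => g ∈ B).card : ℂ) = Nat.card B := by
    rw [Nat.card_eq_fintype_card (α := B), ← Fintype.card_subtype]
  have h6 : ((Finset.univ.filter fun g : P => g ∉ B).card : ℂ) = Nat.card {g : P // g ∉ B} := by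
    rw [Nat.card_eq_fintype_card (α := {g : P // g ∉ B}), ← Fintype.card_subtype]
  have h7 : (Nat.card {g : P // g ∉ B} : ℂ) * dd B n = Nat.card B * Nat.card B := by
    exact_mod_cast H.card_cell
  have h8 : (dd B n : ℂ) ≠ 0 := by exact_mod_cast H.dd_pos.ne'
  have h9 : (Nat.card B : ℂ) ≠ 0 := card_ne B
  have h10 : (l ⟨n * n, H.sq⟩ : ℂ) ≠ 0 := Units.ne_zero _
  rw [h5, h6, inv_mul_cancel₀ h9, one_smul, H.be_eq]
  congr 2
  rw [Units.val_inv_eq_inv_val]
  field_simp
  linear_combination h7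

/-- `s = 2 + (α / β) T` on the eigenspace -/
theorem ss_apply {v : V} (hv : v ∈ eig ρ B l) :
    ss ρ B l v = (2 : ℂ) • v + (al B n l / be B n l) • Tn ρ B n l v := by
  rw [H.ss_apply' hv, H.Tn_sq hv, smul_add, smul_smul, smul_smul, inv_mul_cancel₀ H.be_ne, one_smul, two_smul,
    div_eq_inv_mul, add_comm (((be B n l)⁻¹ * al B n l) • _) v, add_assoc]

omit H in
/-- `δ = α² / β` -/
noncomputable def de (B : Subgroup P) (n : P) (l : B →* ℂˣ) : ℂ := al B n l ^ 2 / be B n l

omit H in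
/-- `V` is generated by the eigenspace -/
def Gen (ρ : Representation ℂ P V) (B : Subgroup P) (l : B →* ℂˣ) : Prop :=
  ∀ S : Submodule ℂ V, (∀ g : P, ∀ v ∈ eig ρ B l, ρ g v ∈ S) → S = ⊤

theorem ss_sq (hgen : Gen ρ B l) : ss ρ B l * ss ρ B l = (4 + de B n l) • (ss ρ B l - 1) := by
  have h1 := hgen (LinearMap.ker (ss ρ B l * ss ρ B l - (4 + de B n l) • (ss ρ B l - 1))) fun g v hv => by
    rw [LinearMap.mem_ker, LinearMap.sub_apply, sub_eq_zero, Module.End.mul_apply, LinearMap.smul_apply,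
      LinearMap.sub_apply, Module.End.one_apply, ss_comm, ss_comm, ← map_sub, ← map_smul]
    congr 1
    have e1 := H.ss_apply hv
    have e2 := H.ss_apply (Tn_mem (ρ := ρ) (B := B) (n := n) (l := l) v)
    have e3 := H.Tn_sq hv
    rw [e3] at e2
    rw [e1, map_add, map_smul, map_smul, e1, e2, de]
    have h3 := H.be_ne
    match_scalars <;> field_simp <;> ring
  rw [LinearMap.ker_eq_top, sub_eq_zero] at h1
  exact h1

omit H in
theorem trace_ss [FiniteDimensional ℂ V] :
    LinearMap.trace ℂ V (ss ρ B l) = (Nat.card B : ℂ)⁻¹ * (Nat.card P * finrank ℂ (eig ρ B l)) := by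
  classical
  let _ : Fintype P := Fintype.ofFinite P
  unfold ss
  rw [finsum_eq_sum_of_fintype, map_smul, map_sum, smul_eq_mul, Finset.sum_congr rfl (g := fun _ =>
    (finrank ℂ (eig ρ B l) : ℂ)), Finset.sum_const, Finset.card_univ, nsmul_eq_mul, Nat.card_eq_fintype_card (α := P)]
  intro g _
  rw [LinearMap.trace_mul_comm, ← mul_assoc, ← map_mul, inv_mul_cancel, map_one, one_mul, trace_el]

theorem four_add_ne [FiniteDimensional ℂ V] (hgen : Gen ρ B l) (hE : eig ρ B l ≠ ⊥) : 4 + de B n l ≠ 0 := by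
  intro h0
  have h1 := H.ss_sq hgen
  rw [h0, zero_smul] at h1
  have h2 : IsNilpotent (ss ρ B l) := ⟨2, by rw [pow_two, h1]⟩
  have h3 := (LinearMap.isNilpotent_trace_of_isNilpotent h2).eq_zero
  rw [trace_ss] at h3
  have h4 : (Nat.card P : ℂ) ≠ 0 := by exact_mod_cast Nat.card_pos.ne'
  have h5 : (finrank ℂ (eig ρ B l) : ℂ) ≠ 0 := by
    intro h
    apply hE
    exact Submodule.finrank_eq_zero.1 (by exact_mod_cast h)
  exact mul_ne_zero (inv_ne_zero (card_ne B)) (mul_ne_zero h4 h5) h3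

/-- **the rank one trace formula** -/
theorem trace_eq [FiniteDimensional ℂ V] (hgen : Gen ρ B l) {t : P} (ht : ∀ g : P, g⁻¹ * t * g ∉ B) :
    (4 + de B n l) * LinearMap.trace ℂ V (ρ t) = ((Nat.card B : ℂ)⁻¹ * ∑ᶠ g : P, cb B n l (g⁻¹ * t * g)) *
      (2 * LinearMap.trace ℂ V (Tn ρ B n l) - al B n l * finrank ℂ (eig ρ B l)) := by
  classical
  let _ : Fintype P := Fintype.ofFinite P
  have h1 := H.ss_sq hgen
  have h2 : (4 + de B n l) • (1 : Module.End ℂ V) = ss ρ B l * ((4 + de B n l) • 1 - ss ρ B l) := by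
    rw [mul_sub, h1, mul_smul_comm, mul_one, smul_sub]
    abel
  -- `f` commutes with the group and with the projection
  have hf : ∀ (k : P) (v : V), ((4 + de B n l) • (1 : Module.End ℂ V) - ss ρ B l) (ρ k v) =
      ρ k (((4 + de B n l) • (1 : Module.End ℂ V) - ss ρ B l) v) := by
    intro k v
    rw [LinearMap.sub_apply, LinearMap.sub_apply, LinearMap.smul_apply, LinearMap.smul_apply, Module.End.one_apply,
      Module.End.one_apply, ss_comm, map_sub, map_smul]
  set f := (4 + de B n l) • (1 : Module.End ℂ V) - ss ρ B l with hfd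
  have hfe : f * el ρ B l = el ρ B l * f := by
    let _ : Fintype B := Fintype.ofFinite B
    ext v
    rw [Module.End.mul_apply, Module.End.mul_apply, el_apply, el_apply, map_smul, map_sum]
    congr 1
    refine Finset.sum_congr rfl fun b _ => ?_
    rw [map_smul, hf]
  have hfk : ∀ k : P, f * ρ k = ρ k * f := fun k => LinearMap.ext fun v => hf k v
  have hee : el ρ B l * el ρ B l = el ρ B l := LinearMap.ext fun v => el_idem ρ B l v
  -- the operator `p x p` for `x ∉ B`
  have hx : ∀ x : P, x ∉ B → el ρ B l * ρ x * el ρ B l = cb B n l x • Tn ρ B n l := by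
    intro x hx
    ext v
    rw [Module.End.mul_apply, Module.End.mul_apply, H.el_coef (el_mem ρ B l v), ca_of_not hx, zero_smul, zero_add,
      LinearMap.smul_apply]
    congr 1
    unfold Tn
    rw [Module.End.mul_apply, Module.End.mul_apply, Module.End.mul_apply, Module.End.mul_apply, el_idem]
  -- `T f`
  have hTf : f * Tn ρ B n l = (2 : ℂ) • Tn ρ B n l - al B n l • el ρ B l := by
    ext v
    have e1 := H.ss_apply (Tn_mem (ρ := ρ) (B := B) (n := n) (l := l) v)
    have e2 := H.Tn_sq (el_mem ρ B l v)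
    have e3 : Tn ρ B n l (el ρ B l v) = Tn ρ B n l v := by
      unfold Tn
      rw [Module.End.mul_apply, Module.End.mul_apply, Module.End.mul_apply, Module.End.mul_apply, el_idem]
    rw [e3] at e2
    rw [e2] at e1
    rw [Module.End.mul_apply, hfd, LinearMap.sub_apply, LinearMap.smul_apply, Module.End.one_apply, e1,
      LinearMap.sub_apply, LinearMap.smul_apply, LinearMap.smul_apply, de]
    have h3 := H.be_ne
    match_scalars <;> field_simp <;> ring
  have h3 : (4 + de B n l) * LinearMap.trace ℂ V (ρ t) = LinearMap.trace ℂ V (ρ t * (ss ρ B l * f)) := by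
    rw [← h2, mul_smul_comm, mul_one, map_smul, smul_eq_mul]
  have h4 : ∀ g : P, LinearMap.trace ℂ V (ρ t * (ρ g * el ρ B l * ρ g⁻¹ * f)) = cb B n l (g⁻¹ * t * g) *
      (2 * LinearMap.trace ℂ V (Tn ρ B n l) - al B n l * finrank ℂ (eig ρ B l)) := by
    intro g
    have e1 : ρ t * (ρ g * el ρ B l * ρ g⁻¹ * f) = (ρ t * ρ g * el ρ B l * f) * ρ g⁻¹ := by
      rw [mul_assoc _ (ρ g⁻¹) f, ← hfk]
      simp only [mul_assoc]
    have e2 : ρ g⁻¹ * (ρ t * ρ g * el ρ B l * f) = ρ (g⁻¹ * t * g) * el ρ B l * f := by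
      rw [map_mul, map_mul]
      simp only [mul_assoc]
    have e3 : ρ (g⁻¹ * t * g) * el ρ B l * f = (ρ (g⁻¹ * t * g) * el ρ B l * f) * el ρ B l := by
      calc ρ (g⁻¹ * t * g) * el ρ B l * f = ρ (g⁻¹ * t * g) * (el ρ B l * el ρ B l) * f := by rw [hee]
        _ = ρ (g⁻¹ * t * g) * el ρ B l * (el ρ B l * f) := by simp only [mul_assoc]
        _ = ρ (g⁻¹ * t * g) * el ρ B l * (f * el ρ B l) := by rw [hfe]
        _ = _ := by simp only [mul_assoc]
    have e5 : f * Tn ρ B n l = Tn ρ B n l * f := by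
      unfold Tn
      calc f * (el ρ B l * ρ n * el ρ B l) = (f * el ρ B l) * (ρ n * el ρ B l) := by simp only [mul_assoc]
        _ = el ρ B l * ((f * ρ n) * el ρ B l) := by rw [hfe]; simp only [mul_assoc]
        _ = el ρ B l * ρ n * (f * el ρ B l) := by rw [hfk]; simp only [mul_assoc]
        _ = _ := by rw [hfe]; simp only [mul_assoc]
    have e4 : el ρ B l * (ρ (g⁻¹ * t * g) * el ρ B l * f) = cb B n l (g⁻¹ * t * g) • (f * Tn ρ B n l) := by
      rw [← mul_assoc, ← mul_assoc, hx _ (ht g), smul_mul_assoc, e5]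
    rw [e1, LinearMap.trace_mul_comm, e2, e3, LinearMap.trace_mul_comm, e4, hTf, map_smul, map_sub, map_smul, map_smul,
      trace_el, smul_eq_mul, smul_eq_mul, smul_eq_mul]
  rw [h3]
  have h5 : ρ t * (ss ρ B l * f) = (Nat.card B : ℂ)⁻¹ • ∑ g : P, ρ t * (ρ g * el ρ B l * ρ g⁻¹ * f) := by
    unfold ss
    rw [finsum_eq_sum_of_fintype, smul_mul_assoc, mul_smul_comm, Finset.sum_mul, Finset.mul_sum]
  rw [h5, map_smul, map_sum, Finset.sum_congr rfl fun g _ => h4 g, ← Finset.sum_mul, finsum_eq_sum_of_fintype,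
    smul_eq_mul, mul_assoc]

/-- if `tr t ≠ 0` then `2 tr T ≠ α dim E` -/
theorem trace_ne [FiniteDimensional ℂ V] (hgen : Gen ρ B l) (hE : eig ρ B l ≠ ⊥) {t : P}
    (ht : ∀ g : P, g⁻¹ * t * g ∉ B) (h0 : LinearMap.trace ℂ V (ρ t) ≠ 0) :
    2 * LinearMap.trace ℂ V (Tn ρ B n l) ≠ al B n l * finrank ℂ (eig ρ B l) := by
  intro h1
  have h2 := H.trace_eq hgen ht
  rw [h1, sub_self, mul_zero] at h2
  rcases mul_eq_zero.1 h2 with h | h
  · exact H.four_add_ne hgen hE h
  · exact h0 h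

end fin

end RkOne

end Cfsg.Agent.H985.VZ
end

-- part: H985/VZ/Rep
section
/-!
# S4842: abstract lemmas on representations (helper985)

* `el_sub`, `el_comap` : the projections in a subrepresentation and in the restriction along an injective map;
* `char_zero` : `χ(t) = 0` if `χ` is irreducible, `E = eig B l ≠ 0` and `p (g⁻¹ t g) p = 0` for all `g`;
* `char_eq_zero_of_irr` : `χ_M(t) = 0` if `χ_N(t) = 0` for all irreducible subrepresentations `N` of `M`.
-/

set_option autoImplicit false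
set_option linter.unusedSectionVars false

open Cfsg

namespace Cfsg.Agent.H985.VZ

open Module Cfsg.Agent.Characters.Core

universe u v

section

variable {P : Type u} [Group P] {V : Type v} [AddCommGroup V] [Module ℂ V] {σ : Representation ℂ P V}

theorem mem_eig_sub (N : Subrepresentation σ) (B : Subgroup P) (l : B →* ℂˣ) (x : N.toSubmodule) :
    x ∈ eig N.toRepresentation B l ↔ (x : V) ∈ eig σ B l := by
  constructor
  · intro hx b
    exact congrArg Subtype.val (hx b)
  · intro hx b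
    exact Subtype.ext (hx b)

theorem el_sub [Finite P] (N : Subrepresentation σ) (B : Subgroup P) (l : B →* ℂˣ) (x : N.toSubmodule) :
    ((el N.toRepresentation B l x : N.toSubmodule) : V) = el σ B l x := by
  classical
  let _ : Fintype B := Fintype.ofFinite B
  rw [el_apply, el_apply, Submodule.coe_smul, AddSubmonoidClass.coe_finsetSum]
  rfl

variable {Y : Type*} [Group Y] {ρ : Representation ℂ Y V}

theorem mem_eig_comap (ι : P →* Y) {B : Subgroup Y} (hB : B ≤ ι.range) (l : B →* ℂˣ) (v : V) :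
    v ∈ eig (ρ.comp ι) (B.comap ι) (l.comp (ι.subgroupComap B)) ↔ v ∈ eig ρ B l := by
  constructor
  · rintro hv ⟨b, hb⟩
    obtain ⟨x, rfl⟩ := hB hb
    exact hv ⟨x, hb⟩
  · rintro hv ⟨b, hb⟩
    exact hv ⟨ι b, hb⟩

theorem el_comap [Finite P] [Finite Y] (ι : P →* Y) (hι : Function.Injective ι) {B : Subgroup Y} (hB : B ≤ ι.range)
    (l : B →* ℂˣ) (v : V) : el (ρ.comp ι) (B.comap ι) (l.comp (ι.subgroupComap B)) v = el ρ B l v := by
  classical
  let _ : Fintype B := Fintype.ofFinite B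
  let _ : Fintype (B.comap ι) := Fintype.ofFinite _
  have hbij : Function.Bijective (ι.subgroupComap B) := by
    constructor
    · intro a b hab
      exact Subtype.ext (hι (congrArg Subtype.val hab))
    · rintro ⟨b, hb⟩
      obtain ⟨x, rfl⟩ := hB hb
      exact ⟨⟨x, hb⟩, rfl⟩
  rw [el_apply, el_apply, Nat.card_congr (Equiv.ofBijective _ hbij)]
  congr 1
  exact Fintype.sum_bijective _ hbij _ _ fun x => rfl

/-- Schur -/
theorem schur [FiniteDimensional ℂ V] (hσ : σ.IsIrreducible) {f : Module.End ℂ V}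
    (hf : ∀ g v, f (σ g v) = σ g (f v)) : ∃ c : ℂ, ∀ v, f v = c • v := by
  have hn : Nontrivial V := by
    by_contra hcon
    rw [not_nontrivial_iff_subsingleton] at hcon
    obtain ⟨a, b, hab⟩ := (hσ.1 : Nontrivial (Subrepresentation σ))
    apply hab
    apply Subrepresentation.toSubmodule_injective
    ext x
    rw [Subsingleton.elim x 0]
    exact ⟨fun _ => Submodule.zero_mem _, fun _ => Submodule.zero_mem _⟩
  obtain ⟨c, hc⟩ := Module.End.exists_eigenvalue f
  let E : Subrepresentation σ :=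
    { toSubmodule := Module.End.eigenspace f c
      apply_mem_toSubmodule := fun g v hv => by
        rw [Module.End.mem_eigenspace_iff] at hv ⊢
        rw [hf, hv, map_smul] }
  rcases hσ.2 E with h1 | h1
  · exact absurd (congrArg Subrepresentation.toSubmodule h1) hc
  · refine ⟨c, fun v => ?_⟩
    have h2 : v ∈ E.toSubmodule := by rw [h1]; exact Submodule.mem_top
    exact Module.End.mem_eigenspace_iff.1 h2

/-- the vanishing lemma -/
theorem char_zero [Finite P] [FiniteDimensional ℂ V] (hσ : σ.IsIrreducible) {B : Subgroup P} {l : B →* ℂˣ}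
    (hE : eig σ B l ≠ ⊥) {t : P} (h : ∀ g : P, ∀ v ∈ eig σ B l, el σ B l (σ (g⁻¹ * t * g) v) = 0) :
    σ.character t = 0 := by
  classical
  let _ : Fintype P := Fintype.ofFinite P
  obtain ⟨c, hc⟩ := schur hσ (f := RkOne.ss σ B l) fun g v => RkOne.ss_comm g v
  have h1 : RkOne.ss σ B l = c • 1 := LinearMap.ext fun v => hc v
  have h2 := RkOne.trace_ss (ρ := σ) (B := B) (l := l)
  have hc0 : c ≠ 0 := by
    rintro rfl
    rw [h1, zero_smul, map_zero] at h2
    have h4 : (Nat.card P : ℂ) ≠ 0 := by exact_mod_cast Nat.card_pos.ne'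
    have h5 : (finrank ℂ (eig σ B l) : ℂ) ≠ 0 := by
      intro h
      apply hE
      exact Submodule.finrank_eq_zero.1 (by exact_mod_cast h)
    exact mul_ne_zero (inv_ne_zero (card_ne B)) (mul_ne_zero h4 h5) h2.symm
  have h3 : LinearMap.trace ℂ V (σ t * RkOne.ss σ B l) = c * σ.character t := by
    rw [h1, mul_smul_comm, mul_one, map_smul, smul_eq_mul]
    rfl
  have hee : el σ B l * el σ B l = el σ B l := LinearMap.ext fun v => el_idem σ B l v
  have h4 : LinearMap.trace ℂ V (σ t * RkOne.ss σ B l) = 0 := by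
    unfold RkOne.ss
    rw [finsum_eq_sum_of_fintype, mul_smul_comm, map_smul, Finset.mul_sum, map_sum, Finset.sum_eq_zero, smul_zero]
    intro g _
    have e1 : σ t * (σ g * el σ B l * σ g⁻¹) = (σ t * σ g * el σ B l) * σ g⁻¹ := by simp only [mul_assoc]
    have e2 : σ g⁻¹ * (σ t * σ g * el σ B l) = (σ (g⁻¹ * t * g) * el σ B l) * el σ B l := by
      rw [map_mul, map_mul, mul_assoc _ (el σ B l), hee]
      simp only [mul_assoc]
    have e3 : el σ B l * (σ (g⁻¹ * t * g) * el σ B l) = 0 := by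
      ext v
      rw [Module.End.mul_apply, Module.End.mul_apply, h g _ (el_mem σ B l v), LinearMap.zero_apply]
    rw [e1, LinearMap.trace_mul_comm, e2, LinearMap.trace_mul_comm, e3, map_zero]
  rw [h4] at h3
  rcases mul_eq_zero.1 h3.symm with h5 | h5
  · exact absurd h5 hc0
  · exact h5

theorem finrank_mapSub (U : Subrepresentation σ) (U₁ : Subrepresentation U.toRepresentation) :
    finrank ℂ (mapSub U U₁).toSubmodule = finrank ℂ U₁.toSubmodule := Submodule.finrank_map_subtype_eq _ _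

/-- a subrepresentation of a subrepresentation -/
noncomputable def mapSubEquiv (U : Subrepresentation σ) (U₁ : Subrepresentation U.toRepresentation) :
    Representation.Equiv U₁.toRepresentation (mapSub U U₁).toRepresentation :=
  Representation.Equiv.mk (Submodule.equivMapOfInjective U.toSubmodule.subtype U.toSubmodule.subtype_injective _)
    (fun g => by
      ext x
      rfl)

theorem mapSub_le (U : Subrepresentation σ) (U₁ : Subrepresentation U.toRepresentation) :
    (mapSub U U₁).toSubmodule ≤ U.toSubmodule := by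
  rintro _ ⟨w, _, rfl⟩
  exact w.2

/-- the irreducible subrepresentations decide -/
theorem char_eq_zero_of_irr [Finite P] [FiniteDimensional ℂ V] {t : P} (k : ℕ) : ∀ U : Subrepresentation σ,
    finrank ℂ U.toSubmodule ≤ k → (∀ N : Subrepresentation σ, N.toSubmodule ≤ U.toSubmodule →
      N.toRepresentation.IsIrreducible → N.toRepresentation.character t = 0) → U.toRepresentation.character t = 0 := by
  classical
  induction k with
  | zero =>
    intro U hU _
    have h1 : U.toSubmodule = ⊥ := Submodule.finrank_eq_zero.1 (Nat.le_zero.1 hU)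
    have h2 : Subsingleton U.toSubmodule := by
      rw [h1]
      infer_instance
    have h3 : U.toRepresentation t = 0 := LinearMap.ext fun x => Subsingleton.elim _ _
    change LinearMap.trace ℂ _ (U.toRepresentation t) = 0
    rw [h3, map_zero]
  | succ k ih =>
    intro U hU hN
    by_cases h0 : U.toSubmodule = ⊥
    · have h2 : Subsingleton U.toSubmodule := by
        rw [h0]
        infer_instance
      have h3 : U.toRepresentation t = 0 := LinearMap.ext fun x => Subsingleton.elim _ _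
      change LinearMap.trace ℂ _ (U.toRepresentation t) = 0
      rw [h3, map_zero]
    · have : Nontrivial U.toSubmodule := Submodule.nontrivial_iff_ne_bot.mpr h0
      obtain ⟨U₁, hU₁⟩ := exists_irreducible_sub U.toRepresentation
      obtain ⟨U₂, hU₂⟩ := exists_isCompl_sub U₁
      have hpos : 0 < finrank ℂ U₁.toSubmodule := by
        rw [Nat.pos_iff_ne_zero]
        intro h
        have h1 : U₁.toSubmodule = ⊥ := Submodule.finrank_eq_zero.1 h
        obtain ⟨a, b, hab⟩ := (hU₁.1 : Nontrivial (Subrepresentation U₁.toRepresentation))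
        apply hab
        apply Subrepresentation.toSubmodule_injective
        have h2 : Subsingleton U₁.toSubmodule := by
          rw [h1]
          infer_instance
        ext x
        rw [Subsingleton.elim x 0]
        exact ⟨fun _ => Submodule.zero_mem _, fun _ => Submodule.zero_mem _⟩
      have hsum := Submodule.finrank_add_eq_of_isCompl hU₂
      rw [character_eq_add_of_isCompl U₁ U₂ hU₂, Pi.add_apply]
      have e1 : U₁.toRepresentation.character t = 0 := by
        rw [Representation.char_iso (mapSubEquiv U U₁)]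
        exact hN _ (mapSub_le U U₁) (isIrreducible_of_equiv (mapSubEquiv U U₁) hU₁)
      have e2 : U₂.toRepresentation.character t = 0 := by
        rw [Representation.char_iso (mapSubEquiv U U₂)]
        refine ih _ ?_ fun N hNle hNi => hN N (le_trans hNle (mapSub_le U U₂)) hNi
        rw [finrank_mapSub]
        omega
      rw [e1, e2, add_zero]

end

end Cfsg.Agent.H985.VZ
end

-- part: H985/VZ/Fix
section
/-!
# S4842: the values at elliptic elements and the stabilisers of the `T`-characters (helper985)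

* `exists_Vl` : `V^U ≠ 0` contains an eigenvector of `T`;
* `exists_fix_J` : `t` elliptic in `L_J`, `χ(t) ≠ 0`, `V^U ≠ 0`: some `l` in `V^U` has no `W_J`-conjugate whose stabiliser in `W_J`
  lies in a proper `W_K`;
* `exists_fix` : the case `J = {a}`.
-/

set_option autoImplicit false
set_option linter.unusedSectionVars false

open Cfsg

namespace Cfsg.Agent.H985.VZ

open CoxeterSystem Cfsg.Agent.ChevalleyStructure.CoxeterGeom Cfsg.Agent.Tits.Roots Cfsg.Agent.Tits.Core
  Cfsg.Agent.Tits.Exchange Cfsg.Agent.Nodes.Reps Cfsg.Agent.Nodes.BNOf Cfsg.Agent.Nodes.StabComb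
  Cfsg.Agent.Nodes.Bruhat Cfsg.Agent.Nodes.OppDec Cfsg.Agent.Nodes.LeviDec Module

universe u v

variable {I W : Type*} {Y : Type u} [Fintype I] [DecidableEq I] [Group W] [Group Y] {M : CoxeterMatrix I}
  {cs : CoxeterSystem M W} {A : I → I → ℤ} {h : IsCartan M A} {p : ℕ} {T : Subgroup Y} {n : I → Y}
  {X : (I → ℤ) → Subgroup Y} (R : RGD cs h p T n X) [Finite W] [Finite Y] {V : Type v} [AddCommGroup V] [Module ℂ V]
  {ρ : Representation ℂ Y V}

omit R [Finite W] [Finite Y] in
theorem mem_WJ_single {i : I} {w : W} (h : w ∈ WJ cs {i}) : w = 1 ∨ w = cs.simple i := by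
  obtain ⟨ω, hω, rfl⟩ := exists_word_of_mem_WJ cs h
  clear h
  induction ω with
  | nil => left; exact cs.wordProd_nil
  | cons j ω ih =>
    have hj : j = i := hω j (by simp)
    subst hj
    rw [cs.wordProd_cons]
    rcases ih (fun k hk => hω k (by simp [hk])) with h | h
    · right; rw [h, mul_one]
    · left; rw [h, cs.simple_mul_simple_self]

include R

omit [Finite W] R in
/-- a subspace stable under `B` is stable under the projections -/
theorem el_mem_of_stable {B : Subgroup Y} {l : B →* ℂˣ} {S : Submodule ℂ V} (hS : ∀ b ∈ B, ∀ v ∈ S, ρ b v ∈ S) {v : V}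
    (hv : v ∈ S) : el ρ B l v ∈ S := by
  classical
  let _ : Fintype B := Fintype.ofFinite B
  rw [el_apply]
  exact S.smul_mem _ (S.sum_mem fun b _ => S.smul_mem _ (hS b b.2 v hv))

/-- `p_{l'} n_i v ≠ 0` for `0 ≠ v ∈ V_l`, `l' = s_i l ≠ l` -/
theorem el_n_ne {i : I} {l l' : T →* ℂˣ} (hm : Mv cs R.nsys (cs.simple i) l l') (hne : l ≠ l') {v : V}
    (hv : v ∈ Vl cs h T X ρ l) (hv0 : v ≠ 0) : el ρ (RGD.B cs h T X) (lamB R l') (ρ (n i) v) ≠ 0 := by
  classical
  let _ : Fintype (RGD.B cs h T X) := Fintype.ofFinite _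
  intro hcon
  have hnm : ¬ Mv cs R.nsys (cs.simple i) l l := fun h => hne (h.unique hm)
  have h1 : el ρ (RGD.B cs h T X) (lamB R l) (ρ (n i)⁻¹ (el ρ (RGD.B cs h T X) (lamB R l') (ρ (n i) v))) =
      ((Nat.card (RGD.B cs h T X) : ℂ)⁻¹ * (Finset.univ.filter fun b : RGD.B cs h T X =>
        (n i)⁻¹ * b * n i ∈ RGD.B cs h T X).card) • v := by
    rw [el_apply ρ _ (lamB R l'), map_smul, map_smul, map_sum, map_sum, mul_smul, ← Finset.sum_filter_add_sum_filter_not
      Finset.univ (fun b : RGD.B cs h T X => (n i)⁻¹ * b * n i ∈ RGD.B cs h T X)]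
    have e1 : ∀ b ∈ Finset.univ.filter (fun b : RGD.B cs h T X => (n i)⁻¹ * b * n i ∈ RGD.B cs h T X),
        el ρ (RGD.B cs h T X) (lamB R l) (ρ (n i)⁻¹ (((lamB R l' b)⁻¹ : ℂˣ).val • ρ b (ρ (n i) v))) = v := by
      intro b hb
      have hb' := (Finset.mem_filter.1 hb).2
      rw [map_smul, map_smul, show ρ (n i)⁻¹ (ρ b (ρ (n i) v)) = ρ ((n i)⁻¹ * b * n i) v by
        rw [map_mul, map_mul]; rfl]
      have h2 : lamB R l' b = lamB R l ⟨(n i)⁻¹ * b * n i, hb'⟩ :=
        lamB_conj R (rp_simple cs R.nsys i) hm (b := ⟨_, hb'⟩) (by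
          change (b : Y) = n i * ((n i)⁻¹ * b * n i) * (n i)⁻¹
          group)
      rw [Vl_eq R] at hv
      have h3 := hv ⟨(n i)⁻¹ * b * n i, hb'⟩
      change ρ ((n i)⁻¹ * b * n i) v = _ at h3
      rw [h3, map_smul, el_of_mem hv, smul_smul, h2, Units.inv_mul, one_smul]
    have e2 : ∀ b ∈ Finset.univ.filter (fun b : RGD.B cs h T X => ¬ (n i)⁻¹ * b * n i ∈ RGD.B cs h T X),
        el ρ (RGD.B cs h T X) (lamB R l) (ρ (n i)⁻¹ (((lamB R l' b)⁻¹ : ℂˣ).val • ρ b (ρ (n i) v))) = 0 := by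
      intro b hb
      have hb' := (Finset.mem_filter.1 hb).2
      have h2 : (n i)⁻¹ * b * n i ∈ PJ cs h T X {i} := by
        have hn : n i ∈ PJ cs h T X {i} := LJ_le_PJ (n_mem_LJ R rfl)
        exact mul_mem (mul_mem (inv_mem hn) (B_le_PJ b.2)) hn
      obtain ⟨w, hw, b₁, hb₁, g, hg, b₂, hb₂, e⟩ := (mem_PJ_iff_cell R).1 h2
      have hw' : w = cs.simple i := by
        rcases mem_WJ_single hw with h3 | h3
        · exfalso
          apply hb'
          subst h3
          rw [e]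
          exact mul_mem (mul_mem hb₁ (RGD.T_le_B hg.mem_of_one)) hb₂
        · exact h3
      subst hw'
      rw [map_smul, map_smul, show ρ (n i)⁻¹ (ρ b (ρ (n i) v)) = ρ ((n i)⁻¹ * b * n i) v by
        rw [map_mul, map_mul]; rfl, e, map_mul, map_mul, Module.End.mul_apply, Module.End.mul_apply]
      have hv' := hv
      rw [Vl_eq R] at hv'
      have h3 := hv' ⟨b₂, hb₂⟩
      change ρ b₂ v = _ at h3
      have h4 := el_rho ρ (RGD.B cs h T X) (lamB R l) ⟨b₁, hb₁⟩ (ρ g v)
      change el ρ _ _ (ρ b₁ (ρ g v)) = _ at h4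
      rw [h3, map_smul, map_smul, map_smul, h4, el_rho_eq_zero R hg hnm hv, smul_zero, smul_zero, smul_zero]
    rw [Finset.sum_congr rfl e1, Finset.sum_congr rfl e2, Finset.sum_const_zero, add_zero, Finset.sum_const,
      ← Nat.cast_smul_eq_nsmul ℂ]
  rw [hcon, map_zero, map_zero] at h1
  rcases smul_eq_zero.1 h1.symm with h2 | h2
  · rcases mul_eq_zero.1 h2 with h3 | h3
    · exact inv_ne_zero (card_ne _) h3
    · have h4 : (1 : RGD.B cs h T X) ∈ Finset.univ.filter fun b : RGD.B cs h T X =>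
          (n i)⁻¹ * b * n i ∈ RGD.B cs h T X := by
        rw [Finset.mem_filter]
        refine ⟨Finset.mem_univ _, ?_⟩
        rw [Subgroup.coe_one, mul_one, inv_mul_cancel]
        exact one_mem _
      exact (Finset.card_pos.2 ⟨_, h4⟩).ne' (by exact_mod_cast h3)
  · exact hv0 h2

/-- moving along `W_J` in a subspace stable under `P_J` -/
theorem exists_mem_of_mv {J : Set I} {S : Submodule ℂ V} (hS : ∀ g ∈ PJ cs h T X J, ∀ v ∈ S, ρ g v ∈ S) {w : W}
    (hw : w ∈ WJ cs J) : ∀ {l l' : T →* ℂˣ}, Mv cs R.nsys w l l' → (∃ v ∈ S, v ≠ 0 ∧ v ∈ Vl cs h T X ρ l) →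
      ∃ v ∈ S, v ≠ 0 ∧ v ∈ Vl cs h T X ρ l' := by
  have step : ∀ i ∈ J, ∀ {l l' : T →* ℂˣ}, Mv cs R.nsys (cs.simple i) l l' →
      (∃ v ∈ S, v ≠ 0 ∧ v ∈ Vl cs h T X ρ l) → ∃ v ∈ S, v ≠ 0 ∧ v ∈ Vl cs h T X ρ l' := by
    rintro i hi l l' hm ⟨v, hv, hv0, hvl⟩
    by_cases hll : l = l'
    · exact ⟨v, hv, hv0, hll ▸ hvl⟩
    · refine ⟨_, el_mem_of_stable (B := RGD.B cs h T X) (l := lamB R l') (fun b hb v hv => hS b (B_le_PJ hb) v hv)
        (hS (n i) (LJ_le_PJ (n_mem_LJ R hi)) v hv), el_n_ne R hm hll hvl hv0, ?_⟩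
      rw [Vl_eq R]
      exact el_mem _ _ _ _
  obtain ⟨ω, hω, rfl⟩ := exists_word_of_mem_WJ cs hw
  clear hw
  induction ω with
  | nil =>
    intro l l' hm hv
    rw [wordProd_nil] at hm
    rw [← (mv_one l).unique hm]
    exact hv
  | cons i ω ih =>
    intro l l' hm hv
    obtain ⟨l'', hl''⟩ := exists_mv_to (cs := cs) (hN := R.nsys) (cs.wordProd ω) l
    obtain ⟨l3, hl3⟩ := exists_mv_to (cs := cs) (hN := R.nsys) (cs.simple i) l''
    rw [wordProd_cons] at hm
    rw [hm.unique (hl''.mul hl3)]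
    exact step i (hω i (List.mem_cons_self ..)) hl3 (ih (fun j hj => hω j (List.mem_cons_of_mem _ hj)) hl'' hv)

/-- an elliptic element has no `P_J`-conjugate in a smaller parabolic subgroup -/
theorem Ell.not_mem {J K : Set I} {t : Y} (ht : Ell cs h T X J t) (hK : K ⊂ J) {g : Y} (hg : g ∈ PJ cs h T X J) :
    g⁻¹ * t * g ∉ PJ cs h T X K := by
  intro h1
  obtain ⟨l, hl, v, hv, e⟩ := (mem_PJ R).1 (inv_mem hg)
  have hg' : g = v⁻¹ * l⁻¹ := by
    rw [← inv_inv g, e]
    group
  have h2 : l * (t⁻¹ * v * t * v⁻¹) * l⁻¹ ∈ VJ cs h X J := by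
    refine (Subgroup.mem_normalizer_iff.1 (LJ_le_normalizer_VJ R J hl) _).1 (mul_mem ?_ (inv_mem hv))
    have := (Subgroup.mem_normalizer_iff.1 (LJ_le_normalizer_VJ R J (inv_mem ht.toFree.mem)) v).1 hv
    rwa [inv_inv] at this
  refine ht.ell K hK l hl ?_
  have h3 : l * t * l⁻¹ = (g⁻¹ * t * g) * (l * (t⁻¹ * v * t * v⁻¹) * l⁻¹)⁻¹ := by
    rw [e, hg']
    group
  rw [h3]
  exact mul_mem h1 (inv_mem (B_le_PJ (VJ_le_B J h2)))

/-- **the stabilisers of the `T`-characters** -/
theorem exists_fix_J [FiniteDimensional ℂ V] (hG : GG cs h T X = ⊤) (hT : ∀ s ∈ T, ∀ t ∈ T, s * t = t * s)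
    (hρ : ρ.IsIrreducible) (h0 : VU cs h X ρ ≠ ⊥) {J : Set I} {t : Y} (ht : Ell cs h T X J t)
    (hχ : ρ.character t ≠ 0) : ∃ l : T →* ℂˣ, Vl cs h T X ρ l ≠ ⊥ ∧ ∀ v ∈ WJ cs J, ∀ l', Mv cs R.nsys v l l' →
      ∀ K, K ⊂ J → ∃ w ∈ WJ cs J, w ∉ WJ cs K ∧ Mv cs R.nsys w l' l' := by
  classical
  by_contra hcon
  push Not at hcon
  apply hχ
  have htP : t ∈ PJ cs h T X J := LJ_le_PJ ht.toFree.mem
  let ι : ↥(PJ cs h T X J) →* Y := (PJ cs h T X J).subtype
  have hB : RGD.B cs h T X ≤ ι.range := by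
    intro b hb
    exact ⟨⟨b, B_le_PJ hb⟩, rfl⟩
  let U : Subrepresentation (ρ.comp ι) := ⟨fx ρ (VJ cs h X J), fun g v hv => rho_fx_VJ R g.2 hv⟩
  have h1 : ρ.character t = U.toRepresentation.character ⟨t, htP⟩ := by
    rw [ht.toFree.trace_eq R]
    have h2 : ∀ x, (ρ t * av ρ (VJ cs h X J)) x ∈ fx ρ (VJ cs h X J) := fun x => rho_fx_VJ R htP (av_mem ρ _ x)
    rw [← LinearMap.trace_restrict_eq_of_forall_mem (fx ρ (VJ cs h X J)) (ρ t * av ρ (VJ cs h X J)) h2 fun x _ => h2 x]
    change _ = LinearMap.trace ℂ _ (U.toRepresentation ⟨t, htP⟩)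
    congr 1
    ext x
    change ρ t (av ρ (VJ cs h X J) x) = ρ t x
    rw [av_of_mem x.2]
  rw [h1]
  refine char_eq_zero_of_irr _ U le_rfl fun N hNU hNi => ?_
  have hN0 : N.toSubmodule ≠ ⊥ := by
    intro hb
    obtain ⟨a, b, hab⟩ := (hNi.1 : Nontrivial (Subrepresentation N.toRepresentation))
    apply hab
    apply Subrepresentation.toSubmodule_injective
    have h2 : Subsingleton N.toSubmodule := by
      rw [hb]
      infer_instance
    ext x
    rw [Subsingleton.elim x 0]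
    exact ⟨fun _ => Submodule.zero_mem _, fun _ => Submodule.zero_mem _⟩
  have hNs : ∀ g ∈ PJ cs h T X J, ∀ v ∈ N.toSubmodule, ρ g v ∈ N.toSubmodule := fun g hg v hv =>
    N.apply_mem_toSubmodule ⟨g, hg⟩ hv
  -- `N` contains vectors fixed by `U`
  have hNU : N.toSubmodule ⊓ VU cs h X ρ ≠ ⊥ := by
    intro hb
    obtain ⟨N', hN'⟩ := Cfsg.Agent.Characters.Core.exists_isCompl_sub N
    have h2 : ∀ v ∈ VU cs h X ρ, v ∈ N'.toSubmodule := by
      intro v hv
      have h3 : v ∈ N.toSubmodule ⊔ N'.toSubmodule := by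
        rw [hN'.sup_eq_top]
        exact Submodule.mem_top
      obtain ⟨a, ha, b, hb', rfl⟩ := Submodule.mem_sup.1 h3
      have h4 : a ∈ N.toSubmodule ⊓ VU cs h X ρ := by
        refine ⟨ha, fun u hu => ?_⟩
        have huP : u ∈ PJ cs h T X J := B_le_PJ (RGD.U_le_B hu)
        have h5 := hv u hu
        rw [map_add] at h5
        have h6 : ρ u a - a ∈ N.toSubmodule ⊓ N'.toSubmodule := by
          refine ⟨N.toSubmodule.sub_mem (hNs u huP a ha) ha, ?_⟩
          have h7 : ρ u a - a = b - ρ u b := by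
            rw [sub_eq_sub_iff_add_eq_add, h5]
            exact add_comm _ _
          rw [h7]
          exact N'.toSubmodule.sub_mem hb' (N'.apply_mem_toSubmodule ⟨u, huP⟩ hb')
        rw [hN'.inf_eq_bot, Submodule.mem_bot] at h6
        exact sub_eq_zero.1 h6
      rw [hb, Submodule.mem_bot] at h4
      rw [h4, zero_add]
      exact hb'
    have h3 := gen_VJ R hG hρ h0 J (S := N'.toSubmodule) fun g hg v hv =>
      N'.apply_mem_toSubmodule ⟨g, hg⟩ (h2 v hv)
    apply hN0
    rw [eq_bot_iff]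
    intro x hx
    have h4 : x ∈ N.toSubmodule ⊓ N'.toSubmodule := ⟨hx, h3 (hNU hx)⟩
    rw [hN'.inf_eq_bot] at h4
    exact h4
  obtain ⟨l, v, hv, hv0, hvl⟩ := exists_eig hT hNU fun s hs v hv =>
    ⟨hNs s (B_le_PJ (RGD.T_le_B hs)) v hv.1, rho_VU R (RGD.T_le_B hs) hv.2⟩
  have hl : Vl cs h T X ρ l ≠ ⊥ := by
    intro hb
    have h2 : v ∈ Vl cs h T X ρ l := ⟨hv.2, hvl⟩
    rw [hb] at h2
    exact hv0 h2
  obtain ⟨w, hw, l', hm, K, hK, hst⟩ := hcon l hl
  obtain ⟨x, hx, hx0, hxl⟩ := exists_mem_of_mv R hNs hw hm ⟨v, hv.1, hv0, hv.2, hvl⟩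
  have hxl' := hxl
  rw [Vl_eq R] at hxl'
  refine char_zero hNi (B := (RGD.B cs h T X).comap ι) (l := (lamB R l').comp (ι.subgroupComap (RGD.B cs h T X))) ?_
    fun g y hy => ?_
  · intro hb
    have h2 : (⟨x, hx⟩ : N.toSubmodule) ∈ eig N.toRepresentation ((RGD.B cs h T X).comap ι)
        ((lamB R l').comp (ι.subgroupComap (RGD.B cs h T X))) := by
      rw [mem_eig_sub, mem_eig_comap ι hB]
      exact hxl'
    rw [hb] at h2
    exact hx0 (congrArg Subtype.val h2)
  · apply Subtype.ext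
    rw [el_sub, el_comap ι (Subgroup.subtype_injective _) hB]
    rw [mem_eig_sub, mem_eig_comap ι hB, ← Vl_eq R] at hy
    change el ρ _ _ (ρ ((g : Y)⁻¹ * t * g) (y : V)) = 0
    have h3 := ht.not_mem R hK g.2
    have h4 : (g : Y)⁻¹ * t * g ∈ PJ cs h T X J := mul_mem (mul_mem (inv_mem g.2) htP) g.2
    obtain ⟨w', hw', b₁, hb₁, k, hk, b₂, hb₂, e⟩ := (mem_PJ_iff_cell R).1 h4
    have h5 : w' ∉ WJ cs K := by
      intro h6
      apply h3
      rw [mem_PJ_iff_cell R]
      exact ⟨w', h6, b₁, hb₁, k, hk, b₂, hb₂, e⟩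
    have h6 : ¬ Mv cs R.nsys w' l' l' := fun h7 => hst w' hw' h5 h7
    have hy' := hy
    rw [Vl_eq R] at hy'
    have h7 := hy' ⟨b₂, hb₂⟩
    change ρ b₂ (y : V) = _ at h7
    have h8 := el_rho ρ (RGD.B cs h T X) (lamB R l') ⟨b₁, hb₁⟩ (ρ k (y : V))
    change el ρ _ _ (ρ b₁ (ρ k (y : V))) = _ at h8
    rw [e, map_mul, map_mul, Module.End.mul_apply, Module.End.mul_apply, h7, map_smul, map_smul, map_smul, h8,
      el_rho_eq_zero R hk h6 hy, smul_zero, smul_zero]

/-- the case `J = {a}` -/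
theorem exists_fix [FiniteDimensional ℂ V] (hG : GG cs h T X = ⊤) (hT : ∀ s ∈ T, ∀ t ∈ T, s * t = t * s)
    (hρ : ρ.IsIrreducible) (h0 : VU cs h X ρ ≠ ⊥) {a : I} {t : Y} (ht : Ell cs h T X {a} t)
    (hχ : ρ.character t ≠ 0) : ∃ l : T →* ℂˣ, Vl cs h T X ρ l ≠ ⊥ ∧ Mv cs R.nsys (cs.simple a) l l := by
  obtain ⟨l, hl, h1⟩ := exists_fix_J R hG hT hρ h0 ht hχ
  refine ⟨l, hl, ?_⟩
  obtain ⟨w, hw, hw', hm⟩ := h1 1 (one_mem _) l (mv_one l) ∅ (Set.empty_ssubset.2 ⟨a, rfl⟩)
  rcases mem_WJ_single hw with h2 | h2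
  · exfalso
    apply hw'
    rw [h2]
    exact one_mem _
  · rwa [h2] at hm

end Cfsg.Agent.H985.VZ
end

private theorem dce_3b9475bcc2b8 : _root_.True := by
  try have : _root_.True := by simp only [_root_.Cfsg.Agent.H985.VZ.RkOne.dd.eq_1]
  try have : _root_.True := by simp only [_root_.Cfsg.Agent.H985.VZ.RkOne.be.eq_1]
  try have : _root_.True := by simp only [_root_.Cfsg.Agent.H985.VZ.RkOne.Tn.congr_simp]
  try have : _root_.True := by simp only [_root_.Cfsg.Agent.H985.VZ.Vl.congr_simp]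
  try have : _root_.True := by simp only [_root_.Cfsg.Agent.H985.VZ.RkOne.de.eq_1]
  try have : _root_.True := by simp only [_root_.Cfsg.Agent.Nodes.BNOf.RGD.B.congr_simp]
  try have : _root_.True := by simp only [_root_.Cfsg.Agent.H985.VZ.RkOne.al.eq_1]
  exact _root_.True.intro
end

-- part: H985/VZ/Cells
section
prune_inst 0x2400010200004000051200000004100000000003000008800000090020020001060004200400000800800000006000080000400000000a000400000404010080000020400000100016000003010000000000000000000000000000000000204010000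
set_option linter.all false
open scoped Cfsg.Agent.FastGrp

-- part: H985/VZ/TOp
section
/-!
# S4842: the operators `T_i` on `V_l` (helper985)

* `Tq R i l` : `v ↦ p (n_i v)` on `V_l`; `Tq_sq` : `T² = α T + β` (`Al R i l`, `Be R i l`) if `s_i l = l`;
* `tr_ne` : `2 tr T_i ≠ α_i dim V_l` if `t` is elliptic in `L_i`, `χ(t) ≠ 0`, `V^U = V_l`; `disc_ne` : `4 + α²/β ≠ 0`;
* `VU_eq` : `V^U = V_l` if `l` is fixed by `W`;
* `finrank_eq_one` : a common eigenvector of all `T_i` spans `V_l`.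
-/

set_option autoImplicit false
set_option linter.unusedSectionVars false

open Cfsg

namespace Cfsg.Agent.H985.VZ

open CoxeterSystem Cfsg.Agent.ChevalleyStructure.CoxeterGeom Cfsg.Agent.Tits.Roots Cfsg.Agent.Tits.Core
  Cfsg.Agent.Tits.Exchange Cfsg.Agent.Nodes.Reps Cfsg.Agent.Nodes.BNOf Cfsg.Agent.Nodes.StabComb
  Cfsg.Agent.Nodes.Bruhat Cfsg.Agent.Nodes.OppDec Cfsg.Agent.Nodes.LeviDec Module

universe u v

variable {I W : Type*} {Y : Type u} [Fintype I] [DecidableEq I] [Group W] [Group Y] {M : CoxeterMatrix I}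
  {cs : CoxeterSystem M W} {A : I → I → ℤ} {h : IsCartan M A} {p : ℕ} {T : Subgroup Y} {n : I → Y}
  {X : (I → ℤ) → Subgroup Y} (R : RGD cs h p T n X) [Finite W] {V : Type v} [AddCommGroup V] [Module ℂ V]
  {ρ : Representation ℂ Y V}

/-- the Borel subgroup in `P_i` -/
abbrev Bi (cs : CoxeterSystem M W) (h : IsCartan M A) (T : Subgroup Y) (X : (I → ℤ) → Subgroup Y) (i : I) :
    Subgroup ↥(PJ cs h T X {i}) := (RGD.B cs h T X).comap (PJ cs h T X {i}).subtype

include R in
theorem n_mem_Pi (i : I) : n i ∈ PJ cs h T X {i} := LJ_le_PJ (n_mem_LJ R rfl)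

/-- `n_i` in `P_i` -/
def ni (i : I) : ↥(PJ cs h T X {i}) := ⟨n i, n_mem_Pi R i⟩

/-- the inflation of `l` in `P_i` -/
noncomputable def li (i : I) (l : T →* ℂˣ) : Bi cs h T X i →* ℂˣ :=
  (lamB R l).comp ((PJ cs h T X {i}).subtype.subgroupComap (RGD.B cs h T X))

/-- `α_i` -/
noncomputable def Al [Finite Y] (i : I) (l : T →* ℂˣ) : ℂ := RkOne.al (Bi cs h T X i) (ni R i) (li R i l)

/-- `β_i` -/
noncomputable def Be [Finite Y] (i : I) (l : T →* ℂˣ) : ℂ := RkOne.be (Bi cs h T X i) (ni R i) (li R i l)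

/-- the operator `T_i` -/
noncomputable def Tq [Finite Y] (ρ : Representation ℂ Y V) (i : I) (l : T →* ℂˣ) : Module.End ℂ V :=
  el ρ (RGD.B cs h T X) (lamB R l) * ρ (n i) * el ρ (RGD.B cs h T X) (lamB R l)

theorem B_le_range (cs : CoxeterSystem M W) (h : IsCartan M A) (T : Subgroup Y) (X : (I → ℤ) → Subgroup Y) (J : Set I) :
    RGD.B cs h T X ≤ (PJ cs h T X J).subtype.range := fun b hb => ⟨⟨b, B_le_PJ hb⟩, rfl⟩

theorem rkOne {i : I} {l : T →* ℂˣ} (hm : Mv cs R.nsys (cs.simple i) l l) :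
    RkOne (Bi cs h T X i) (ni R i) (li R i l) where
  nmem := fun h1 => by
    have h2 := R.eq_one_of_mem_B (rp_simple cs R.nsys i) (show n i ∈ RGD.B cs h T X from h1)
    have h3 := cs.length_simple i
    rw [h2, cs.length_one] at h3
    exact absurd h3 (by norm_num)
  sq := RGD.T_le_B (X := X) (cs := cs) (h := h) (R.sq_mem_T i)
  cell := by
    rintro ⟨g, hg⟩
    obtain ⟨w, hw, b₁, hb₁, k, hk, b₂, hb₂, rfl⟩ := (mem_PJ_iff_cell R).1 hg
    rcases mem_WJ_single hw with h3 | h3
    · left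
      subst h3
      exact mul_mem (mul_mem hb₁ (RGD.T_le_B hk.mem_of_one)) hb₂
    · right
      subst h3
      have h4 : (n i)⁻¹ * k ∈ T := (rp_simple cs R.nsys i).unique hk
      refine ⟨⟨b₁, B_le_PJ hb₁⟩, hb₁, ⟨(n i)⁻¹ * k * b₂, B_le_PJ (mul_mem (RGD.T_le_B h4) hb₂)⟩,
        mul_mem (RGD.T_le_B h4) hb₂, Subtype.ext ?_⟩
      change b₁ * k * b₂ = b₁ * n i * ((n i)⁻¹ * k * b₂)
      group
  fix := fun b c e => lamB_conj R (rp_simple cs R.nsys i) hm (congrArg Subtype.val e)

section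

variable [Finite Y]

theorem Tn_eq (i : I) (l : T →* ℂˣ) :
    RkOne.Tn (ρ.comp (PJ cs h T X {i}).subtype) (Bi cs h T X i) (ni R i) (li R i l) = Tq R ρ i l := by
  ext v
  unfold RkOne.Tn Tq
  simp only [Module.End.mul_apply]
  unfold li
  rw [el_comap _ (Subgroup.subtype_injective _) (B_le_range cs h T X {i}),
    el_comap _ (Subgroup.subtype_injective _) (B_le_range cs h T X {i})]
  rfl

theorem mem_eig_Bi {i : I} {l : T →* ℂˣ} {v : V} :
    v ∈ eig (ρ.comp (PJ cs h T X {i}).subtype) (Bi cs h T X i) (li R i l) ↔ v ∈ Vl cs h T X ρ l := by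
  unfold li
  rw [mem_eig_comap _ (B_le_range cs h T X {i}), ← Vl_eq R]

theorem Tq_mem (i : I) (l : T →* ℂˣ) (v : V) : Tq R ρ i l v ∈ Vl cs h T X ρ l := by
  rw [Vl_eq R]
  unfold Tq
  simp only [Module.End.mul_apply]
  exact el_mem _ _ _ _

theorem Tq_apply {i : I} {l : T →* ℂˣ} {v : V} (hv : v ∈ Vl cs h T X ρ l) :
    Tq R ρ i l v = el ρ (RGD.B cs h T X) (lamB R l) (ρ (n i) v) := by
  rw [Vl_eq R] at hv
  unfold Tq
  simp only [Module.End.mul_apply]
  rw [el_of_mem hv]

theorem Tq_sq {i : I} {l : T →* ℂˣ} (hm : Mv cs R.nsys (cs.simple i) l l) {v : V} (hv : v ∈ Vl cs h T X ρ l) :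
    Tq R ρ i l (Tq R ρ i l v) = Al R i l • Tq R ρ i l v + Be R i l • v := by
  have h1 := (rkOne R hm).Tn_sq (ρ := ρ.comp (PJ cs h T X {i}).subtype) ((mem_eig_Bi R).2 hv)
  rw [Tn_eq] at h1
  exact h1

theorem Be_ne {i : I} {l : T →* ℂˣ} (hm : Mv cs R.nsys (cs.simple i) l l) : Be R i l ≠ 0 := (rkOne R hm).be_ne

/-- the representation of `P_J` on `V^{V_J}` -/
def UU (ρ : Representation ℂ Y V) (J : Set I) : Subrepresentation (ρ.comp (PJ cs h T X J).subtype) :=
  ⟨fx ρ (VJ cs h X J), fun g _ hv => rho_fx_VJ R g.2 hv⟩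

theorem char_UU [FiniteDimensional ℂ V] {J : Set I} {t : Y} (ht : Free cs h T X J t) :
    ρ.character t = (UU R ρ J).toRepresentation.character ⟨t, LJ_le_PJ ht.mem⟩ := by
  have htP : t ∈ PJ cs h T X J := LJ_le_PJ ht.mem
  rw [ht.trace_eq R]
  have h2 : ∀ x, (ρ t * av ρ (VJ cs h X J)) x ∈ fx ρ (VJ cs h X J) := fun x => rho_fx_VJ R htP (av_mem ρ _ x)
  rw [← LinearMap.trace_restrict_eq_of_forall_mem (fx ρ (VJ cs h X J)) (ρ t * av ρ (VJ cs h X J)) h2 fun x _ => h2 x]
  change _ = LinearMap.trace ℂ _ ((UU R ρ J).toRepresentation ⟨t, htP⟩)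
  congr 1
  ext x
  change ρ t (av ρ (VJ cs h X J) x) = ρ t x
  rw [av_of_mem x.2]

omit R [Finite W] [Finite Y] in
theorem Vl_fx {l : T →* ℂˣ} {J : Set I} {v : V} (hv : v ∈ Vl cs h T X ρ l) : v ∈ fx ρ (VJ cs h X J) := fun _ hu =>
  hv.1 _ (VJ_le_U J hu)

theorem trace_Tq [FiniteDimensional ℂ V] (i : I) (l : T →* ℂˣ) :
    LinearMap.trace ℂ _ (RkOne.Tn (UU R ρ {i}).toRepresentation (Bi cs h T X i) (ni R i) (li R i l)) =
      LinearMap.trace ℂ V (Tq R ρ i l) := by
  have h2 : ∀ x, Tq R ρ i l x ∈ fx ρ (VJ cs h X {i}) := fun x => Vl_fx (Tq_mem R i l x)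
  rw [← LinearMap.trace_restrict_eq_of_forall_mem (fx ρ (VJ cs h X {i})) (Tq R ρ i l) h2 fun x _ => h2 x]
  congr 1
  ext x
  change ((RkOne.Tn (UU R ρ {i}).toRepresentation (Bi cs h T X i) (ni R i) (li R i l) x : _) : V) = Tq R ρ i l (x : V)
  rw [← Tn_eq]
  unfold RkOne.Tn
  simp only [Module.End.mul_apply]
  rw [el_sub]
  change el _ _ _ ((ρ (n i)) ((el (UU R ρ {i}).toRepresentation (Bi cs h T X i) (li R i l) x : _) : V)) = _
  rw [el_sub]
  rfl

theorem finrank_eig_UU [FiniteDimensional ℂ V] (i : I) (l : T →* ℂˣ) :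
    finrank ℂ (eig (UU R ρ {i}).toRepresentation (Bi cs h T X i) (li R i l)) = finrank ℂ (Vl cs h T X ρ l) := by
  have h0 : (finrank ℂ (eig (UU R ρ {i}).toRepresentation (Bi cs h T X i) (li R i l)) : ℂ) =
      finrank ℂ (Vl cs h T X ρ l) := by
    rw [← trace_el, Vl_eq R, ← trace_el]
    have h2 : ∀ x, el ρ (RGD.B cs h T X) (lamB R l) x ∈ fx ρ (VJ cs h X {i}) := fun x =>
      Vl_fx (T := T) (l := l) (by rw [Vl_eq R]; exact el_mem _ _ _ _)
    rw [← LinearMap.trace_restrict_eq_of_forall_mem (fx ρ (VJ cs h X {i})) (el ρ (RGD.B cs h T X) (lamB R l)) h2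
      fun x _ => h2 x]
    congr 1
    ext x
    rw [el_sub]
    unfold li
    rw [el_comap _ (Subgroup.subtype_injective _) (B_le_range cs h T X {i})]
    rfl
  exact_mod_cast h0

theorem gen_UU (hG : GG cs h T X = ⊤) (hρ : ρ.IsIrreducible) {i : I} {l : T →* ℂˣ} (hl : Vl cs h T X ρ l ≠ ⊥)
    (hVU : VU cs h X ρ = Vl cs h T X ρ l) :
    RkOne.Gen (UU R ρ {i}).toRepresentation (Bi cs h T X i) (li R i l) := by
  intro S hS
  have h1 := gen_VJ R hG hρ (by rw [hVU]; exact hl) {i} (S := S.map (UU R ρ {i}).toSubmodule.subtype) fun g hg v hv => by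
    rw [hVU] at hv
    have hv1 : v ∈ fx ρ (VJ cs h X {i}) := Vl_fx hv
    exact ⟨(UU R ρ {i}).toRepresentation ⟨g, hg⟩ ⟨v, hv1⟩, hS ⟨g, hg⟩ ⟨v, hv1⟩
      ((mem_eig_sub _ _ _ _).2 ((mem_eig_Bi R).2 hv)), rfl⟩
  rw [eq_top_iff]
  intro x _
  obtain ⟨y, hy, e⟩ := h1 x.2
  have h2 : y = x := Subtype.ext e
  rwa [← h2]

/-- `4 + α² / β ≠ 0` -/
theorem disc_ne [FiniteDimensional ℂ V] (hG : GG cs h T X = ⊤) (hρ : ρ.IsIrreducible) {i : I} {l : T →* ℂˣ}
    (hm : Mv cs R.nsys (cs.simple i) l l) (hl : Vl cs h T X ρ l ≠ ⊥) (hVU : VU cs h X ρ = Vl cs h T X ρ l) :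
    4 + Al R i l ^ 2 / Be R i l ≠ 0 := by
  refine (rkOne R hm).four_add_ne (gen_UU R hG hρ hl hVU) fun hb => hl ?_
  have h1 := finrank_eig_UU (ρ := ρ) R i l
  rw [hb, finrank_bot] at h1
  exact Submodule.finrank_eq_zero.1 h1.symm

/-- `2 tr T ≠ α dim V_l` -/
theorem tr_ne [FiniteDimensional ℂ V] (hG : GG cs h T X = ⊤) (hρ : ρ.IsIrreducible) {i : I} {l : T →* ℂˣ}
    (hm : Mv cs R.nsys (cs.simple i) l l) (hl : Vl cs h T X ρ l ≠ ⊥) (hVU : VU cs h X ρ = Vl cs h T X ρ l) {t : Y}
    (ht : Ell cs h T X {i} t) (hχ : ρ.character t ≠ 0) :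
    2 * LinearMap.trace ℂ V (Tq R ρ i l) ≠ Al R i l * finrank ℂ (Vl cs h T X ρ l) := by
  rw [← trace_Tq, ← finrank_eig_UU R i l]
  refine (rkOne R hm).trace_ne (gen_UU R hG hρ hl hVU) (fun hb => hl ?_) (t := ⟨t, LJ_le_PJ ht.toFree.mem⟩)
    (fun g hg => ?_) ?_
  · have h1 := finrank_eig_UU (ρ := ρ) R i l
    rw [hb, finrank_bot] at h1
    exact Submodule.finrank_eq_zero.1 h1.symm
  · have h1 := ht.not_mem R (K := ∅) (Set.empty_ssubset.2 ⟨i, rfl⟩) g.2
    exact h1 (B_le_PJ hg)
  · rw [char_UU R ht.toFree] at hχ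
    exact hχ

/-- `l` fixed by `W` -/
theorem mv_of_fix {l : T →* ℂˣ} (hl : ∀ i, Mv cs R.nsys (cs.simple i) l l) (w : W) : Mv cs R.nsys w l l := by
  obtain ⟨ω, rfl⟩ := cs.wordProd_surjective w
  induction ω with
  | nil =>
    rw [wordProd_nil]
    exact mv_one l
  | cons i ω ih =>
    rw [wordProd_cons]
    exact ih.mul (hl i)

theorem VU_eq [FiniteDimensional ℂ V] (hG : GG cs h T X = ⊤) (hT : ∀ s ∈ T, ∀ t ∈ T, s * t = t * s)
    (hρ : ρ.IsIrreducible) {l : T →* ℂˣ} (hl : Vl cs h T X ρ l ≠ ⊥) (hf : ∀ i, Mv cs R.nsys (cs.simple i) l l) :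
    VU cs h X ρ = Vl cs h T X ρ l := by
  apply le_antisymm _ Vl_le
  by_cases hS : VU cs h X ρ ⊓ LinearMap.ker (el ρ (RGD.B cs h T X) (lamB R l)) = ⊥
  · intro v hv
    have h1 : v - el ρ (RGD.B cs h T X) (lamB R l) v ∈ VU cs h X ρ ⊓ LinearMap.ker (el ρ (RGD.B cs h T X) (lamB R l)) := by
      refine ⟨Submodule.sub_mem _ hv (Vl_le (T := T) (l := l) (by rw [Vl_eq R]; exact el_mem _ _ _ _)), ?_⟩
      change el ρ (RGD.B cs h T X) (lamB R l) (v - el ρ (RGD.B cs h T X) (lamB R l) v) = 0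
      rw [map_sub, el_idem, sub_self]
    rw [hS, Submodule.mem_bot, sub_eq_zero] at h1
    rw [h1, Vl_eq R]
    exact el_mem _ _ _ _
  · exfalso
    obtain ⟨l', v, hv, hv0, hvl⟩ := exists_eig hT hS fun t ht v hv => by
      refine ⟨rho_VU R (RGD.T_le_B ht) hv.1, ?_⟩
      have h1 := el_rho ρ (RGD.B cs h T X) (lamB R l) ⟨t, RGD.T_le_B ht⟩ v
      rw [LinearMap.mem_ker.1 hv.2, smul_zero] at h1
      exact LinearMap.mem_ker.2 h1
    have h2 : v ∈ Vl cs h T X ρ l' := ⟨hv.1, hvl⟩
    have h3 : Vl cs h T X ρ l' ≠ ⊥ := fun hb => hv0 (by rw [hb] at h2; exact h2)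
    obtain ⟨w, hw⟩ := exists_mv R hG hρ hl h3
    have h4 : l = l' := (mv_of_fix R hf w).unique hw
    rw [← h4, Vl_eq R] at h2
    apply hv0
    rw [← el_of_mem h2]
    exact LinearMap.mem_ker.1 hv.2

/-- a common eigenvector of the operators `T_i` -/
theorem el_rho_mem_span {l : T →* ℂˣ} (hf : ∀ i, Mv cs R.nsys (cs.simple i) l l) {v : V} (hv : v ∈ Vl cs h T X ρ l)
    (he : ∀ i, ∃ x : ℂ, Tq R ρ i l v = x • v) (k : ℕ) : ∀ w, cs.length w ≤ k → ∀ g, Rp cs R.nsys w g →
      ∃ c : ℂ, el ρ (RGD.B cs h T X) (lamB R l) (ρ g v) = c • v := by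
  have hvB := hv
  rw [Vl_eq R] at hvB
  induction k with
  | zero =>
    intro w hw g hg
    have h1 : w = 1 := cs.length_eq_zero_iff.1 (Nat.le_zero.1 hw)
    subst h1
    have h2 := hvB ⟨g, RGD.T_le_B hg.mem_of_one⟩
    change ρ g v = _ at h2
    exact ⟨_, by rw [h2, map_smul, el_of_mem hvB]⟩
  | succ k ih =>
    intro w hw g hg
    by_cases h1 : w = 1
    · subst h1
      have h2 := hvB ⟨g, RGD.T_le_B hg.mem_of_one⟩
      change ρ g v = _ at h2
      exact ⟨_, by rw [h2, map_smul, el_of_mem hvB]⟩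
    · obtain ⟨i, hi⟩ := cs.exists_leftDescent_of_ne_one h1
      have hi' : cs.length (cs.simple i * w) < cs.length w := hi
      have hg' : Rp cs R.nsys (cs.simple i * w) ((n i)⁻¹ * g) := by
        have h2 := (rp_simple cs R.nsys i).inv.mul hg
        rwa [cs.inv_simple] at h2
      obtain ⟨c, hc⟩ := ih (cs.simple i * w) (by omega) _ hg'
      obtain ⟨x, hx⟩ := he i
      have h3 : 0 ≤ rep cs h (cs.simple i * w)⁻¹ (sr i) := by
        refine nonneg_of_lt cs h _ i ?_
        rw [cs.length_inv, ← cs.length_inv ((cs.simple i * w)⁻¹ * cs.simple i), mul_inv_rev, inv_inv, cs.inv_simple,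
          cs.simple_mul_simple_cancel_left]
        exact hi'
      have h4 := rho_fx_X R hg' (isRoot_sr cs h i) h3 hv.1
      have h5 := el_n R (hf i) h4
      rw [hc, map_smul, map_smul, ← Tq_apply R hv, hx, ← Module.End.mul_apply (ρ (n i)), ← map_mul,
        mul_inv_cancel_left] at h5
      exact ⟨_, by rw [← h5, smul_smul]⟩

theorem finrank_eq_one [FiniteDimensional ℂ V] (hG : GG cs h T X = ⊤) (hρ : ρ.IsIrreducible) {l : T →* ℂˣ}
    (hf : ∀ i, Mv cs R.nsys (cs.simple i) l l) {v : V} (hv : v ∈ Vl cs h T X ρ l) (hv0 : v ≠ 0)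
    (he : ∀ i, ∃ x : ℂ, Tq R ρ i l v = x • v) : Vl cs h T X ρ l = ℂ ∙ v := by
  apply le_antisymm
  · let Z : Subrepresentation ρ :=
      { toSubmodule := Submodule.span ℂ {x | ∃ g : Y, x = ρ g v}
        apply_mem_toSubmodule := fun g v' hv' => by
          refine Submodule.span_induction (p := fun v' _ => ρ g v' ∈ Submodule.span ℂ {x | ∃ g : Y, x = ρ g v})
            ?_ ?_ ?_ ?_ hv'
          · rintro _ ⟨k, rfl⟩
            refine Submodule.subset_span ⟨g * k, ?_⟩
            rw [map_mul, Module.End.mul_apply]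
          · rw [map_zero]
            exact Submodule.zero_mem _
          · intro x y _ _ hx hy
            rw [map_add]
            exact Submodule.add_mem _ hx hy
          · intro a x _ hx
            rw [map_smul]
            exact Submodule.smul_mem _ _ hx }
    have hZ : Z.toSubmodule = ⊤ := by
      rcases hρ.2 Z with h1 | h1
      · exfalso
        apply hv0
        have h2 : v ∈ Z.toSubmodule := Submodule.subset_span ⟨1, by rw [map_one, Module.End.one_apply]⟩
        rw [h1] at h2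
        exact h2
      · rw [h1]
        rfl
    intro x hx
    rw [Vl_eq R] at hx
    rw [← el_of_mem hx]
    have h1 : x ∈ Z.toSubmodule := by rw [hZ]; exact Submodule.mem_top
    refine Submodule.span_induction (p := fun x _ => el ρ (RGD.B cs h T X) (lamB R l) x ∈ (ℂ ∙ v)) ?_ ?_ ?_ ?_ h1
    · rintro _ ⟨k, rfl⟩
      obtain ⟨w, b₁, hb₁, g, hg, b₂, hb₂, rfl⟩ := (mem_GG R).1 (show k ∈ GG cs h T X by rw [hG]; exact Subgroup.mem_top k)
      obtain ⟨c, hc⟩ := el_rho_mem_span R hf hv he _ w le_rfl g hg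
      have hvB := hv
      rw [Vl_eq R] at hvB
      have h3 := hvB ⟨b₂, hb₂⟩
      change ρ b₂ v = _ at h3
      have h4 := el_rho ρ (RGD.B cs h T X) (lamB R l) ⟨b₁, hb₁⟩ (ρ g v)
      change el ρ _ _ (ρ b₁ (ρ g v)) = _ at h4
      rw [map_mul, map_mul, Module.End.mul_apply, Module.End.mul_apply, h3, map_smul, map_smul, map_smul, h4, hc,
        smul_smul, smul_smul]
      exact Submodule.smul_mem _ _ (Submodule.mem_span_singleton_self v)
    · rw [map_zero]
      exact Submodule.zero_mem _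
    · intro x y _ _ hx hy
      rw [map_add]
      exact Submodule.add_mem _ hx hy
    · intro a x _ hx
      rw [map_smul]
      exact Submodule.smul_mem _ _ hx
  · rw [Submodule.span_singleton_le_iff_mem]
    exact hv

end

end Cfsg.Agent.H985.VZ
end

-- part: H985/VZ/Cells
section
/-!
# S4842: the cells and the degree formula for a one-dimensional `V_l` (helper985)

* `card_cell_simple` : `|B s_i w B| = q_i |B w B|` if `l(s_i w) > l(w)`;
* `degree` : `V_l = ℂ v`, `l` fixed by `W`, `T_i v = x_i v`: there is `ψ : W → ℂ` with `ψ 1 = 1`, `ψ (s_i w) = y_i ψ w` if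
  `l(s_i w) > l(w)`, `y_i = q_i x_i² / l(n_i²)`, and `χ(1) |B| ∑ ψ = |Y|`;
* `dih_sum` : the sum of such a function over a dihedral group of order `4 m`.
-/

set_option autoImplicit false
set_option linter.unusedSectionVars false

open Cfsg

namespace Cfsg.Agent.H985.VZ

open CoxeterSystem Cfsg.Agent.ChevalleyStructure.CoxeterGeom Cfsg.Agent.Tits.Roots Cfsg.Agent.Tits.Core
  Cfsg.Agent.Tits.Exchange Cfsg.Agent.Nodes.Reps Cfsg.Agent.Nodes.BNOf Cfsg.Agent.Nodes.StabComb
  Cfsg.Agent.Nodes.Bruhat Cfsg.Agent.Nodes.OppDec Cfsg.Agent.Nodes.LeviDec Module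

universe u v

section dih

variable {I W : Type*} [Fintype I] [DecidableEq I] [Group W] {M : CoxeterMatrix I} (cs : CoxeterSystem M W)
  {A : I → I → ℤ} (h : IsCartan M A)

/-- alternating products: `ua a b 0 = 1`, `ua a b (k+1) = s_a (ua b a k)` -/
def ua (a b : I) : ℕ → W
  | 0 => 1
  | k + 1 => cs.simple a * ua b a k

theorem ua_succ (a b : I) (k : ℕ) : ua cs a b (k + 1) = cs.simple a * ua cs b a k := rfl

theorem ua_eq (a b : I) (k : ℕ) : ua cs a b k = (cs.wordProd (alternatingWord b a k))⁻¹ := by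
  induction k generalizing a b with
  | zero => simp [ua, alternatingWord]
  | succ k ih =>
    rw [ua_succ, ih, alternatingWord_succ, cs.wordProd_concat, mul_inv_rev, cs.inv_simple]

include h in
theorem length_ua {a b : I} (hab : a ≠ b) {k : ℕ} (hk : k ≤ M a b) : cs.length (ua cs a b k) = k := by
  induction k generalizing a b with
  | zero => simp [ua]
  | succ k ih =>
    have h1 : cs.length (ua cs b a k) = k := ih hab.symm (by rw [M.symmetric]; omega)
    have h2 : cs.length (cs.wordProd (alternatingWord a b k)) <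
        cs.length (cs.wordProd (alternatingWord a b k) * cs.simple a) := by
      rw [lt_iff' cs h]
      obtain ⟨x, y, hx, hy, e⟩ := exists_nonneg cs h a b hab k (by omega)
      rw [e]
      exact add_nonneg (Pi.single_nonneg.2 hx) (Pi.single_nonneg.2 hy)
    rw [ua_eq, cs.length_inv] at h1
    rw [ua_succ, ua_eq, ← cs.length_inv, mul_inv_rev, inv_inv, cs.inv_simple]
    have h3 := cs.length_mul_simple (cs.wordProd (alternatingWord a b k)) a
    omega

theorem ua_M (a b : I) : ua cs a b (M a b) = ua cs b a (M a b) := by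
  rw [ua_eq, ua_eq]
  congr 1
  have h1 := cs.wordProd_braidWord_eq b a
  unfold braidWord at h1
  rw [M.symmetric b a] at h1
  exact h1

include h in
/-- the sum over the dihedral group -/
theorem dih_sum [Fintype W] {a b : I} (hab : a ≠ b) (hI : ∀ i, i = a ∨ i = b) {m : ℕ} (hm : M a b = 2 * m) (hm0 : 0 < m)
    {ψ : W → ℂ} {y : I → ℂ} (h1 : ψ 1 = 1)
    (hs : ∀ i w, cs.length w < cs.length (cs.simple i * w) → ψ (cs.simple i * w) = y i * ψ w) :
    ∑ w, ψ w = (1 + y a) * (1 + y b) * ∑ i ∈ Finset.range m, (y a * y b) ^ i := by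
  classical
  have hM : M b a = 2 * m := by rw [M.symmetric, hm]
  have hstep : ∀ (a b : I), a ≠ b → M a b = 2 * m → ∀ k, k < 2 * m → ψ (ua cs a b (k + 1)) = y a * ψ (ua cs b a k) := by
    intro a b hab hm k hk
    rw [ua_succ]
    refine hs a _ ?_
    rw [← ua_succ, length_ua cs h hab (by omega), length_ua cs h hab.symm (by rw [M.symmetric]; omega)]
    omega
  have hval : ∀ (a b : I), a ≠ b → M a b = 2 * m → ∀ j, 2 * j ≤ 2 * m → ψ (ua cs a b (2 * j)) = (y a * y b) ^ j := by
    intro a b hab hm j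
    induction j with
    | zero =>
      intro _
      simp [ua, h1]
    | succ j ih =>
      intro hj
      rw [show 2 * (j + 1) = (2 * j + 1) + 1 by ring, hstep a b hab hm _ (by omega),
        hstep b a hab.symm (by rw [M.symmetric, hm]) _ (by omega), ih (by omega), pow_succ]
      ring
  have hodd : ∀ (a b : I), a ≠ b → M a b = 2 * m → ∀ j, 2 * j + 1 ≤ 2 * m →
      ψ (ua cs a b (2 * j + 1)) = y a * (y a * y b) ^ j := by
    intro a b hab hm j hj
    rw [hstep a b hab hm _ (by omega), hval b a hab.symm (by rw [M.symmetric, hm]) _ (by omega), mul_comm (y b)]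
  -- the bijection
  let e : Fin (2 * m) × Bool → W := fun x => if x.2 then ua cs b a (x.1 + 1) else ua cs a b x.1
  have hinj : Function.Injective e := by
    have key : ∀ k k' : Fin (2 * m), ua cs a b k = ua cs b a (k' + 1) → False := by
      intro k k' e1
      have h2 := congrArg cs.length e1
      rw [length_ua cs h hab (by omega), length_ua cs h hab.symm (by omega)] at h2
      -- left descents
      have h3 : cs.length (cs.simple a * ua cs a b k) = k - 1 := by
        have h4 : (k : ℕ) = (k - 1) + 1 := by omega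
        rw [h4, ua_succ, cs.simple_mul_simple_cancel_left, length_ua cs h hab.symm (by omega)]
        omega
      have h5 : cs.length (cs.simple a * ua cs a b k) = k + 1 := by
        rw [e1, ← ua_succ, length_ua cs h hab (by omega), h2]
      omega
    rintro ⟨k, s⟩ ⟨k', s'⟩ hk
    cases s <;> cases s'
    · have h2 : ua cs a b k = ua cs a b k' := hk
      have h3 := congrArg cs.length h2
      rw [length_ua cs h hab (by omega), length_ua cs h hab (by omega)] at h3
      rw [Fin.ext h3]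
    · exact (key k k' hk).elim
    · exact (key k' k hk.symm).elim
    · have h2 : ua cs b a (k + 1) = ua cs b a (k' + 1) := hk
      have h3 := congrArg cs.length h2
      rw [length_ua cs h hab.symm (by omega), length_ua cs h hab.symm (by omega)] at h3
      rw [Fin.ext (Nat.succ_injective h3)]
  have hall : ∀ w : W, ∃ k, k ≤ 2 * m ∧ (w = ua cs a b k ∨ w = ua cs b a k) := by
    have hstep' : ∀ (a b : I), a ≠ b → M a b = 2 * m → ∀ w, (∃ k, k ≤ 2 * m ∧ (w = ua cs a b k ∨ w = ua cs b a k)) →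
        ∃ k, k ≤ 2 * m ∧ (cs.simple a * w = ua cs a b k ∨ cs.simple a * w = ua cs b a k) := by
      rintro a b hab hm w ⟨k, hk, h2 | h2⟩
      · rcases Nat.eq_zero_or_pos k with h3 | h3
        · subst h3
          refine ⟨1, by omega, Or.inl ?_⟩
          rw [h2]
          rfl
        · refine ⟨k - 1, by omega, Or.inr ?_⟩
          rw [h2]
          conv_lhs => rw [show k = (k - 1) + 1 by omega]
          rw [ua_succ, cs.simple_mul_simple_cancel_left]
      · rcases Nat.lt_or_ge k (2 * m) with h3 | h3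
        · refine ⟨k + 1, by omega, Or.inl ?_⟩
          rw [h2, ua_succ]
        · have h4 : k = 2 * m := le_antisymm hk h3
          refine ⟨k - 1, by omega, Or.inr ?_⟩
          have h5 := ua_M cs a b
          rw [hm, ← h4] at h5
          rw [h2, ← h5]
          conv_lhs => rw [show k = (k - 1) + 1 by omega]
          rw [ua_succ, cs.simple_mul_simple_cancel_left]
    intro w
    obtain ⟨ω, rfl⟩ := cs.wordProd_surjective w
    induction ω with
    | nil => exact ⟨0, by omega, Or.inl (by rw [wordProd_nil]; rfl)⟩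
    | cons i ω ih =>
      rw [wordProd_cons]
      rcases hI i with rfl | rfl
      · exact hstep' _ _ hab hm _ ih
      · obtain ⟨k, hk, h2⟩ := ih
        obtain ⟨k', hk', h3⟩ := hstep' _ _ hab.symm hM _ ⟨k, hk, h2.symm⟩
        exact ⟨k', hk', h3.symm⟩
  have hsurj : Function.Surjective e := by
    intro w
    obtain ⟨k, hk, h2 | h2⟩ := hall w
    · rcases Nat.lt_or_ge k (2 * m) with h3 | h3
      · exact ⟨(⟨k, h3⟩, false), h2.symm⟩
      · have h4 : k = 2 * m := le_antisymm hk h3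
        refine ⟨(⟨k - 1, by omega⟩, true), ?_⟩
        have h5 := ua_M cs a b
        rw [hm, ← h4] at h5
        rw [h2, h5]
        change ua cs b a (k - 1 + 1) = _
        rw [Nat.sub_add_cancel (by omega)]
    · rcases Nat.eq_zero_or_pos k with h3 | h3
      · subst h3
        exact ⟨(⟨0, by omega⟩, false), h2.symm⟩
      · refine ⟨(⟨k - 1, by omega⟩, true), ?_⟩
        change ua cs b a (k - 1 + 1) = _
        rw [Nat.sub_add_cancel h3, h2]
  rw [← Equiv.sum_comp (Equiv.ofBijective e ⟨hinj, hsurj⟩) ψ, Fintype.sum_prod_type]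
  have e1 : ∀ x : Fin (2 * m), ∑ s : Bool, ψ (Equiv.ofBijective e ⟨hinj, hsurj⟩ (x, s)) =
      ψ (ua cs b a (x + 1)) + ψ (ua cs a b x) := fun x => Fintype.sum_bool _
  rw [Finset.sum_congr rfl fun x _ => e1 x, Finset.sum_range (n := 2 * m) (fun k => ψ (ua cs b a (k + 1)) + ψ (ua cs a b k)) |>.symm]
  have e2 : ∀ j ≤ m, ∑ k ∈ Finset.range (2 * j), (ψ (ua cs b a (k + 1)) + ψ (ua cs a b k)) =
      (1 + y a) * (1 + y b) * ∑ i ∈ Finset.range j, (y a * y b) ^ i := by
    intro j
    induction j with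
    | zero => intro _; simp
    | succ j ih =>
      intro hj
      rw [show 2 * (j + 1) = 2 * j + 1 + 1 by ring, Finset.sum_range_succ, Finset.sum_range_succ, ih (by omega),
        Finset.sum_range_succ _ j, hodd b a hab.symm hM j (by omega), hval a b hab hm j (by omega),
        show 2 * j + 1 + 1 = 2 * (j + 1) by ring, hval b a hab.symm hM (j + 1) (by omega), hodd a b hab hm j (by omega),
        mul_comm (y b) (y a), pow_succ]
      ring
  exact e2 m le_rfl

end dih

section cells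

variable {I W : Type*} {Y : Type u} [Fintype I] [DecidableEq I] [Group W] [Group Y] {M : CoxeterMatrix I}
  {cs : CoxeterSystem M W} {A : I → I → ℤ} {h : IsCartan M A} {p : ℕ} {T : Subgroup Y} {n : I → Y}
  {X : (I → ℤ) → Subgroup Y} (R : RGD cs h p T n X) [Finite W] {V : Type v} [AddCommGroup V] [Module ℂ V]
  {ρ : Representation ℂ Y V}

include R

/-- `x = x' c`, `x' ∈ X_i`, `c = y t` -/
theorem mem_B_left (i : I) {b : Y} (hb : b ∈ RGD.B cs h T X) :
    ∃ x ∈ X (sr i), ∃ y ∈ RGD.Sup X (RGD.PosNe cs h i), ∃ t ∈ T, b = x * (y * t) := by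
  obtain ⟨y, hy, x, hx, t, ht, rfl⟩ := R.mem_B' i hb
  refine ⟨x, hx, x⁻¹ * y * x, ?_, t, ht, by group⟩
  have h1 := (Subgroup.mem_normalizer_iff.1 (R.X_le_normalizer_V i (inv_mem hx)) y).1 hy
  rwa [inv_inv] at h1

omit R [Finite W] in
theorem PosNe_le_B (i : I) : RGD.Sup X (RGD.PosNe cs h i) ≤ RGD.B cs h T X :=
  le_trans (RGD.Sup_mono (fun _ hz => (⟨hz.1, hz.2.1⟩ : _ ∈ RGD.Pos cs h))) RGD.U_le_B

theorem conj_inv_mem_PosNe {i : I} {y : Y} (hy : y ∈ RGD.Sup X (RGD.PosNe cs h i)) :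
    (n i)⁻¹ * y * n i ∈ RGD.Sup X (RGD.PosNe cs h i) := by
  have h1 := R.cj_n_V i
  have h2 : y ∈ cj (n i) (RGD.Sup X (RGD.PosNe cs h i)) := by rw [h1]; exact hy
  exact mem_cj.1 h2

theorem conj_inv_mem_T (i : I) {t : Y} (ht : t ∈ T) : (n i)⁻¹ * t * n i ∈ T := by
  have := (Subgroup.mem_normalizer_iff.1 (inv_mem (R.nsys.norm i)) t).1 ht
  rwa [inv_inv] at this

theorem rp_inv_mul {i : I} {w : W} {k : Y} (hk : Rp cs R.nsys (cs.simple i * w) k) : Rp cs R.nsys w ((n i)⁻¹ * k) := by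
  have h1 := (rp_simple cs R.nsys i).inv.mul hk
  rwa [cs.inv_simple, cs.simple_mul_simple_cancel_left] at h1

theorem card_cell_simple [Finite Y] {i : I} {w : W} (hl : cs.length w < cs.length (cs.simple i * w)) :
    Nat.card {g : Y // Cell R.nsys cs h X (cs.simple i * w) g} =
      qq X i * Nat.card {g : Y // Cell R.nsys cs h X w g} := by
  have hlen : cs.length (cs.simple i * w) = cs.length (cs.simple i) + cs.length w := by
    have := cs.length_simple_mul w i
    rw [cs.length_simple]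
    omega
  have hmem : ∀ x ∈ X (sr i), ∀ z, Cell R.nsys cs h X w z → Cell R.nsys cs h X (cs.simple i * w) (x * n i * z) :=
    fun x hx z hz => Cell.mul_of_length R hlen
      ((cell_of_rp (rp_simple cs R.nsys i)).mul_left (RGD.X_le_B (isRoot_sr cs h i) (sr_nonneg i) hx)) hz
  unfold qq
  rw [← Nat.card_prod]
  symm
  refine Nat.card_congr (Equiv.ofBijective (fun q : X (sr i) × {g : Y // Cell R.nsys cs h X w g} =>
    (⟨q.1 * n i * q.2, hmem q.1 q.1.2 q.2 q.2.2⟩ : {g : Y // Cell R.nsys cs h X (cs.simple i * w) g})) ⟨?_, ?_⟩)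
  · rintro ⟨⟨x, hx⟩, ⟨z, hz⟩⟩ ⟨⟨x', hx'⟩, ⟨z', hz'⟩⟩ e
    have e : x * n i * z = x' * n i * z' := congrArg Subtype.val e
    have h1 : x' = x := by
      by_contra hne
      have h2 : (n i)⁻¹ * (x'⁻¹ * x) * n i ∈ X (-sr i) := by
        have := R.conj_mem' (rp_simple cs R.nsys i) (isRoot_sr cs h i) (mul_mem (inv_mem hx') hx)
        rwa [cs.inv_simple, rep_simple_sr] at this
      have h3 : (n i)⁻¹ * (x'⁻¹ * x) * n i ≠ 1 := by
        intro h4
        apply hne
        have h5 : x'⁻¹ * x = n i * ((n i)⁻¹ * (x'⁻¹ * x) * n i) * (n i)⁻¹ := by group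
        rw [h4, mul_one, mul_inv_cancel] at h5
        exact inv_mul_eq_one.1 h5
      obtain ⟨a, ha, t, ht, b, hb, e2⟩ := R.rk1 i _ h2 h3
      have h4 : Cell R.nsys cs h X (cs.simple i) ((n i)⁻¹ * (x'⁻¹ * x) * n i) := by
        rw [e2]
        exact ((cell_of_rp (rp_simple cs R.nsys i)).mul_left
          (mul_mem (RGD.X_le_B (isRoot_sr cs h i) (sr_nonneg i) ha) (RGD.T_le_B ht))).mul_right
          (RGD.X_le_B (isRoot_sr cs h i) (sr_nonneg i) hb)
      have h5 := Cell.mul_of_length R hlen h4 hz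
      have h6 : (n i)⁻¹ * (x'⁻¹ * x) * n i * z = z' := by
        have h7 : (n i)⁻¹ * (x'⁻¹ * x) * n i * z = (n i)⁻¹ * x'⁻¹ * (x * n i * z) := by group
        rw [h7, e]
        group
      rw [h6] at h5
      have h7 := Cell.unique R h5 hz'
      rw [h7] at hl
      exact lt_irrefl _ hl
    subst h1
    have h2 : z = z' := mul_left_cancel e
    subst h2
    rfl
  · rintro ⟨g, b₁, hb₁, k, hk, b₂, hb₂, rfl⟩
    obtain ⟨x, hx, y, hy, t, ht, rfl⟩ := mem_B_left R i hb₁
    have h1 : Cell R.nsys cs h X w ((n i)⁻¹ * x⁻¹ * (x * (y * t) * k * b₂)) := by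
      refine ⟨((n i)⁻¹ * y * n i) * ((n i)⁻¹ * t * n i), mul_mem (PosNe_le_B i (conj_inv_mem_PosNe R hy))
        (RGD.T_le_B (conj_inv_mem_T R i ht)), (n i)⁻¹ * k, rp_inv_mul R hk, b₂, hb₂, by group⟩
    refine ⟨(⟨x, hx⟩, ⟨_, h1⟩), Subtype.ext ?_⟩
    change x * n i * ((n i)⁻¹ * x⁻¹ * (x * (y * t) * k * b₂)) = x * (y * t) * k * b₂
    group

theorem card_cell_one [Finite Y] : Nat.card {g : Y // Cell R.nsys cs h X (1 : W) g} = Nat.card (RGD.B cs h T X) :=
  Nat.card_congr (Equiv.subtypeEquivRight fun _ => ⟨fun h => h.mem_of_one, fun h => cell_one_of_mem h⟩)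

section deg

variable [Finite Y]

/-- the dual step -/
theorem el_n_dual {i : I} {l : T →* ℂˣ} (hm : Mv cs R.nsys (cs.simple i) l l) {v : V} (hv : v ∈ Vl cs h T X ρ l)
    {Φ : V →ₗ[ℂ] V} (hΦ : ∀ x ∈ X (sr i), ∀ z, Φ (ρ x z) = Φ z) :
    Φ (el ρ (RGD.B cs h T X) (lamB R l) (ρ (n i)⁻¹ v)) = Φ (ρ (n i)⁻¹ v) := by
  classical
  let _ : Fintype (RGD.B cs h T X) := Fintype.ofFinite _
  have hvB := hv
  rw [Vl_eq R] at hvB
  rw [el_apply ρ _ (lamB R l), map_smul, map_sum]
  have key : ∀ b : RGD.B cs h T X, Φ (((lamB R l b)⁻¹ : ℂˣ).val • ρ b (ρ (n i)⁻¹ v)) = Φ (ρ (n i)⁻¹ v) := by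
    intro b
    obtain ⟨x, hx, y, hy, t, ht, e⟩ := mem_B_left R i b.2
    have hn1 : n i * y * (n i)⁻¹ ∈ RGD.Sup X (RGD.PosNe cs h i) := by
      rw [← R.cj_n_V i]
      exact conj_mem_cj.2 hy
    have hn2 : n i * t * (n i)⁻¹ ∈ T := (Subgroup.mem_normalizer_iff.1 (R.nsys.norm i) t).1 ht
    have hc : y * t ∈ RGD.B cs h T X := mul_mem (PosNe_le_B i hy) (RGD.T_le_B ht)
    have hcB : n i * (y * t) * (n i)⁻¹ ∈ RGD.B cs h T X := by
      have h3 : n i * (y * t) * (n i)⁻¹ = (n i * y * (n i)⁻¹) * (n i * t * (n i)⁻¹) := by group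
      rw [h3]
      exact mul_mem (PosNe_le_B i hn1) (RGD.T_le_B hn2)
    have hxU : x ∈ RGD.Sup X (RGD.Pos cs h) := by
      have h1 : sr i ∈ RGD.Pos cs h := ⟨isRoot_sr cs h i, sr_nonneg i⟩
      exact RGD.le_Sup h1 hx
    have e2 : lamB R l b = lamB R l ⟨y * t, hc⟩ := by
      have h3 : b = ⟨x, RGD.U_le_B hxU⟩ * ⟨y * t, hc⟩ := Subtype.ext e
      rw [h3, map_mul, lamB_U R l hxU, one_mul]
    have e4 : lamB R l ⟨n i * (y * t) * (n i)⁻¹, hcB⟩ = lamB R l ⟨y * t, hc⟩ :=
      lamB_conj R (rp_simple cs R.nsys i) hm rfl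
    have e3 : ρ b (ρ (n i)⁻¹ v) = ρ x (ρ (n i)⁻¹ (ρ (n i * (y * t) * (n i)⁻¹) v)) := by
      rw [e, ← Module.End.mul_apply, ← map_mul, ← Module.End.mul_apply, ← map_mul, ← Module.End.mul_apply, ← map_mul]
      congr 2
      group
    have e5 := hvB ⟨_, hcB⟩
    change ρ (n i * (y * t) * (n i)⁻¹) v = _ at e5
    rw [e3, map_smul, hΦ x hx, e5, map_smul, map_smul, e4, e2, smul_smul, Units.inv_mul, one_smul]
  rw [Finset.sum_congr rfl fun b _ => key b, Finset.sum_const, Finset.card_univ, ← Nat.card_eq_fintype_card,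
    ← Nat.cast_smul_eq_nsmul ℂ, smul_smul, inv_mul_cancel₀ (card_ne _), one_smul]

/-- **the degree formula** -/
theorem degree [FiniteDimensional ℂ V] [Fintype W] (hG : GG cs h T X = ⊤) (hρ : ρ.IsIrreducible) {l : T →* ℂˣ}
    (hf : ∀ i, Mv cs R.nsys (cs.simple i) l l) {v : V} (hv0 : v ≠ 0) (hE : Vl cs h T X ρ l = ℂ ∙ v) {x : I → ℂ}
    (hx : ∀ i, Tq R ρ i l v = x i • v) : ∃ ψ : W → ℂ, ψ 1 = 1 ∧
      (∀ i w, cs.length w < cs.length (cs.simple i * w) → ψ (cs.simple i * w) =
        (qq X i * x i ^ 2 * ((l ⟨n i * n i, R.sq_mem_T i⟩)⁻¹ : ℂˣ).val) * ψ w) ∧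
      ρ.character 1 * (Nat.card (RGD.B cs h T X) * ∑ w, ψ w) = Nat.card Y := by
  classical
  let _ : Fintype Y := Fintype.ofFinite Y
  have hv : v ∈ Vl cs h T X ρ l := by rw [hE]; exact Submodule.mem_span_singleton_self v
  have hvB := hv
  rw [Vl_eq R] at hvB
  set P := el ρ (RGD.B cs h T X) (lamB R l) with hP
  have hex : ∀ g : Y, ∃ c : ℂ, P (ρ g v) = c • v := by
    intro g
    have h1 : P (ρ g v) ∈ Vl cs h T X ρ l := by rw [Vl_eq R]; exact el_mem _ _ _ _
    rw [hE] at h1
    obtain ⟨c, hc⟩ := Submodule.mem_span_singleton.1 h1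
    exact ⟨c, hc.symm⟩
  choose f hfv using hex
  have hinj : ∀ {a b : ℂ}, a • v = b • v → a = b := fun {a b} hab => by
    have h1 : (a - b) • v = 0 := by rw [sub_smul, hab, sub_self]
    rcases smul_eq_zero.1 h1 with h2 | h2
    · exact sub_eq_zero.1 h2
    · exact absurd h2 hv0
  -- translations
  have hfl : ∀ (b : RGD.B cs h T X) (g : Y), f (b * g) = (lamB R l b : ℂ) * f g := by
    intro b g
    apply hinj
    rw [← hfv, mul_smul, ← hfv g, map_mul, Module.End.mul_apply, el_rho]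
  have hfr : ∀ (b : RGD.B cs h T X) (g : Y), f (g * b) = f g * (lamB R l b : ℂ) := by
    intro b g
    apply hinj
    rw [← hfv, mul_comm, mul_smul, ← hfv g, map_mul, Module.End.mul_apply, hvB b, map_smul, map_smul]
  have hφ : ∀ (b b' : RGD.B cs h T X) (g : Y), f (b * g * b') * f (b * g * b')⁻¹ = f g * f g⁻¹ := by
    intro b b' g
    have h1 : ((b : Y) * g * b')⁻¹ = ((b'⁻¹ : RGD.B cs h T X) : Y) * g⁻¹ * ((b⁻¹ : RGD.B cs h T X) : Y) := by
      rw [Subgroup.coe_inv, Subgroup.coe_inv]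
      group
    rw [h1, hfr b', hfl b, hfr, hfl, map_inv, map_inv]
    have h2 : (lamB R l b : ℂ) ≠ 0 := Units.ne_zero _
    have h3 : (lamB R l b' : ℂ) ≠ 0 := Units.ne_zero _
    rw [Units.val_inv_eq_inv_val, Units.val_inv_eq_inv_val]
    field_simp
  -- the values at the simple reflections
  have hni : ∀ i, f (n i) = x i := fun i => hinj (by rw [← hfv, ← hx i, Tq_apply R hv])
  have hni' : ∀ i, f (n i)⁻¹ = x i * ((l ⟨n i * n i, R.sq_mem_T i⟩)⁻¹ : ℂˣ).val := by
    intro i
    have h1 : (n i)⁻¹ = n i * ((⟨n i * n i, RGD.T_le_B (R.sq_mem_T i)⟩⁻¹ : RGD.B cs h T X) : Y) := by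
      rw [Subgroup.coe_inv]
      change (n i)⁻¹ = n i * (n i * n i)⁻¹
      group
    rw [h1, hfr, hni, map_inv, lamB_T R l (R.sq_mem_T i)]
  -- multiplicativity
  have hm1 : ∀ i w g, Rp cs R.nsys w g → cs.length w < cs.length (cs.simple i * w) → f (n i * g) = x i * f g ∧
      f (n i * g)⁻¹ = f (n i)⁻¹ * f g⁻¹ := by
    intro i w g hg hl
    have h3 : 0 ≤ rep cs h w⁻¹ (sr i) := by
      refine nonneg_of_lt cs h _ i ?_
      rw [cs.length_inv, ← cs.length_inv (w⁻¹ * cs.simple i), mul_inv_rev, inv_inv, cs.inv_simple]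
      exact hl
    constructor
    · have h4 := rho_fx_X R hg (isRoot_sr cs h i) h3 hv.1
      have h5 := el_n R (hf i) h4
      apply hinj
      rw [← hfv, map_mul, Module.End.mul_apply, ← h5, ← hP, hfv g, map_smul, map_smul, ← Tq_apply R hv, hx i, smul_smul,
        mul_comm]
    · have h4 := el_n_dual R (hf i) hv (Φ := P * ρ g⁻¹) fun y hy z => by
        have h5 : g⁻¹ * y * g ∈ RGD.Sup X (RGD.Pos cs h) :=
          RGD.le_Sup (S := RGD.Pos cs h) ⟨(isRoot_sr cs h i).act _, h3⟩ (R.conj_mem' hg (isRoot_sr cs h i) hy)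
        have h6 := el_rho ρ (RGD.B cs h T X) (lamB R l) ⟨_, RGD.U_le_B h5⟩ (ρ g⁻¹ z)
        rw [lamB_U R l h5, Units.val_one, one_smul] at h6
        rw [Module.End.mul_apply, Module.End.mul_apply, ← h6]
        change _ = P (ρ (g⁻¹ * y * g) (ρ g⁻¹ z))
        congr 1
        rw [← Module.End.mul_apply, ← map_mul, ← Module.End.mul_apply, ← map_mul]
        congr 2
        group
      apply hinj
      rw [← hP, hfv, map_smul, Module.End.mul_apply, hfv, smul_smul] at h4
      rw [← hfv, mul_inv_rev, map_mul, Module.End.mul_apply, h4]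
      rfl
  -- representatives
  choose gw hgw using fun w => exists_rp cs R.nsys w
  have hcell : ∀ w g, Cell R.nsys cs h X w g → f g * f g⁻¹ = f (gw w) * f (gw w)⁻¹ := by
    rintro w g ⟨b₁, hb₁, k, hk, b₂, hb₂, rfl⟩
    have h1 : (gw w)⁻¹ * k ∈ T := (hgw w).unique hk
    have h2 : b₁ * k * b₂ = ((⟨b₁, hb₁⟩ : RGD.B cs h T X) : Y) * gw w *
        ((⟨(gw w)⁻¹ * k * b₂, mul_mem (RGD.T_le_B h1) hb₂⟩ : RGD.B cs h T X) : Y) := by
      change b₁ * k * b₂ = b₁ * gw w * ((gw w)⁻¹ * k * b₂)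
      group
    rw [h2, hφ]
  have hYc : ∀ g : Y, ∃ w, Cell R.nsys cs h X w g := fun g => (mem_GG R).1 (by rw [hG]; exact Subgroup.mem_top g)
  choose wd hwd using hYc
  have hB0 : (Nat.card (RGD.B cs h T X) : ℂ) ≠ 0 := card_ne _
  refine ⟨fun w => (Nat.card {g : Y // Cell R.nsys cs h X w g} : ℂ) / Nat.card (RGD.B cs h T X) *
    (f (gw w) * f (gw w)⁻¹), ?_, ?_, ?_⟩
  · have h1 := hcell 1 1 (cell_one_of_mem (one_mem _))
    have h2 : f 1 = 1 := hinj (by rw [← hfv, map_one, Module.End.one_apply, el_of_mem hvB, one_smul])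
    change (Nat.card {g : Y // Cell R.nsys cs h X (1 : W) g} : ℂ) / Nat.card (RGD.B cs h T X) * _ = 1
    rw [← h1, inv_one, h2, card_cell_one R, div_self hB0, mul_one, mul_one]
  · intro i w hl
    change (Nat.card {g : Y // Cell R.nsys cs h X (cs.simple i * w) g} : ℂ) / Nat.card (RGD.B cs h T X) * _ = _ *
      ((Nat.card {g : Y // Cell R.nsys cs h X w g} : ℂ) / Nat.card (RGD.B cs h T X) * _)
    have h1 := hcell (cs.simple i * w) (n i * gw w) (cell_of_rp ((rp_simple cs R.nsys i).mul (hgw w)))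
    obtain ⟨h2, h3⟩ := hm1 i w (gw w) (hgw w) hl
    rw [← h1, h2, h3, hni', card_cell_simple R hl, Nat.cast_mul]
    field_simp
  · -- the sum over the group
    have hsum : ∑ g : Y, f g * f g⁻¹ = ∑ w, (Nat.card {g : Y // Cell R.nsys cs h X w g} : ℂ) * (f (gw w) * f (gw w)⁻¹) := by
      rw [← Finset.sum_fiberwise Finset.univ wd]
      refine Finset.sum_congr rfl fun w _ => ?_
      have h1 : ∀ g ∈ Finset.univ.filter (fun g => wd g = w), f g * f g⁻¹ = f (gw w) * f (gw w)⁻¹ := by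
        intro g hg
        have h2 := (Finset.mem_filter.1 hg).2
        exact hcell w g (h2 ▸ hwd g)
      rw [Finset.sum_congr rfl h1, Finset.sum_const, nsmul_eq_mul, Nat.card_eq_fintype_card, Fintype.card_subtype]
      congr 3
      ext g
      simp only [Finset.mem_filter, Finset.mem_univ, true_and]
      exact ⟨fun h2 => h2 ▸ hwd g, fun h2 => Cell.unique R (hwd g) h2⟩
    obtain ⟨c, hc⟩ := schur hρ (f := RkOne.ss ρ (RGD.B cs h T X) (lamB R l)) fun g v => RkOne.ss_comm g v
    have h1 : RkOne.ss ρ (RGD.B cs h T X) (lamB R l) = c • 1 := LinearMap.ext fun v => hc v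
    have h2 := RkOne.trace_ss (ρ := ρ) (B := RGD.B cs h T X) (l := lamB R l)
    rw [← Vl_eq R, hE, finrank_span_singleton hv0, h1, map_smul, smul_eq_mul, Nat.cast_one, mul_one] at h2
    have h3 : LinearMap.trace ℂ V 1 = ρ.character 1 := by
      change _ = LinearMap.trace ℂ V (ρ 1)
      rw [show ρ 1 = 1 from map_one ρ]
    rw [h3] at h2
    have h4 : c = (Nat.card (RGD.B cs h T X) : ℂ)⁻¹ * ∑ g : Y, f g * f g⁻¹ := by
      apply hinj
      have h5 : P (RkOne.ss ρ (RGD.B cs h T X) (lamB R l) v) = c • v := by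
        rw [hc v, map_smul, el_of_mem hvB]
      rw [← h5]
      unfold RkOne.ss
      rw [finsum_eq_sum_of_fintype, LinearMap.smul_apply, LinearMap.sum_apply, map_smul, map_sum, mul_smul,
        Finset.sum_smul]
      congr 1
      refine Finset.sum_congr rfl fun g _ => ?_
      rw [Module.End.mul_apply, Module.End.mul_apply, ← hP, hfv g⁻¹, map_smul, map_smul, hfv g, smul_smul, mul_comm]
    rw [h4] at h2
    have h5 : (Nat.card (RGD.B cs h T X) : ℂ) * ∑ w, ((Nat.card {g : Y // Cell R.nsys cs h X w g} : ℂ) /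
        Nat.card (RGD.B cs h T X) * (f (gw w) * f (gw w)⁻¹)) = ∑ g : Y, f g * f g⁻¹ := by
      rw [hsum, Finset.mul_sum]
      refine Finset.sum_congr rfl fun w _ => ?_
      field_simp
    rw [h5]
    field_simp at h2
    rw [mul_comm]
    exact h2

end deg

end cells

end Cfsg.Agent.H985.VZ
end

private theorem dce_57da1340dcbd : _root_.True := by
  try have : _root_.True := by simp only [_root_.Cfsg.Agent.H985.VZ.qq.congr_simp]
  try have : _root_.True := by simp only [_root_.Cfsg.Agent.H985.VZ.lamB.congr_simp]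
  try have : _root_.True := by simp only [_root_.Cfsg.Agent.H985.VZ.ni.congr_simp]
  try have : _root_.True := by simp only [_root_.Cfsg.Agent.Nodes.Bruhat.Cell.congr_simp]
  try have : _root_.True := by simp only [_root_.Cfsg.Agent.H985.VZ.ua.eq_2]
  try have : _root_.True := by simp only [_root_.Cfsg.Agent.H985.VZ.ua.eq_def]
  try have : _root_.True := by simp only [_root_.Cfsg.Agent.H985.VZ.ua.eq_1]
  try have : _root_.True := by simp only [_root_.Cfsg.Agent.H985.VZ.li.congr_simp]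
  exact _root_.True.intro
end

-- part: H200/VZ/One
section
prune_inst 0x400114202004000001000000000100000000003000000a4010000000002000206010c200400001004000000006011000010420000000a000000000105010028000020000100000018000003010000000000000000000000000000000000204010000
set_option linter.all false
open scoped Cfsg.Agent.FastGrp

-- part: H639/OZ/Mid
section
/-!
# S4842, the middle case `x = 2 n` of type `B_n`/`C_n`: the Hecke module (helper985's (1))

`E` a finite dimensional complex space with operators `T 0, …, T (n-1)`, `(T i - q i)(T i + 1) = 0`, the braid relations of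
type `B_n` (the double bond joins the nodes `n - 2` and `n - 1`), no proper invariant subspace. `F i = ker (T i - q i)`.

* `mid` : if `∑ dim F i = dim E` then the `F i` intersect trivially in pairs, and one of
  (a) `dim E = 1`, `F i = 0` for `i < n - 1`, `F (n - 1) = E`;
  (b) `dim E = n - 1`, `dim F i = 1` for `i < n - 1`, `F (n - 1) = 0`;
  (c) `dim E = n`, `dim F i = 1` for all `i`.
* `mid_equiv` : the same for an arbitrary index type.
-/

set_option autoImplicit false
set_option linter.unusedSectionVars false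

namespace Cfsg.Agent.H639.OZ

open Module LinearMap

variable {E : Type*} [AddCommGroup E] [Module ℂ E]

/-- the `q`-eigenspace -/
noncomputable def Fq (T : Module.End ℂ E) (q : ℕ) : Submodule ℂ E := LinearMap.ker (T - (q : ℂ) • (1 : Module.End ℂ E))

theorem mem_Fq {T : Module.End ℂ E} {q : ℕ} {v : E} : v ∈ Fq T q ↔ T v = (q : ℂ) • v := by
  unfold Fq
  rw [LinearMap.mem_ker, LinearMap.sub_apply, LinearMap.smul_apply, Module.End.one_apply, sub_eq_zero]

/-- the quadratic relation -/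
def Quad (T : Module.End ℂ E) (q : ℕ) : Prop := (T - (q : ℂ) • (1 : Module.End ℂ E)) * (T + 1) = 0

theorem Quad.mem {T : Module.End ℂ E} {q : ℕ} (h : Quad T q) (v : E) : T v + v ∈ Fq T q := by
  have := congrArg (fun f : Module.End ℂ E => f v) h
  rw [mem_Fq]
  simp only [Module.End.mul_apply, LinearMap.add_apply, LinearMap.sub_apply, LinearMap.smul_apply,
    Module.End.one_apply, LinearMap.zero_apply] at this
  exact sub_eq_zero.1 this

theorem Quad.sq {T : Module.End ℂ E} {q : ℕ} (h : Quad T q) (v : E) :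
    T (T v) = ((q : ℂ) - 1) • T v + (q : ℂ) • v := by
  have := mem_Fq.1 (h.mem v)
  rw [map_add, smul_add] at this
  rw [eq_sub_of_add_eq this]
  module

theorem Quad.neg {T : Module.End ℂ E} {q : ℕ} (h : Quad T q) (hF : Fq T q = ⊥) (v : E) : T v = -v := by
  have := h.mem v
  rw [hF, Submodule.mem_bot] at this
  exact eq_neg_of_add_eq_zero_left this

section pairs

variable {S T : Module.End ℂ E} {a b : ℕ}

/-- commuting operators without common fixed vectors -/
theorem add_one_two (hS : Quad S a) (hT : Quad T b) (hc : S * T = T * S) (h0 : Fq S a ⊓ Fq T b = ⊥) (v : E) :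
    S (T v + v) + (T v + v) = 0 := by
  have hc' : ∀ w, S (T w) = T (S w) := fun w => congrArg (fun f : Module.End ℂ E => f w) hc
  have h1 : S (T v + v) + (T v + v) ∈ Fq S a := hS.mem _
  have h2 : S (T v + v) + (T v + v) = T (S v + v) + (S v + v) := by
    rw [map_add, map_add, hc']
    abel
  have h3 : S (T v + v) + (T v + v) ∈ Fq T b := by rw [h2]; exact hT.mem _
  have h4 : S (T v + v) + (T v + v) ∈ Fq S a ⊓ Fq T b := ⟨h1, h3⟩
  rwa [h0, Submodule.mem_bot] at h4

/-- simple bond, no common fixed vectors: `(S + 1)(T + 1)(S + 1) = q (S + 1)` -/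
theorem add_one_three (hS : Quad S a) (hT : Quad T a) (hb : S * T * S = T * S * T) (h0 : Fq S a ⊓ Fq T a = ⊥)
    {v : E} (hv : v ∈ Fq S a) : S (T v + v) + (T v + v) = (a : ℂ) • v := by
  have hb' : ∀ w, S (T (S w)) = T (S (T w)) := fun w => congrArg (fun f : Module.End ℂ E => f w) hb
  -- `C = ∑ T_w`
  set c : E := S (T (S v)) + S (T v) + T (S v) + S v + T v + v with hc
  have hSS := hS.sq
  have hTT := hT.sq
  have h1 : c ∈ Fq S a := by
    rw [mem_Fq, hc]
    simp only [map_add, hSS, smul_add]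
    module
  have h2 : c ∈ Fq T a := by
    rw [mem_Fq, hc, hb']
    simp only [map_add, hTT, smul_add]
    module
  have h3 : c ∈ Fq S a ⊓ Fq T a := ⟨h1, h2⟩
  rw [h0, Submodule.mem_bot, hc, mem_Fq.1 hv] at h3
  simp only [map_smul] at h3
  have h4 : ((a : ℂ) + 1) • (S (T v + v) + (T v + v) - (a : ℂ) • v) = 0 := by
    rw [← h3, map_add, mem_Fq.1 hv]
    module
  have h5 : ((a : ℂ) + 1) ≠ 0 := by exact_mod_cast Nat.succ_ne_zero a
  exact sub_eq_zero.1 ((smul_eq_zero.1 h4).resolve_left h5)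

/-- double bond, no common fixed vectors: on `Fq S` the operator `(S + 1)(T + 1)` has square `a + b` times itself -/
theorem add_one_four (hS : Quad S a) (hT : Quad T b) (hb : S * T * S * T = T * S * T * S) (h0 : Fq S a ⊓ Fq T b = ⊥)
    (v : E) :
    S (T (S (T v + v) + (T v + v)) + (S (T v + v) + (T v + v))) +
      (T (S (T v + v) + (T v + v)) + (S (T v + v) + (T v + v))) =
      ((a : ℂ) + b) • (S (T v + v) + (T v + v)) := by
  have hb' : ∀ w, S (T (S (T w))) = T (S (T (S w))) := fun w => congrArg (fun f : Module.End ℂ E => f w) hb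
  set c : E := S (T (S (T v))) + S (T (S v)) + T (S (T v)) + T (S v) + S (T v) + S v + T v + v with hc
  have hSS := hS.sq
  have hTT := hT.sq
  have h1 : c ∈ Fq S a := by
    rw [mem_Fq, hc]
    simp only [map_add, hSS, smul_add]
    module
  have h2 : c ∈ Fq T b := by
    rw [mem_Fq, hc, hb']
    simp only [map_add, hTT, smul_add]
    module
  have h3 : c ∈ Fq S a ⊓ Fq T b := ⟨h1, h2⟩
  rw [h0, Submodule.mem_bot, hc] at h3
  rw [← sub_eq_zero, ← h3]
  simp only [map_add, map_smul, hSS, hTT, smul_add]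
  module

end pairs

section indep

variable [FiniteDimensional ℂ E] {ι : Type*} [Fintype ι] [DecidableEq ι]

/-- subspaces spanning `E` whose dimensions add up to `dim E` intersect trivially -/
theorem inf_eq_bot_of_sum (F : ι → Submodule ℂ E) (htop : ⨆ i, F i = ⊤)
    (hsum : ∑ i, finrank ℂ (F i) = finrank ℂ E) {i j : ι} (hij : i ≠ j) : F i ⊓ F j = ⊥ := by
  let Φ : (∀ i, F i) →ₗ[ℂ] E := ∑ i, (F i).subtype ∘ₗ LinearMap.proj i
  have hΦ : ∀ x, Φ x = ∑ i, (x i : E) := fun x => by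
    simp only [Φ, LinearMap.sum_apply, _root_.LinearMap.coe_comp, _root_.Submodule.coe_subtype, _root_.LinearMap.coe_proj, _root_.Function.comp_apply, _root_.Function.eval]
  have hsurj : Function.Surjective Φ := by
    rw [← LinearMap.range_eq_top, eq_top_iff, ← htop]
    refine iSup_le fun i v hv => ⟨Pi.single i ⟨v, hv⟩, ?_⟩
    rw [hΦ, Finset.sum_eq_single i]
    · simp
    · intro k _ hk
      rw [Pi.single_eq_of_ne hk]
      rfl
    · exact fun h => absurd (Finset.mem_univ i) h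
  have hinj : Function.Injective Φ := by
    refine (LinearMap.injective_iff_surjective_of_finrank_eq_finrank ?_).2 hsurj
    rw [Module.finrank_pi_fintype, hsum]
  rw [eq_bot_iff]
  intro v hv
  have h1 : Φ (Pi.single i ⟨v, hv.1⟩ - Pi.single j ⟨v, hv.2⟩) = 0 := by
    have hs : ∀ (k : ι) (hk : v ∈ F k), Φ (Pi.single k ⟨v, hk⟩) = v := by
      intro k hk
      rw [hΦ, Finset.sum_eq_single k]
      · simp
      · intro l _ hl
        rw [Pi.single_eq_of_ne hl]
        rfl
      · exact fun h => absurd (Finset.mem_univ k) h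
    rw [map_sub, hs, hs, sub_self]
  rw [← map_zero Φ] at h1
  have h2 := congrFun (hinj h1) i
  rw [Pi.sub_apply, Pi.single_eq_same, Pi.single_eq_of_ne hij, sub_zero] at h2
  exact congrArg Subtype.val h2

/-- a spanning family `x i ∈ F i`, `∑ dim F i = dim E`: the dimensions are zero or one -/
theorem finrank_of_span (F : ι → Submodule ℂ E) (hsum : ∑ i, finrank ℂ (F i) = finrank ℂ E) (x : ι → E)
    (hx : ∀ i, x i ∈ F i) (hspan : Submodule.span ℂ (Set.range x) = ⊤) [DecidablePred fun i => x i = 0] (i : ι) :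
    finrank ℂ (F i) = if x i = 0 then 0 else 1 := by
  classical
  have h1 : ∀ i, (if x i = 0 then 0 else 1) ≤ finrank ℂ (F i) := by
    intro i
    split_ifs with h
    · exact Nat.zero_le _
    · have h2 : F i ≠ ⊥ := fun hb => h (by simpa [hb] using hx i)
      exact Nat.one_le_iff_ne_zero.2 fun h3 => h2 (Submodule.finrank_eq_zero.1 h3)
  have h2 : finrank ℂ E ≤ ∑ i, (if x i = 0 then 0 else 1) := by
    have h3 : Submodule.span ℂ (((Finset.univ.filter fun i => ¬ x i = 0).image x : Finset E) : Set E) = ⊤ := by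
      rw [eq_top_iff, ← hspan, Submodule.span_le]
      rintro _ ⟨i, rfl⟩
      by_cases h : x i = 0
      · rw [h]; exact zero_mem _
      · refine Submodule.subset_span ?_
        rw [Finset.coe_image]
        exact ⟨i, by simp only [h, _root_.Finset.coe_filter, _root_.Finset.mem_univ, _root_.true_and, _root_.Set.mem_ofPred_eq, _root_.not_false_eq_true], rfl⟩
    have h4 := finrank_span_finset_le_card (R := ℂ) ((Finset.univ.filter fun i => ¬ x i = 0).image x)
    rw [Set.finrank, h3, finrank_top] at h4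
    refine h4.trans (Finset.card_image_le.trans (le_of_eq ?_))
    rw [Finset.card_filter]
    exact Finset.sum_congr rfl fun i _ => by split_ifs <;> simp_all only [_root_.Finset.coe_image, _root_.Finset.coe_filter, _root_.Finset.mem_univ, _root_.true_and]
  rw [← hsum] at h2
  have h3 := (Finset.sum_eq_sum_iff_of_le fun i _ => h1 i).1 (le_antisymm (Finset.sum_le_sum fun i _ => h1 i) h2)
  exact (h3 i (Finset.mem_univ i)).symm

end indep

/-- An irreducible module of the Hecke algebra of type `B_n`, nodes `0, …, n - 1`, double bond at the end. -/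
structure HB (n : ℕ) (q : ℕ → ℕ) (T : ℕ → Module.End ℂ E) : Prop where
  qpos : ∀ i < n, 0 < q i
  quad : ∀ i < n, Quad (T i) (q i)
  comm : ∀ i < n, ∀ j < n, i + 2 ≤ j → T i * T j = T j * T i
  three : ∀ i, i + 2 < n → T i * T (i + 1) * T i = T (i + 1) * T i * T (i + 1)
  qeq : ∀ i, i + 2 < n → q i = q (i + 1)
  four : ∀ i, i + 2 = n → T i * T (i + 1) * T i * T (i + 1) = T (i + 1) * T i * T (i + 1) * T i
  irr : ∀ S : Submodule ℂ E, (∀ i < n, ∀ v ∈ S, T i v ∈ S) → S = ⊥ ∨ S = ⊤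

namespace HB

variable [FiniteDimensional ℂ E] {n : ℕ} {q : ℕ → ℕ} {T : ℕ → Module.End ℂ E}

theorem sup_eq (H : HB n q T) : (⨆ i : Fin n, Fq (T i) (q i)) = ⊥ ∨ (⨆ i : Fin n, Fq (T i) (q i)) = ⊤ := by
  refine H.irr _ fun i hi v hv => ?_
  have h1 : T i v = (T i v + v) - v := by abel
  rw [h1]
  exact sub_mem (Submodule.mem_iSup_of_mem (⟨i, hi⟩ : Fin n) ((H.quad i hi).mem v)) hv

theorem sup_eq_top [Nontrivial E] (H : HB n q T)
    (hsum : ∑ i ∈ Finset.range n, finrank ℂ (Fq (T i) (q i)) = finrank ℂ E) :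
    (⨆ i : Fin n, Fq (T i) (q i)) = ⊤ := by
  refine H.sup_eq.resolve_left fun hb => ?_
  have h1 : ∀ i < n, Fq (T i) (q i) = ⊥ := fun i hi =>
    eq_bot_iff.2 ((le_iSup (fun i : Fin n => Fq (T i) (q i)) ⟨i, hi⟩).trans hb.le)
  have h2 : 0 < finrank ℂ E := finrank_pos
  rw [← hsum, Finset.sum_eq_zero] at h2
  · exact absurd h2 (lt_irrefl 0)
  · intro i hi
    rw [h1 i (Finset.mem_range.1 hi), finrank_bot]

theorem inf_eq [Nontrivial E] (H : HB n q T)
    (hsum : ∑ i ∈ Finset.range n, finrank ℂ (Fq (T i) (q i)) = finrank ℂ E) {i j : ℕ} (hi : i < n) (hj : j < n)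
    (hij : i ≠ j) : Fq (T i) (q i) ⊓ Fq (T j) (q j) = ⊥ :=
  inf_eq_bot_of_sum (fun i : Fin n => Fq (T i) (q i)) (H.sup_eq_top hsum)
    (by rw [← hsum, Finset.sum_range]) (i := ⟨i, hi⟩) (j := ⟨j, hj⟩) (fun h => hij (congrArg Fin.val h))

/-- the chain of vectors `y 0 = u ∈ F m`, `y (i + 1) ∈ F (m - i - 1)` -/
noncomputable def chain (T : ℕ → Module.End ℂ E) (m : ℕ) (u : E) : ℕ → E
  | 0 => u
  | i + 1 => T (m - (i + 1)) (chain T m u i) + chain T m u i

theorem chain_mem {m : ℕ} (H : HB (m + 2) q T) {u : E} (hu : u ∈ Fq (T m) (q m)) :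
    ∀ i ≤ m, chain T m u i ∈ Fq (T (m - i)) (q (m - i)) := by
  intro i hi
  rcases i with - | i
  · exact hu
  · exact (H.quad _ (by omega)).mem _

theorem chain_back [Nontrivial E] {m : ℕ} (H : HB (m + 2) q T)
    (hsum : ∑ i ∈ Finset.range (m + 2), finrank ℂ (Fq (T i) (q i)) = finrank ℂ E) {u : E}
    (hu : u ∈ Fq (T m) (q m)) {i : ℕ} (hi : i + 1 ≤ m) :
    T (m - i) (chain T m u (i + 1)) + chain T m u (i + 1) = (q (m - i) : ℂ) • chain T m u i := by
  have e1 : m - i = m - (i + 1) + 1 := by omega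
  have hq : q (m - (i + 1)) = q (m - i) := by
    rw [e1]
    exact H.qeq _ (by omega)
  have h0 : Fq (T (m - i)) (q (m - i)) ⊓ Fq (T (m - (i + 1))) (q (m - i)) = ⊥ := by
    rw [← hq]
    rw [hq]
    have := H.inf_eq hsum (i := m - i) (j := m - (i + 1)) (by omega) (by omega) (by omega)
    rwa [hq] at this
  refine add_one_three (H.quad _ (by omega)) (by rw [← hq]; exact H.quad _ (by omega)) ?_ h0
    (H.chain_mem hu i (by omega))
  have h3 := H.three (m - (i + 1)) (by omega)
  rw [← e1] at h3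
  exact h3.symm

/-- **The middle case** of type `B_n`. -/
theorem mid [Nontrivial E] (H : HB n q T) (hn : 2 ≤ n)
    (hsum : ∑ i ∈ Finset.range n, finrank ℂ (Fq (T i) (q i)) = finrank ℂ E) :
    (finrank ℂ E = 1 ∧ (∀ i < n - 1, finrank ℂ (Fq (T i) (q i)) = 0) ∧ finrank ℂ (Fq (T (n - 1)) (q (n - 1))) = 1) ∨
    (finrank ℂ E = n - 1 ∧ (∀ i < n - 1, finrank ℂ (Fq (T i) (q i)) = 1) ∧
      finrank ℂ (Fq (T (n - 1)) (q (n - 1))) = 0) ∨
    (finrank ℂ E = n ∧ ∀ i < n, finrank ℂ (Fq (T i) (q i)) = 1) := by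
  classical
  obtain ⟨m, rfl⟩ : ∃ m, n = m + 2 := ⟨n - 2, by omega⟩
  rw [show m + 2 - 1 = m + 1 by omega]
  have hinf := fun {i j : ℕ} (hi : i < m + 2) (hj : j < m + 2) (hij : i ≠ j) => H.inf_eq hsum hi hj hij
  -- the products of commuting operators vanish
  have hcomm : ∀ i < m + 2, ∀ j < m + 2, (i + 2 ≤ j ∨ j + 2 ≤ i) → ∀ v ∈ Fq (T j) (q j), T i v + v = 0 := by
    intro i hi j hj hij v hv
    have hc : T i * T j = T j * T i := by
      rcases hij with h | h
      · exact H.comm i hi j hj h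
      · exact (H.comm j hj i hi h).symm
    have h1 := add_one_two (H.quad i hi) (H.quad j hj) hc (hinf hi hj (by omega)) v
    rw [mem_Fq.1 hv, map_add, map_smul] at h1
    have h2 : ((q j : ℂ) + 1) • (T i v + v) = 0 := by rw [← h1]; module
    have h3 : ((q j : ℂ) + 1) ≠ 0 := by exact_mod_cast Nat.succ_ne_zero (q j)
    exact (smul_eq_zero.1 h2).resolve_left h3
  by_cases hm : Fq (T m) (q m) = ⊥
  · -- all short fixed spaces vanish
    left
    have hz : ∀ k ≤ m, Fq (T (m - k)) (q (m - k)) = ⊥ := by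
      intro k
      induction k with
      | zero => exact fun _ => hm
      | succ k ih =>
        intro hk
        have h1 := ih (by omega)
        rw [eq_bot_iff]
        intro v hv
        have e1 : m - k = m - (k + 1) + 1 := by omega
        have hq : q (m - (k + 1)) = q (m - k) := by rw [e1]; exact H.qeq _ (by omega)
        have h0 : Fq (T (m - (k + 1))) (q (m - (k + 1))) ⊓ Fq (T (m - k)) (q (m - (k + 1))) = ⊥ := by
          have := hinf (i := m - (k + 1)) (j := m - k) (by omega) (by omega) (by omega)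
          rwa [← hq] at this
        have h2 := add_one_three (H.quad _ (by omega)) (by rw [hq]; exact H.quad _ (by omega))
          (by have := H.three (m - (k + 1)) (by omega); rwa [← e1] at this) h0 hv
        have h3 : T (m - k) v + v = 0 := by
          have := (H.quad (m - k) (by omega)).mem v
          rwa [h1, Submodule.mem_bot] at this
        rw [h3, map_zero, add_zero] at h2
        exact (smul_eq_zero.1 h2.symm).resolve_left (by exact_mod_cast (H.qpos _ (by omega)).ne')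
    have hz' : ∀ i < m + 1, Fq (T i) (q i) = ⊥ := by
      intro i hi
      have := hz (m - i) (by omega)
      rwa [Nat.sub_sub_self (by omega)] at this
    have hz'' : ∀ i < m + 1, finrank ℂ (Fq (T i) (q i)) = 0 := fun i hi => by rw [hz' i hi, finrank_bot]
    have hlast : finrank ℂ (Fq (T (m + 1)) (q (m + 1))) = finrank ℂ E := by
      rw [← hsum, Finset.sum_range_succ, Finset.sum_eq_zero, zero_add]
      exact fun i hi => hz'' i (Finset.mem_range.1 hi)
    have htop : Fq (T (m + 1)) (q (m + 1)) = ⊤ := Submodule.eq_top_of_finrank_eq hlast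
    obtain ⟨u, hu⟩ := exists_ne (0 : E)
    have hspan : Submodule.span ℂ {u} = ⊤ := by
      refine (H.irr (Submodule.span ℂ {u}) fun i hi v hv => ?_).resolve_left ?_
      · rcases Nat.lt_or_ge i (m + 1) with h | h
        · rw [(H.quad i hi).neg (hz' i h)]
          exact neg_mem hv
        · obtain rfl : i = m + 1 := by omega
          have : v ∈ Fq (T (m + 1)) (q (m + 1)) := by rw [htop]; exact Submodule.mem_top
          rw [mem_Fq.1 this]
          exact Submodule.smul_mem _ _ hv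
      · intro hb
        exact hu (by simpa using hb)
    have h1 : finrank ℂ E = 1 := by
      rw [← finrank_top ℂ E, ← hspan, finrank_span_singleton hu]
    exact ⟨h1, hz'', hlast.trans h1⟩
  · -- an eigenvector of the operator of the double bond
    right
    have hq1 := H.quad m (by omega)
    have hq2 := H.quad (m + 1) (by omega)
    have h4 := add_one_four hq1 hq2 (H.four m rfl) (hinf (by omega) (by omega) (by omega))
    obtain ⟨u, c, hu0, hu, huc⟩ : ∃ (u : E) (c : ℂ), u ≠ 0 ∧ u ∈ Fq (T m) (q m) ∧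
        T m (T (m + 1) u + u) + (T (m + 1) u + u) = c • u := by
      obtain ⟨v, hv, hv0⟩ := Submodule.exists_mem_ne_zero_of_ne_bot hm
      by_cases hw : T m (T (m + 1) v + v) + (T (m + 1) v + v) = 0
      · exact ⟨v, 0, hv0, hv, by rw [hw, zero_smul]⟩
      · exact ⟨_, (q m : ℂ) + q (m + 1), hw, hq1.mem _, h4 v⟩
    let x : Fin (m + 2) → E := fun j => if (j : ℕ) = m + 1 then T (m + 1) u + u else chain T m u (m - j)
    have hxlast : ∀ j : Fin (m + 2), (j : ℕ) = m + 1 → x j = T (m + 1) u + u := fun j hj => if_pos hj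
    have hxs : ∀ j : Fin (m + 2), (j : ℕ) ≤ m → x j = chain T m u (m - j) := fun j hj => if_neg (by omega)
    have hxm : ∀ j : Fin (m + 2), (j : ℕ) = m → x j = u := by
      intro j hj
      rw [hxs j hj.le, hj, Nat.sub_self]
      rfl
    have hxF : ∀ j : Fin (m + 2), x j ∈ Fq (T j) (q j) := by
      intro j
      rcases Nat.lt_or_ge j (m + 1) with h | h
      · rw [hxs j (by omega)]
        have := H.chain_mem hu (m - j) (by omega)
        rwa [Nat.sub_sub_self (by omega)] at this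
      · have hj : (j : ℕ) = m + 1 := by omega
        rw [hxlast j hj, hj]
        exact hq2.mem u
    set S : Submodule ℂ E := Submodule.span ℂ (Set.range x) with hS
    have hxS : ∀ j, x j ∈ S := fun j => Submodule.subset_span ⟨j, rfl⟩
    have hstep : ∀ i < m + 2, ∀ j : Fin (m + 2), T i (x j) + x j ∈ S := by
      intro i hi j
      rcases Nat.lt_trichotomy i j with hlt | heq | hgt
      · rcases Nat.lt_or_ge (i + 1) j with h | h
        · rw [hcomm i hi j j.2 (Or.inl h) _ (hxF j)]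
          exact zero_mem _
        · have hj : (j : ℕ) = i + 1 := by omega
          rcases Nat.lt_or_ge i m with him | him
          · -- `x i = (T i + 1) (x (i + 1))`
            have e1 : x ⟨i, hi⟩ = T i (x j) + x j := by
              rw [hxs ⟨i, hi⟩ (by show i ≤ m; omega), hxs j (by omega)]
              show chain T m u (m - i) = _
              have e2 : m - i = (m - (i + 1)) + 1 := by omega
              rw [e2, hj]
              show T (m - (m - (i + 1) + 1)) (chain T m u (m - (i + 1))) + chain T m u (m - (i + 1)) = _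
              rw [show m - (m - (i + 1) + 1) = i by omega]
            rw [← e1]
            exact hxS _
          · -- `i = m`, `j = m + 1`
            obtain rfl : i = m := by omega
            rw [hxlast j hj, huc]
            exact Submodule.smul_mem _ _ (by rw [← hxm ⟨i, hi⟩ rfl]; exact hxS _)
      · have h1 := mem_Fq.1 (hxF j)
        rw [heq, h1]
        exact add_mem (Submodule.smul_mem _ _ (hxS j)) (hxS j)
      · rcases Nat.lt_or_ge (j + 1) i with h | h
        · rw [hcomm i hi j j.2 (Or.inr h) _ (hxF j)]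
          exact zero_mem _
        · have hj : i = j + 1 := by omega
          rcases Nat.lt_or_ge j m with hjm | hjm
          · -- `(T (j + 1) + 1) (x j) = q • x (j + 1)`
            have e1 := H.chain_back hsum hu (i := m - (j + 1)) (by omega)
            rw [show m - (m - ((j : ℕ) + 1)) = j + 1 by omega, show m - ((j : ℕ) + 1) + 1 = m - j by omega] at e1
            rw [hxs j (by omega), hj, e1]
            refine Submodule.smul_mem _ _ ?_
            have e2 := hxs ⟨j + 1, by omega⟩ (by show (j : ℕ) + 1 ≤ m; omega)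
            have e3 : x ⟨j + 1, by omega⟩ = chain T m u (m - ((j : ℕ) + 1)) := e2
            rw [← e3]
            exact hxS _
          · have hjm' : (j : ℕ) = m := by omega
            rw [hxm j hjm', hj, hjm', ← hxlast ⟨m + 1, by omega⟩ rfl]
            exact hxS _
    have hStop : S = ⊤ := by
      refine (H.irr S fun i hi v hv => ?_).resolve_left ?_
      · have h1 : T i v = (T i v + v) - v := by abel
        rw [h1]
        refine sub_mem ?_ hv
        induction hv using Submodule.span_induction with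
        | mem v hv =>
          obtain ⟨j, rfl⟩ := hv
          exact hstep i hi j
        | zero => rw [map_zero, add_zero]; exact zero_mem _
        | add a b _ _ ha hb =>
          have : T i (a + b) + (a + b) = (T i a + a) + (T i b + b) := by rw [map_add]; abel
          rw [this]
          exact add_mem (ha (by abel)) (hb (by abel))
        | smul r a _ ha =>
          have : T i (r • a) + r • a = r • (T i a + a) := by rw [map_smul, smul_add]
          rw [this]
          exact Submodule.smul_mem _ _ (ha (by abel))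
      · intro hb
        apply hu0
        have := hxS ⟨m, by omega⟩
        rw [hb, Submodule.mem_bot, hxm ⟨m, by omega⟩ rfl] at this
        exact this
    have hfin := finrank_of_span (fun i : Fin (m + 2) => Fq (T i) (q i)) (by rw [← hsum, Finset.sum_range]) x hxF hStop
    -- the short vectors are not zero
    have hne : ∀ k ≤ m, chain T m u k ≠ 0 := by
      intro k
      induction k with
      | zero => exact fun _ => hu0
      | succ k ih =>
        intro hk h0
        have h1 := H.chain_back hsum hu (i := k) hk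
        rw [h0, map_zero, add_zero] at h1
        exact ih (by omega) ((smul_eq_zero.1 h1.symm).resolve_left (by exact_mod_cast (H.qpos _ (by omega)).ne'))
    have hshort : ∀ i < m + 1, finrank ℂ (Fq (T i) (q i)) = 1 := by
      intro i hi
      have h1 := hfin ⟨i, by omega⟩
      rw [if_neg] at h1
      · exact h1
      · rw [hxs ⟨i, by omega⟩ (by show i ≤ m; omega)]
        exact hne _ (by omega)
    have hsum' : finrank ℂ E = (m + 1) + finrank ℂ (Fq (T (m + 1)) (q (m + 1))) := by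
      rw [← hsum, Finset.sum_range_succ, Finset.sum_congr rfl fun i hi => hshort i (Finset.mem_range.1 hi)]
      simp
    have hl := hfin ⟨m + 1, by omega⟩
    change finrank ℂ (Fq (T (m + 1)) (q (m + 1))) = _ at hl
    by_cases hx : x ⟨m + 1, by omega⟩ = 0
    · rw [if_pos hx] at hl
      left
      exact ⟨by omega, hshort, hl⟩
    · rw [if_neg hx] at hl
      right
      refine ⟨by omega, fun i hi => ?_⟩
      rcases Nat.lt_or_ge i (m + 1) with h | h
      · exact hshort i h
      · obtain rfl : i = m + 1 := by omega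
        exact hl

end HB

/-- **The middle case** of type `B_n`, arbitrary index type: `e 0 - e 1 - … - e (n-2) = e (n-1)`. -/
theorem mid_equiv [FiniteDimensional ℂ E] [Nontrivial E] {I : Type*} [Fintype I] {n : ℕ} (hn : 2 ≤ n) (e : Fin n ≃ I)
    {q : I → ℕ} {T : I → Module.End ℂ E} (qpos : ∀ i, 0 < q i) (quad : ∀ i, Quad (T i) (q i))
    (comm : ∀ i j : Fin n, (i : ℕ) + 2 ≤ j → T (e i) * T (e j) = T (e j) * T (e i))
    (three : ∀ i j : Fin n, (j : ℕ) = i + 1 → (i : ℕ) + 2 < n →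
      T (e i) * T (e j) * T (e i) = T (e j) * T (e i) * T (e j) ∧ q (e i) = q (e j))
    (four : ∀ i j : Fin n, (j : ℕ) = i + 1 → (i : ℕ) + 2 = n →
      T (e i) * T (e j) * T (e i) * T (e j) = T (e j) * T (e i) * T (e j) * T (e i))
    (irr : ∀ S : Submodule ℂ E, (∀ i, ∀ v ∈ S, T i v ∈ S) → S = ⊥ ∨ S = ⊤)
    (hsum : ∑ i, finrank ℂ (Fq (T i) (q i)) = finrank ℂ E) :
    (∀ i j : I, i ≠ j → Fq (T i) (q i) ⊓ Fq (T j) (q j) = ⊥) ∧
    ((finrank ℂ E = 1 ∧ (∀ i : Fin n, (i : ℕ) + 1 < n → finrank ℂ (Fq (T (e i)) (q (e i))) = 0) ∧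
        ∀ i : Fin n, (i : ℕ) + 1 = n → finrank ℂ (Fq (T (e i)) (q (e i))) = 1) ∨
    (finrank ℂ E = n - 1 ∧ (∀ i : Fin n, (i : ℕ) + 1 < n → finrank ℂ (Fq (T (e i)) (q (e i))) = 1) ∧
        ∀ i : Fin n, (i : ℕ) + 1 = n → finrank ℂ (Fq (T (e i)) (q (e i))) = 0) ∨
    (finrank ℂ E = n ∧ ∀ i : I, finrank ℂ (Fq (T i) (q i)) = 1)) := by
  classical
  let T' : ℕ → Module.End ℂ E := fun k => if h : k < n then T (e ⟨k, h⟩) else 0
  let q' : ℕ → ℕ := fun k => if h : k < n then q (e ⟨k, h⟩) else 0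
  have hT : ∀ k (h : k < n), T' k = T (e ⟨k, h⟩) := fun k h => dif_pos h
  have hq : ∀ k (h : k < n), q' k = q (e ⟨k, h⟩) := fun k h => dif_pos h
  have hsum' : ∑ i ∈ Finset.range n, finrank ℂ (Fq (T' i) (q' i)) = finrank ℂ E := by
    rw [Finset.sum_range, ← hsum, ← e.sum_comp]
    exact Finset.sum_congr rfl fun i _ => by rw [hT i i.2, hq i i.2]
  have H : HB n q' T' := by
    refine ⟨fun i hi => ?_, fun i hi => ?_, fun i hi j hj hij => ?_, fun i hi => ?_, fun i hi => ?_, fun i hi => ?_,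
      fun S hS => ?_⟩
    · rw [hq i hi]; exact qpos _
    · rw [hq i hi, hT i hi]; exact quad _
    · rw [hT i hi, hT j hj]; exact comm _ _ hij
    · rw [hT i (by omega), hT (i + 1) (by omega)]
      exact (three ⟨i, by omega⟩ ⟨i + 1, by omega⟩ rfl hi).1
    · rw [hq i (by omega), hq (i + 1) (by omega)]
      exact (three ⟨i, by omega⟩ ⟨i + 1, by omega⟩ rfl hi).2
    · rw [hT i (by omega), hT (i + 1) (by omega)]
      exact four ⟨i, by omega⟩ ⟨i + 1, by omega⟩ rfl hi
    · refine irr S fun i v hv => ?_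
      have := hS (e.symm i) (e.symm i).2 v hv
      rwa [hT _ (e.symm i).2, Fin.eta, e.apply_symm_apply] at this
  have hF : ∀ i : I, Fq (T' (e.symm i)) (q' (e.symm i)) = Fq (T i) (q i) := by
    intro i
    rw [hT _ (e.symm i).2, hq _ (e.symm i).2, Fin.eta, e.apply_symm_apply]
  have hF' : ∀ i : Fin n, Fq (T' i) (q' i) = Fq (T (e i)) (q (e i)) := fun i => by
    rw [hT _ i.2, hq _ i.2]
  refine ⟨fun i j hij => ?_, ?_⟩
  · rw [← hF i, ← hF j]
    exact H.inf_eq hsum' (e.symm i).2 (e.symm j).2 fun h => hij (e.symm.injective (Fin.ext h))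
  · rcases H.mid hn hsum' with ⟨h1, h2, h3⟩ | ⟨h1, h2, h3⟩ | ⟨h1, h2⟩
    · refine Or.inl ⟨h1, fun i hi => ?_, fun i hi => ?_⟩
      · rw [← hF' i]; exact h2 i (by omega)
      · rw [← hF' i]
        have e1 : (i : ℕ) = n - 1 := by omega
        rw [e1]; exact h3
    · refine Or.inr (Or.inl ⟨h1, fun i hi => ?_, fun i hi => ?_⟩)
      · rw [← hF' i]; exact h2 i (by omega)
      · rw [← hF' i]
        have e1 : (i : ℕ) = n - 1 := by omega
        rw [e1]; exact h3
    · refine Or.inr (Or.inr ⟨h1, fun i => ?_⟩)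
      rw [← hF i]
      exact h2 _ (e.symm i).2

end Cfsg.Agent.H639.OZ
end

-- part: H200/VZ/One
section
/-!
# S4842: the space `V^B` as a module of the Hecke algebra (helper200)

`E = V^B = fx ρ B`, `tau i = p_B n_i`, `TE i = q_i tau i` on `E`.
* `TE_eq` : `TE i = (1 + q_i) p_{P_i} - 1`; `quad`, `braid`, `irr`;
* `mem_fx_PJ` : `V^{P_K} = {v ∈ E | TE i v = q_i v, i ∈ K}`;
* `VU_eq` : `V^U = V^B` if `V^B ≠ 0`.
-/

set_option autoImplicit false
set_option linter.unusedSectionVars false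

open Cfsg

namespace Cfsg.Agent.H200.VZ

open CoxeterSystem Cfsg.Agent.ChevalleyStructure.CoxeterGeom Cfsg.Agent.Tits.Roots Cfsg.Agent.Tits.Core
  Cfsg.Agent.Tits.Exchange Cfsg.Agent.Nodes.Reps Cfsg.Agent.Nodes.BNOf Cfsg.Agent.Nodes.StabComb
  Cfsg.Agent.Nodes.Bruhat Cfsg.Agent.Nodes.OppDec Cfsg.Agent.Nodes.LeviDec Cfsg.Agent.H985.VZ Module
  Cfsg.Agent.H639.OZ

universe u v

variable {I W : Type*} {Y : Type u} [Fintype I] [DecidableEq I] [Group W] [Group Y] {M : CoxeterMatrix I}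
  {cs : CoxeterSystem M W} {A : I → I → ℤ} {h : IsCartan M A} {p : ℕ} {T : Subgroup Y} {n : I → Y}
  {X : (I → ℤ) → Subgroup Y}

/-! ### the parabolic subgroup of one node -/

section card

variable (R : RGD cs h p T n X) [Finite W]

include R

omit [Finite W] in
theorem rp_n_inv (i : I) : Rp cs R.nsys (cs.simple i) (n i)⁻¹ := by
  have := (rp_simple cs R.nsys i).inv
  rwa [cs.inv_simple] at this

omit [Finite W] in
theorem X_le_B' (i : I) : X (sr i) ≤ RGD.B cs h T X := RGD.X_le_B (isRoot_sr cs h i) (sr_nonneg i)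

omit [Finite W] in
/-- `b n_i ∈ X_i n_i B` -/
theorem exists_mul_n (i : I) {b : Y} (hb : b ∈ RGD.B cs h T X) :
    ∃ x ∈ X (sr i), ∃ c ∈ RGD.B cs h T X, b * n i = x * n i * c := by
  obtain ⟨v, hv, x, hx, t, ht, rfl⟩ := R.mem_B' i hb
  have h1 : x⁻¹ * v * x ∈ RGD.Sup X (RGD.PosNe cs h i) := by
    have := (Subgroup.mem_normalizer_iff.1 (R.X_le_normalizer_V i (inv_mem hx)) v).1 hv
    rwa [inv_inv] at this
  have hle : RGD.Sup X (RGD.PosNe cs h i) ≤ RGD.B cs h T X :=
    le_trans (RGD.Sup_mono (fun z hz => (⟨hz.1, hz.2.1⟩ : z ∈ RGD.Pos cs h))) RGD.U_le_B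
  have h2 : (n i)⁻¹ * (x⁻¹ * v * x) * n i ∈ RGD.Sup X (RGD.PosNe cs h i) := by
    have h3 : cj (n i)⁻¹ (RGD.Sup X (RGD.PosNe cs h i)) = RGD.Sup X (RGD.PosNe cs h i) := by
      conv_lhs => rw [← R.cj_n_V i]
      exact cj_inv_cj _ _
    rw [← h3, mem_cj]
    have h4 : (n i)⁻¹⁻¹ * ((n i)⁻¹ * (x⁻¹ * v * x) * n i) * (n i)⁻¹ = x⁻¹ * v * x := by group
    rw [h4]
    exact h1
  have h5 : (n i)⁻¹ * t * n i ∈ T := by
    have := (Subgroup.mem_normalizer_iff.1 (inv_mem (R.nsys.norm i)) t).1 ht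
    rwa [inv_inv] at this
  refine ⟨x, hx, _, mul_mem (hle h2) (RGD.T_le_B h5), ?_⟩
  group

/-- `x n_i b = x' n_i b'` only for `x = x'` -/
theorem mul_n_inj (i : I) {x x' b b' : Y} (hx : x ∈ X (sr i)) (hx' : x' ∈ X (sr i)) (hb : b ∈ RGD.B cs h T X)
    (hb' : b' ∈ RGD.B cs h T X) (e : x * n i * b = x' * n i * b') : x = x' ∧ b = b' := by
  have h1 : (n i)⁻¹ * (x'⁻¹ * x) * (n i)⁻¹⁻¹ = b' * b⁻¹ := by
    have : x'⁻¹ * x * n i * b = n i * b' := by
      rw [mul_assoc, mul_assoc, ← mul_assoc x, e]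
      group
    calc (n i)⁻¹ * (x'⁻¹ * x) * (n i)⁻¹⁻¹ = (n i)⁻¹ * (x'⁻¹ * x * n i * b) * b⁻¹ := by group
      _ = b' * b⁻¹ := by rw [this]; group
  have h2 := eq_one_of_conj_mem_B R (mul_mem (inv_mem hx') hx) (rp_n_inv R i) (by rw [h1]; exact mul_mem hb' (inv_mem hb))
  have h3 : x = x' := (inv_mul_eq_one.1 h2).symm
  subst h3
  exact ⟨rfl, mul_left_cancel (by rwa [mul_assoc, mul_assoc] at e)⟩

omit [Finite W] in
theorem n_not_mem_B [Finite W] (i : I) : n i ∉ RGD.B cs h T X := by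
  intro h1
  have h2 := R.eq_one_of_mem_B (rp_simple cs R.nsys i) h1
  have h3 := cs.length_simple i
  rw [h2, cs.length_one] at h3
  exact absurd h3 (by decide)

omit R [Finite W] in
theorem WJ_singleton {i : I} {w : W} (hw : w ∈ WJ cs {i}) : w = 1 ∨ w = cs.simple i := by
  obtain ⟨ω, hω, rfl⟩ := exists_word_of_mem_WJ cs hw
  clear hw
  induction ω with
  | nil => exact Or.inl (wordProd_nil cs)
  | cons j ω ih =>
    have h1 : j = i := hω j (by simp)
    subst h1
    rw [wordProd_cons]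
    rcases ih fun k hk => hω k (by simp [hk]) with h2 | h2
    · right; rw [h2, mul_one]
    · left; rw [h2, cs.simple_mul_simple_self]

/-- the elements of `P_i` -/
theorem mem_Pi (i : I) {g : Y} : g ∈ PJ cs h T X {i} ↔
    g ∈ RGD.B cs h T X ∨ ∃ x ∈ X (sr i), ∃ b ∈ RGD.B cs h T X, g = x * n i * b := by
  constructor
  · intro hg
    obtain ⟨w, hw, b₁, hb₁, k, hk, b₂, hb₂, rfl⟩ := (mem_PJ_iff_cell R).1 hg
    rcases WJ_singleton hw with rfl | rfl
    · exact Or.inl (mul_mem (mul_mem hb₁ (RGD.T_le_B hk.mem_of_one)) hb₂)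
    · right
      obtain ⟨x, hx, c, hc, e⟩ := exists_mul_n R i hb₁
      have h1 : (n i)⁻¹ * k ∈ T := (rp_simple cs R.nsys i).unique hk
      refine ⟨x, hx, c * ((n i)⁻¹ * k) * b₂, mul_mem (mul_mem hc (RGD.T_le_B h1)) hb₂, ?_⟩
      calc b₁ * k * b₂ = (b₁ * n i) * ((n i)⁻¹ * k) * b₂ := by group
        _ = x * n i * (c * ((n i)⁻¹ * k) * b₂) := by rw [e]; group
  · rintro (hg | ⟨x, hx, b, hb, rfl⟩)
    · exact B_le_PJ hg
    · exact mul_mem (mul_mem (B_le_PJ (X_le_B' R i hx)) (LJ_le_PJ (n_mem_LJ R rfl))) (B_le_PJ hb)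

/-- `|P_i| = (1 + q_i) |B|` -/
theorem card_Pi [Finite Y] (i : I) : Nat.card (PJ cs h T X {i}) = (1 + qq X i) * Nat.card (RGD.B cs h T X) := by
  classical
  have hn := n_not_mem_B R i
  let f : RGD.B cs h T X ⊕ (X (sr i) × RGD.B cs h T X) → PJ cs h T X {i} := fun z => match z with
    | Sum.inl b => ⟨b, (mem_Pi R i).2 (Or.inl b.2)⟩
    | Sum.inr (x, b) => ⟨x * n i * b, (mem_Pi R i).2 (Or.inr ⟨x, x.2, b, b.2, rfl⟩)⟩
  have hnot : ∀ (x : X (sr i)) (b : RGD.B cs h T X), (x : Y) * n i * b ∉ RGD.B cs h T X := by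
    intro x b hxb
    apply hn
    have : n i = (x : Y)⁻¹ * ((x : Y) * n i * b) * (b : Y)⁻¹ := by group
    rw [this]
    exact mul_mem (mul_mem (inv_mem (X_le_B' R i x.2)) hxb) (inv_mem b.2)
  have hf : Function.Bijective f := by
    constructor
    · rintro (b | ⟨x, b⟩) (b' | ⟨x', b'⟩) e
      · have e1 : (b : Y) = b' := congrArg (fun z : PJ cs h T X {i} => (z : Y)) e
        exact congrArg Sum.inl (Subtype.ext e1)
      · exfalso
        have e1 : (b : Y) = x' * n i * b' := congrArg (fun z : PJ cs h T X {i} => (z : Y)) e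
        exact hnot x' b' (by rw [← e1]; exact b.2)
      · exfalso
        have e1 : (x : Y) * n i * b = b' := congrArg (fun z : PJ cs h T X {i} => (z : Y)) e
        exact hnot x b (by rw [e1]; exact b'.2)
      · have e1 : (x : Y) * n i * b = x' * n i * b' := congrArg (fun z : PJ cs h T X {i} => (z : Y)) e
        obtain ⟨h1, h2⟩ := mul_n_inj R i x.2 x'.2 b.2 b'.2 e1
        rw [Subtype.ext h1, Subtype.ext h2]
    · rintro ⟨g, hg⟩
      rcases (mem_Pi R i).1 hg with h1 | ⟨x, hx, b, hb, rfl⟩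
      · exact ⟨Sum.inl ⟨g, h1⟩, rfl⟩
      · exact ⟨Sum.inr (⟨x, hx⟩, ⟨b, hb⟩), rfl⟩
  rw [← Nat.card_congr (Equiv.ofBijective f hf), Nat.card_sum, Nat.card_prod, add_mul, one_mul]
  rfl

end card

/-! ### the operators -/

section ops

variable {V : Type v} [AddCommGroup V] [Module ℂ V]

/-- `V^B` -/
def VB (cs : CoxeterSystem M W) (h : IsCartan M A) (T : Subgroup Y) (X : (I → ℤ) → Subgroup Y)
    (ρ : Representation ℂ Y V) : Submodule ℂ V := fx ρ (RGD.B cs h T X)

variable [Finite Y]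

/-- `p_B n_i` on `V^B` -/
noncomputable def tau (cs : CoxeterSystem M W) (h : IsCartan M A) (T : Subgroup Y) (n : I → Y)
    (X : (I → ℤ) → Subgroup Y) (ρ : Representation ℂ Y V) (i : I) : Module.End ℂ (VB cs h T X ρ) where
  toFun v := ⟨av ρ (RGD.B cs h T X) (ρ (n i) v), av_mem _ _ _⟩
  map_add' v w := Subtype.ext (by
    change av ρ _ (ρ (n i) ((v : V) + w)) = _
    rw [map_add, map_add]; rfl)
  map_smul' c v := Subtype.ext (by
    change av ρ _ (ρ (n i) (c • (v : V))) = _
    rw [map_smul, map_smul]; rfl)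

/-- the operators of the Hecke algebra -/
noncomputable def TE (cs : CoxeterSystem M W) (h : IsCartan M A) (T : Subgroup Y) (n : I → Y)
    (X : (I → ℤ) → Subgroup Y) (ρ : Representation ℂ Y V) (i : I) : Module.End ℂ (VB cs h T X ρ) :=
  (qq X i : ℂ) • tau cs h T n X ρ i

theorem coe_tau {ρ : Representation ℂ Y V} (i : I) (v : VB cs h T X ρ) :
    (tau cs h T n X ρ i v : V) = av ρ (RGD.B cs h T X) (ρ (n i) v) := rfl

theorem coe_TE {ρ : Representation ℂ Y V} (i : I) (v : VB cs h T X ρ) :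
    (TE cs h T n X ρ i v : V) = (qq X i : ℂ) • av ρ (RGD.B cs h T X) (ρ (n i) v) := rfl

end ops

section main

variable (R : RGD cs h p T n X) [Finite W] [Finite Y] {V : Type v} [AddCommGroup V] [Module ℂ V]
  {ρ : Representation ℂ Y V}

include R

/-- `T_i = (1 + q_i) p_{P_i} - 1` -/
theorem TE_eq (i : I) (v : VB cs h T X ρ) :
    (TE cs h T n X ρ i v : V) = (1 + qq X i : ℂ) • av ρ (PJ cs h T X {i}) v - v := by
  classical
  set B := RGD.B cs h T X with hB
  set P := PJ cs h T X {i} with hP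
  let _ : Fintype P := Fintype.ofFinite P
  have hBP : B ≤ P := B_le_PJ
  have hv : ∀ b ∈ B, ρ b (v : V) = v := fun b hb => v.2 b hb
  -- `av_P v = av_B (av_P v)`
  have h1 : av ρ P (v : V) = av ρ B (av ρ P v) := (av_of_mem (fx_mono hBP (av_mem ρ P v))).symm
  have h2 : ∀ g : P, av ρ B (ρ g v) = if (g : Y) ∈ B then (v : V) else av ρ B (ρ (n i) v) := by
    intro g
    rcases (mem_Pi R i).1 g.2 with h3 | ⟨x, hx, b, hb, e⟩
    · rw [if_pos h3, hv _ h3]
      exact av_of_mem v.2
    · rw [if_neg, e, map_mul, map_mul, Module.End.mul_apply, Module.End.mul_apply, hv b hb,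
        av_rho ρ (X_le_B' R i hx)]
      rw [e]
      intro hxb
      apply n_not_mem_B R i
      have : n i = x⁻¹ * (x * n i * b) * b⁻¹ := by group
      rw [this]
      exact mul_mem (mul_mem (inv_mem (X_le_B' R i hx)) hxb) (inv_mem hb)
  have hc1 : (Finset.univ.filter fun g : P => (g : Y) ∈ B).card = Nat.card B := by
    rw [← Fintype.card_subtype, ← Nat.card_eq_fintype_card]
    exact Nat.card_congr ⟨fun g => ⟨g.1.1, g.2⟩, fun b => ⟨⟨b.1, hBP b.2⟩, b.2⟩, fun _ => rfl, fun _ => rfl⟩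
  have hc2 : (Finset.univ.filter fun g : P => ¬ (g : Y) ∈ B).card = qq X i * Nat.card B := by
    have h3 := Finset.card_filter_add_card_filter_not (s := (Finset.univ : Finset P)) (fun g : P => (g : Y) ∈ B)
    rw [hc1, Finset.card_univ, ← Nat.card_eq_fintype_card, card_Pi R i, add_mul, one_mul] at h3
    exact Nat.add_left_cancel h3
  have h3 : av ρ P (v : V) = (Nat.card P : ℂ)⁻¹ • ((Nat.card B : ℂ) • (v : V) +
      ((qq X i * Nat.card B : ℕ) : ℂ) • av ρ B (ρ (n i) v)) := by
    rw [h1, av_apply ρ P, map_smul, map_sum, Finset.sum_congr rfl fun g _ => h2 g, Finset.sum_ite, Finset.sum_const,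
      Finset.sum_const, hc1, hc2, ← Nat.cast_smul_eq_nsmul ℂ, ← Nat.cast_smul_eq_nsmul ℂ]
  have hB0 : (Nat.card B : ℂ) ≠ 0 := card_ne B
  have hq0 : (1 + qq X i : ℂ) ≠ 0 := by
    have : ((1 + qq X i : ℕ) : ℂ) ≠ 0 := Nat.cast_ne_zero.2 (by omega)
    simpa only [_root_.ne_eq, _root_.Nat.cast_add, _root_.Nat.cast_one] using this
  rw [coe_TE, h3, hP, card_Pi R i, smul_smul]
  push_cast
  rw [← hB, show (1 + (qq X i : ℂ)) * ((1 + (qq X i : ℂ)) * (Nat.card B : ℂ))⁻¹ = (Nat.card B : ℂ)⁻¹ by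
    rw [mul_inv, ← mul_assoc, mul_inv_cancel₀ hq0, one_mul], smul_add, smul_smul, smul_smul,
    inv_mul_cancel₀ hB0, one_smul, show (Nat.card B : ℂ)⁻¹ * ((qq X i : ℂ) * Nat.card B) = qq X i by
    rw [mul_comm, mul_assoc, mul_inv_cancel₀ hB0, mul_one], add_sub_cancel_left]

/-- `v ∈ V^{P_i}` iff `T_i v = q_i v` -/
theorem TE_eq_iff (i : I) (v : VB cs h T X ρ) :
    TE cs h T n X ρ i v = (qq X i : ℂ) • v ↔ (v : V) ∈ fx ρ (PJ cs h T X {i}) := by
  have hq0 : (1 + qq X i : ℂ) ≠ 0 := by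
    have : ((1 + qq X i : ℕ) : ℂ) ≠ 0 := Nat.cast_ne_zero.2 (by omega)
    simpa only [_root_.ne_eq, _root_.Nat.cast_add, _root_.Nat.cast_one] using this
  rw [← Subtype.coe_inj, TE_eq R, Submodule.coe_smul]
  constructor
  · intro h1
    have h2 : (1 + qq X i : ℂ) • av ρ (PJ cs h T X {i}) v = (1 + qq X i : ℂ) • (v : V) := by
      rw [sub_eq_iff_eq_add] at h1
      rw [h1, add_smul, one_smul, add_comm]
    have h3 := smul_right_injective V hq0 h2
    rw [← h3]
    exact av_mem _ _ _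
  · intro h1
    rw [av_of_mem h1, add_smul, one_smul, add_sub_cancel_left]

/-- the quadratic relation -/
theorem quad (i : I) : Quad (TE cs h T n X ρ i) (qq X i) := by
  ext v
  rw [Module.End.mul_apply, LinearMap.zero_apply, LinearMap.sub_apply, LinearMap.add_apply, LinearMap.smul_apply,
    Module.End.one_apply, Module.End.one_apply, sub_eq_zero.2]
  rw [TE_eq_iff R]
  have h1 : ((TE cs h T n X ρ i v + v : VB cs h T X ρ) : V) = (1 + qq X i : ℂ) • av ρ (PJ cs h T X {i}) v := by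
    rw [Submodule.coe_add, TE_eq R, sub_add_cancel]
  rw [h1]
  exact Submodule.smul_mem _ _ (av_mem _ _ _)

/-- the fixed vectors of the parabolic subgroups -/
theorem mem_fx_PJ {K : Set I} (v : VB cs h T X ρ) :
    (v : V) ∈ fx ρ (PJ cs h T X K) ↔ ∀ i ∈ K, TE cs h T n X ρ i v = (qq X i : ℂ) • v := by
  constructor
  · intro h1 i hi
    rw [TE_eq_iff R]
    refine fx_mono ?_ h1
    intro g hg
    obtain ⟨w, hw, hc⟩ := (mem_PJ_iff_cell R).1 hg
    refine (mem_PJ_iff_cell R).2 ⟨w, ?_, hc⟩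
    rcases WJ_singleton hw with rfl | rfl
    · exact one_mem _
    · exact simple_mem_WJ cs hi
  · intro h1
    have hn : ∀ i ∈ K, ρ (n i) (v : V) = v := fun i hi =>
      ((TE_eq_iff R i v).1 (h1 i hi)) (n i) (LJ_le_PJ (n_mem_LJ R rfl))
    have hk : ∀ ω : List I, (∀ i ∈ ω, i ∈ K) → ∀ g, Rp cs R.nsys (cs.wordProd ω) g → ρ g (v : V) = v := by
      intro ω
      induction ω with
      | nil =>
        intro _ g hg
        rw [wordProd_nil] at hg
        exact v.2 g (RGD.T_le_B hg.mem_of_one)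
      | cons i ω ih =>
        intro hω g hg
        rw [wordProd_cons] at hg
        have h2 : Rp cs R.nsys (cs.wordProd ω) ((n i)⁻¹ * g) := by
          have := (rp_simple cs R.nsys i).inv.mul hg
          rwa [inv_mul_cancel_left] at this
        have h3 := ih (fun j hj => hω j (by simp [hj])) _ h2
        calc ρ g (v : V) = ρ (n i * ((n i)⁻¹ * g)) v := by rw [mul_inv_cancel_left]
          _ = v := by rw [map_mul, Module.End.mul_apply, h3, hn i (hω i (by simp))]
    intro g hg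
    obtain ⟨w, hw, b₁, hb₁, k, hk', b₂, hb₂, rfl⟩ := (mem_PJ_iff_cell R).1 hg
    obtain ⟨ω, hω, rfl⟩ := exists_word_of_mem_WJ cs hw
    rw [map_mul, map_mul, Module.End.mul_apply, Module.End.mul_apply, v.2 b₂ hb₂, hk ω hω k hk', v.2 b₁ hb₁]

/-- the step -/
theorem tau_rep {i : I} {w : W} {g : Y} (hg : Rp cs R.nsys w g) (hw : 0 ≤ rep cs h w⁻¹ (sr i)) (v : VB cs h T X ρ) :
    av ρ (RGD.B cs h T X) (ρ (n i) (av ρ (RGD.B cs h T X) (ρ g v))) = av ρ (RGD.B cs h T X) (ρ (n i * g) v) := by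
  have hvU : (v : V) ∈ VU cs h X ρ := fx_mono RGD.U_le_B v.2
  have h1 := rho_fx_X R hg (isRoot_sr cs h i) hw hvU
  have h2 := el_n (ρ := ρ) R (i := i) (l := 1) (l' := 1) (fun _ _ _ _ _ => rfl) h1
  have h3 : lamB R (1 : T →* ℂˣ) = 1 := by
    unfold lamB
    exact MonoidHom.one_comp _
  rw [h3] at h2
  rw [map_mul, Module.End.mul_apply]
  exact h2

/-- the product of the `tau`'s along a word -/
noncomputable def opw (cs : CoxeterSystem M W) (h : IsCartan M A) (T : Subgroup Y) (n : I → Y)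
    (X : (I → ℤ) → Subgroup Y) (ρ : Representation ℂ Y V) (ω : List I) : Module.End ℂ (VB cs h T X ρ) :=
  (ω.map (tau cs h T n X ρ)).prod

omit R [Finite W] [Finite Y] [Fintype I] [DecidableEq I] in
theorem alt_inv (i j : I) (k : ℕ) : (cs.wordProd (alternatingWord i j k))⁻¹ =
    cs.wordProd (alternatingWord (if Even k then j else i) (if Even k then i else j) k) := by
  induction k with
  | zero => simp [alternatingWord]
  | succ k ih =>
    rw [alternatingWord_succ', wordProd_cons, mul_inv_rev, ih, cs.inv_simple]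
    by_cases hk : Even k
    · have hk' : ¬ Even (k + 1) := by rwa [Nat.even_add_one, not_not]
      rw [if_pos hk, if_pos hk, if_neg hk', if_neg hk']
      change _ = cs.wordProd ((alternatingWord j i k).concat j)
      rw [wordProd_concat]
    · have hk' : Even (k + 1) := by rwa [Nat.even_add_one]
      rw [if_neg hk, if_neg hk, if_pos hk', if_pos hk']
      change _ = cs.wordProd ((alternatingWord i j k).concat i)
      rw [wordProd_concat]

/-- the operators of alternating words -/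
theorem opw_alt {i j : I} (hij : i ≠ j) : ∀ k ≤ M i j, ∀ (g : Y), Rp cs R.nsys (cs.wordProd (alternatingWord i j k)) g →
    ∀ v : VB cs h T X ρ, (opw cs h T n X ρ (alternatingWord i j k) v : V) = av ρ (RGD.B cs h T X) (ρ g v) := by
  intro k
  induction k with
  | zero =>
    intro _ g hg v
    change (v : V) = _
    have h1 : alternatingWord i j 0 = [] := rfl
    rw [h1, wordProd_nil] at hg
    rw [v.2 g (RGD.T_le_B hg.mem_of_one)]
    exact (av_of_mem v.2).symm
  | succ k ih =>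
    intro hk g hg v
    rw [alternatingWord_succ'] at hg ⊢
    rw [wordProd_cons] at hg
    set x := (if Even k then j else i) with hx
    have h2 : Rp cs R.nsys (cs.wordProd (alternatingWord i j k)) ((n x)⁻¹ * g) := by
      have := (rp_simple cs R.nsys x).inv.mul hg
      rwa [inv_mul_cancel_left] at this
    have h3 : 0 ≤ rep cs h (cs.wordProd (alternatingWord i j k))⁻¹ (sr x) := by
      rw [alt_inv]
      by_cases he : Even k
      · rw [if_pos he, if_pos he, hx, if_pos he]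
        obtain ⟨a, b, ha, hb, e⟩ := exists_nonneg (cs := cs) (h := h) j i hij.symm k (by rw [M.symmetric]; omega)
        change 0 ≤ rep cs h _ (Pi.single j 1)
        rw [e]
        exact add_nonneg (Pi.single_nonneg.2 ha) (Pi.single_nonneg.2 hb)
      · rw [if_neg he, if_neg he, hx, if_neg he]
        obtain ⟨a, b, ha, hb, e⟩ := exists_nonneg (cs := cs) (h := h) i j hij k (by omega)
        change 0 ≤ rep cs h _ (Pi.single i 1)
        rw [e]
        exact add_nonneg (Pi.single_nonneg.2 ha) (Pi.single_nonneg.2 hb)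
    have h4 : opw cs h T n X ρ (x :: alternatingWord i j k) v =
        tau cs h T n X ρ x (opw cs h T n X ρ (alternatingWord i j k) v) := by
      unfold opw
      rw [List.map_cons, List.prod_cons, Module.End.mul_apply]
    rw [h4, coe_tau, ih (by omega) _ h2 v, tau_rep R h2 h3, mul_inv_cancel_left]

/-- the braid relations -/
theorem opw_braid {i j : I} (hij : i ≠ j) :
    opw cs h T n X ρ (alternatingWord i j (M i j)) = opw cs h T n X ρ (alternatingWord j i (M i j)) := by
  ext v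
  obtain ⟨g, hg⟩ := exists_rp cs R.nsys (cs.wordProd (alternatingWord i j (M i j)))
  have h1 : cs.wordProd (alternatingWord i j (M i j)) = cs.wordProd (alternatingWord j i (M i j)) := by
    have := cs.wordProd_braidWord_eq i j
    unfold braidWord at this
    rwa [M.symmetric j i] at this
  rw [opw_alt R hij _ le_rfl g hg v, opw_alt R hij.symm _ (by rw [M.symmetric]) g (by rw [← h1]; exact hg) v]

omit R [Finite W] in
theorem TE_eq_smul (i : I) : TE cs h T n X ρ i = (qq X i : ℂ) • tau cs h T n X ρ i := rfl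

theorem comm_two {i j : I} (hm : M i j = 2) :
    TE cs h T n X ρ i * TE cs h T n X ρ j = TE cs h T n X ρ j * TE cs h T n X ρ i := by
  have hij : i ≠ j := fun e => by rw [e, M.diagonal] at hm; omega
  have h1 := opw_braid (ρ := ρ) R hij
  rw [hm] at h1
  have h2 : ∀ a b : I, opw cs h T n X ρ (alternatingWord a b 2) = tau cs h T n X ρ a * tau cs h T n X ρ b := by
    intro a b
    have : alternatingWord a b 2 = [a, b] := rfl
    rw [this]
    unfold opw
    rw [List.map_cons, List.map_cons, List.map_nil, List.prod_cons, List.prod_cons, List.prod_nil, mul_one]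
  rw [h2, h2] at h1
  simp only [TE_eq_smul, smul_mul_smul_comm, h1, mul_comm (qq X i : ℂ)]

/-- conjugate root groups have the same order -/
theorem qq_eq_of_rep {i j : I} {w : W} (hw : rep cs h w (sr i) = sr j) : qq X i = qq X j := by
  obtain ⟨g, hg⟩ := exists_rp cs R.nsys w
  have h1 := R.conj_rp hg (isRoot_sr cs h i)
  unfold qq
  rw [← hw, ← h1]
  exact Nat.card_congr ((X (sr i)).equivMapOfInjective _ (MulAut.conj g).injective).toEquiv

theorem qq_eq {i j : I} (hm : M i j = 3) : qq X i = qq X j := by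
  have hij : i ≠ j := fun e => by rw [e, M.diagonal] at hm; omega
  have hA := h.rel i j hij
  have hA1 : A i j = -1 ∧ A j i = -1 := by
    rcases hA with ⟨h1, -⟩ | ⟨-, h1⟩ | ⟨h1, -⟩ | ⟨h1, -⟩
    · omega
    · exact h1
    · omega
    · omega
  refine qq_eq_of_rep R (w := cs.simple i * cs.simple j) ?_
  have e1 : rep cs h (cs.simple j) (sr i) = sr i + sr j := by
    rw [rep_simple_eq]
    have : pairing A j (sr i) = -1 := by
      change pairing A j (Pi.single i 1) = -1
      rw [pairing_single, hA1.2]; norm_num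
    rw [this]
    simp [sr]
  have e2 : rep cs h (cs.simple i) (sr j) = sr j + sr i := by
    rw [rep_simple_eq]
    have : pairing A i (sr j) = -1 := by
      change pairing A i (Pi.single j 1) = -1
      rw [pairing_single, hA1.1]; norm_num
    rw [this]
    simp [sr]
  rw [rep_mul_apply, e1, map_add, e2, rep_simple_sr]
  abel

theorem braid_three {i j : I} (hm : M i j = 3) :
    TE cs h T n X ρ i * TE cs h T n X ρ j * TE cs h T n X ρ i = TE cs h T n X ρ j * TE cs h T n X ρ i * TE cs h T n X ρ j := by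
  have hij : i ≠ j := fun e => by rw [e, M.diagonal] at hm; omega
  have h1 := opw_braid (ρ := ρ) R hij
  rw [hm] at h1
  have h2 : ∀ a b : I, opw cs h T n X ρ (alternatingWord a b 3) =
      tau cs h T n X ρ b * tau cs h T n X ρ a * tau cs h T n X ρ b := by
    intro a b
    have : alternatingWord a b 3 = [b, a, b] := rfl
    rw [this]
    unfold opw
    rw [List.map_cons, List.map_cons, List.map_cons, List.map_nil, List.prod_cons, List.prod_cons, List.prod_cons,
      List.prod_nil, mul_one, mul_assoc]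
  rw [h2, h2] at h1
  simp only [TE_eq_smul, smul_mul_smul_comm, h1, qq_eq R hm]

theorem braid_four {i j : I} (hm : M i j = 4) :
    TE cs h T n X ρ i * TE cs h T n X ρ j * TE cs h T n X ρ i * TE cs h T n X ρ j =
      TE cs h T n X ρ j * TE cs h T n X ρ i * TE cs h T n X ρ j * TE cs h T n X ρ i := by
  have hij : i ≠ j := fun e => by rw [e, M.diagonal] at hm; omega
  have h1 := opw_braid (ρ := ρ) R hij
  rw [hm] at h1
  have h2 : ∀ a b : I, opw cs h T n X ρ (alternatingWord a b 4) =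
      tau cs h T n X ρ a * tau cs h T n X ρ b * tau cs h T n X ρ a * tau cs h T n X ρ b := by
    intro a b
    have : alternatingWord a b 4 = [a, b, a, b] := rfl
    rw [this]
    unfold opw
    rw [List.map_cons, List.map_cons, List.map_cons, List.map_cons, List.map_nil, List.prod_cons, List.prod_cons,
      List.prod_cons, List.prod_cons, List.prod_nil, mul_one, mul_assoc, mul_assoc]
  rw [h2, h2] at h1
  simp only [TE_eq_smul, smul_mul_smul_comm, h1]
  congr 1
  ring

omit R [Finite W] [Finite Y] in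
/-- the subrepresentation generated by a subspace -/
theorem span_eq_top (hρ : ρ.IsIrreducible) {S : Submodule ℂ V} (h0 : S ≠ ⊥) :
    Submodule.span ℂ {x | ∃ g : Y, ∃ v ∈ S, x = ρ g v} = ⊤ := by
  let Z : Subrepresentation ρ :=
    { toSubmodule := Submodule.span ℂ {x | ∃ g : Y, ∃ v ∈ S, x = ρ g v}
      apply_mem_toSubmodule := fun g v hv => by
        refine Submodule.span_induction (p := fun v _ => ρ g v ∈ Submodule.span ℂ {x | ∃ g : Y, ∃ v ∈ S, x = ρ g v})
          ?_ ?_ ?_ ?_ hv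
        · rintro _ ⟨k, v, hv, rfl⟩
          refine Submodule.subset_span ⟨g * k, v, hv, ?_⟩
          rw [map_mul, Module.End.mul_apply]
        · rw [map_zero]
          exact Submodule.zero_mem _
        · intro x y _ _ hx hy
          rw [map_add]
          exact Submodule.add_mem _ hx hy
        · intro a x _ hx
          rw [map_smul]
          exact Submodule.smul_mem _ _ hx }
  change Z.toSubmodule = ⊤
  rcases hρ.2 Z with h1 | h1
  · exfalso
    apply h0
    rw [eq_bot_iff]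
    intro v hv
    have h2 : v ∈ Z.toSubmodule := Submodule.subset_span ⟨1, v, hv, by rw [map_one, Module.End.one_apply]⟩
    rw [h1] at h2
    exact h2
  · rw [h1]
    rfl

/-- `V^B` is an irreducible module of the Hecke algebra -/
theorem irr (hG : GG cs h T X = ⊤) (hρ : ρ.IsIrreducible) (S : Submodule ℂ (VB cs h T X ρ))
    (hS : ∀ i, ∀ v ∈ S, TE cs h T n X ρ i v ∈ S) : S = ⊥ ∨ S = ⊤ := by
  by_cases h0 : S = ⊥
  · exact Or.inl h0
  right
  have hq : ∀ i, (qq X i : ℂ) ≠ 0 := fun i => card_ne _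
  have htau : ∀ i, ∀ v ∈ S, tau cs h T n X ρ i v ∈ S := by
    intro i v hv
    have h1 := S.smul_mem (qq X i : ℂ)⁻¹ (hS i v hv)
    rwa [TE_eq_smul, LinearMap.smul_apply, smul_smul, inv_mul_cancel₀ (hq i), one_smul] at h1
  -- all representatives
  have hw : ∀ (w : W) (g : Y), Rp cs R.nsys w g → ∀ v ∈ S,
      ∃ s ∈ S, av ρ (RGD.B cs h T X) (ρ g (v : VB cs h T X ρ)) = (s : V) := by
    intro w
    induction hn : cs.length w using Nat.strong_induction_on generalizing w with
    | _ N ih =>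
    intro g hg v hv
    by_cases hw1 : w = 1
    · subst hw1
      refine ⟨v, hv, ?_⟩
      rw [v.2 g (RGD.T_le_B hg.mem_of_one)]
      exact av_of_mem v.2
    obtain ⟨i, hi⟩ := cs.exists_leftDescent_of_ne_one hw1
    have hi' : cs.length (cs.simple i * w) < cs.length w := hi
    have h2 : Rp cs R.nsys (cs.simple i * w) ((n i)⁻¹ * g) := by
      have := (rp_simple cs R.nsys i).inv.mul hg
      rwa [cs.inv_simple] at this
    obtain ⟨s, hs, e⟩ := ih _ (hn ▸ hi') (cs.simple i * w) rfl _ h2 v hv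
    have h3 : 0 ≤ rep cs h (cs.simple i * w)⁻¹ (sr i) := by
      refine nonneg_of_lt cs h _ i ?_
      rw [mul_inv_rev, cs.inv_simple, mul_assoc, cs.simple_mul_simple_self, mul_one,
        ← cs.length_inv (w⁻¹ * cs.simple i), mul_inv_rev, cs.inv_simple, inv_inv, cs.length_inv]
      exact hi'
    refine ⟨_, htau i s hs, ?_⟩
    rw [coe_tau, ← e, tau_rep R h2 h3, mul_inv_cancel_left]
  have h1 := span_eq_top hρ (S := S.map (VB cs h T X ρ).subtype) (by
    intro hb
    apply h0
    rw [eq_bot_iff]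
    intro v hv
    have h9 : (v : V) ∈ S.map (VB cs h T X ρ).subtype := ⟨v, hv, rfl⟩
    rw [hb, Submodule.mem_bot] at h9
    exact (Submodule.mem_bot ℂ).2 (Subtype.ext h9))
  rw [eq_top_iff]
  intro x _
  have h2 : (x : V) ∈ Submodule.span ℂ {x | ∃ g : Y, ∃ v ∈ S.map (VB cs h T X ρ).subtype, x = ρ g v} := by
    rw [h1]; exact Submodule.mem_top
  have h3 : av ρ (RGD.B cs h T X) (x : V) ∈ S.map (VB cs h T X ρ).subtype := by
    refine Submodule.span_induction (p := fun x _ => av ρ (RGD.B cs h T X) x ∈ S.map (VB cs h T X ρ).subtype)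
      ?_ ?_ ?_ ?_ h2
    · rintro _ ⟨g, _, ⟨v, hv, rfl⟩, rfl⟩
      obtain ⟨w, b₁, hb₁, k, hk, b₂, hb₂, rfl⟩ := (mem_GG R).1 (show g ∈ GG cs h T X by rw [hG]; exact Subgroup.mem_top g)
      obtain ⟨s, hs, e⟩ := hw w k hk v hv
      refine ⟨s, hs, ?_⟩
      change (s : V) = av ρ _ (ρ (b₁ * k * b₂) (v : V))
      rw [map_mul, map_mul, Module.End.mul_apply, Module.End.mul_apply, v.2 b₂ hb₂, av_rho ρ hb₁, e]
    · rw [map_zero]; exact Submodule.zero_mem _
    · intro x y _ _ hx hy; rw [map_add]; exact Submodule.add_mem _ hx hy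
    · intro a x _ hx; rw [map_smul]; exact Submodule.smul_mem _ _ hx
  rw [av_of_mem x.2] at h3
  obtain ⟨s, hs, e⟩ := h3
  have : s = x := Subtype.ext e
  rwa [this] at hs

/-- `V^U = V^B` if `V^B ≠ 0` -/
theorem VU_eq (hG : GG cs h T X = ⊤) (hρ : ρ.IsIrreducible) (h0 : VB cs h T X ρ ≠ ⊥) :
    VU cs h X ρ = VB cs h T X ρ := by
  classical
  refine le_antisymm ?_ (fx_mono RGD.U_le_B)
  -- the part of `V^U` without fixed vectors of `T`
  let S : Submodule ℂ V := VU cs h X ρ ⊓ LinearMap.ker (av ρ T)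
  have hSB : ∀ b ∈ RGD.B cs h T X, ∀ v ∈ S, ρ b v ∈ S := by
    rintro b hb v ⟨h1, h2⟩
    refine ⟨rho_VU R hb h1, ?_⟩
    obtain ⟨t, ht, u, hu, rfl⟩ := R.mem_B.1 hb
    rw [map_mul, Module.End.mul_apply, h1 u hu]
    change av ρ T (ρ t v) = 0
    rw [av_rho ρ ht]
    exact h2
  have hS0 : S = ⊥ := by
    by_contra hne
    apply h0
    have h1 := span_eq_top hρ hne
    rw [eq_bot_iff]
    intro x hx
    have h2 : x ∈ Submodule.span ℂ {x | ∃ g : Y, ∃ v ∈ S, x = ρ g v} := by rw [h1]; exact Submodule.mem_top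
    have h3 : av ρ (RGD.B cs h T X) x = 0 := by
      refine Submodule.span_induction (p := fun x _ => av ρ (RGD.B cs h T X) x = 0) ?_ ?_ ?_ ?_ h2
      · rintro _ ⟨g, v, hv, rfl⟩
        obtain ⟨w, b₁, hb₁, k, hk, b₂, hb₂, rfl⟩ := (mem_GG R).1 (show g ∈ GG cs h T X by rw [hG]; exact Subgroup.mem_top g)
        rw [map_mul, map_mul, Module.End.mul_apply, Module.End.mul_apply, av_rho ρ hb₁]
        obtain ⟨h4, h5⟩ := hSB b₂ hb₂ v hv
        set y := ρ b₂ v
        -- `av_B = av_B av_T`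
        have h6 : av ρ (RGD.B cs h T X) (ρ k y) = av ρ (RGD.B cs h T X) (av ρ T (ρ k y)) := by
          let _ : Fintype T := Fintype.ofFinite T
          rw [av_apply ρ T, map_smul, map_sum, Finset.sum_congr rfl fun x _ => av_rho ρ (RGD.T_le_B x.2) _,
            Finset.sum_const, Finset.card_univ, ← Nat.card_eq_fintype_card, ← Nat.cast_smul_eq_nsmul ℂ, smul_smul,
            inv_mul_cancel₀ (card_ne T), one_smul]
        rw [h6, ← rho_av_conj ρ (fun x => Subgroup.mem_normalizer_iff.1 hk.mem_normalizer x), LinearMap.mem_ker.1 h5,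
          map_zero, map_zero]
      · exact map_zero _
      · intro x y _ _ hx hy; rw [map_add, hx, hy, add_zero]
      · intro a x _ hx; rw [map_smul, hx, smul_zero]
    rw [av_of_mem hx] at h3
    exact h3
  intro v hv
  have h1 : v - av ρ T v ∈ S := by
    refine ⟨Submodule.sub_mem _ hv ?_, ?_⟩
    · intro u hu
      have h2 : u ∈ RGD.Sup X (RGD.Pos cs h) := hu
      let _ : Fintype T := Fintype.ofFinite T
      rw [av_apply, map_smul, map_sum]
      congr 1
      refine Finset.sum_congr rfl fun t _ => ?_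
      exact rho_VU R (RGD.T_le_B t.2) hv u hu
    · change av ρ T (v - av ρ T v) = 0
      rw [map_sub, av_idem, sub_self]
  rw [hS0, Submodule.mem_bot, sub_eq_zero] at h1
  intro b hb
  obtain ⟨t, ht, u, hu, rfl⟩ := R.mem_B.1 hb
  rw [map_mul, Module.End.mul_apply, hv u hu, h1]
  exact rho_av ρ ht v

/-- the eigenspaces are the spaces of fixed vectors of `P_i` -/
theorem finrank_Fq [FiniteDimensional ℂ V] (i : I) :
    finrank ℂ (Fq (TE cs h T n X ρ i) (qq X i)) = finrank ℂ (fx ρ (PJ cs h T X {i})) := by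
  refine LinearEquiv.finrank_eq ?_
  refine LinearEquiv.ofBijective
    ({ toFun := fun v => ⟨v.1, (TE_eq_iff R i v.1).1 (mem_Fq.1 v.2)⟩
       map_add' := fun _ _ => rfl
       map_smul' := fun _ _ => rfl } : Fq (TE cs h T n X ρ i) (qq X i) →ₗ[ℂ] fx ρ (PJ cs h T X {i})) ⟨?_, ?_⟩
  · intro v w e
    exact Subtype.ext (Subtype.ext (congrArg (fun z : fx ρ (PJ cs h T X {i}) => (z : V)) e))
  · rintro ⟨v, hv⟩
    exact ⟨⟨⟨v, fx_mono B_le_PJ hv⟩, mem_Fq.2 ((TE_eq_iff R i _).2 hv)⟩, rfl⟩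

/-- common eigenvectors -/
theorem inf_eq_bot_iff (i j : I) : Fq (TE cs h T n X ρ i) (qq X i) ⊓ Fq (TE cs h T n X ρ j) (qq X j) = ⊥ ↔
    fx ρ (PJ cs h T X {i, j}) = ⊥ := by
  constructor
  · intro h1
    rw [eq_bot_iff]
    intro v hv
    have h2 := (mem_fx_PJ R (K := {i, j}) (⟨v, fx_mono B_le_PJ hv⟩ : VB cs h T X ρ)).1 hv
    have h3 : (⟨v, fx_mono B_le_PJ hv⟩ : VB cs h T X ρ) ∈ Fq (TE cs h T n X ρ i) (qq X i) ⊓ Fq (TE cs h T n X ρ j) (qq X j) :=
      ⟨mem_Fq.2 (h2 i (by simp)), mem_Fq.2 (h2 j (by simp))⟩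
    rw [h1, Submodule.mem_bot] at h3
    exact congrArg Subtype.val h3
  · intro h1
    rw [eq_bot_iff]
    rintro v ⟨h2, h3⟩
    have h4 : (v : V) ∈ fx ρ (PJ cs h T X {i, j}) := by
      rw [mem_fx_PJ R]
      intro k hk
      rcases hk with rfl | hk
      · exact mem_Fq.1 h2
      · rw [Set.mem_singleton_iff] at hk
        subst hk
        exact mem_Fq.1 h3
    rw [h1, Submodule.mem_bot] at h4
    exact (Submodule.mem_bot ℂ).2 (Subtype.ext h4)

end main

end Cfsg.Agent.H200.VZ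
end

private theorem dce_9ec3471f479b : _root_.True := by
  try have : _root_.True := by simp only [_root_.Cfsg.Agent.H985.VZ.qq.congr_simp]
  try have : _root_.True := by simp only [_root_.Cfsg.Agent.H200.VZ.TE.congr_simp]
  try have : _root_.True := by simp only [_root_.Cfsg.Agent.H200.VZ.tau.congr_simp]
  try have : _root_.True := by simp only [_root_.Cfsg.Agent.Nodes.BNOf.RGD.B.congr_simp]
  exact _root_.True.intro
end
end
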