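import Cfsg.Agent.H985.VZ.Cells_m3
import Mathlib
import Cfsg.Agent.H985.VZ.Defs
import Cfsg.Agent.H849.OZ.Bad_m3
import Cfsg.Agent.H113.Two.SplitGen
import Cfsg.Agent.H664.R1.Cusp
import Cfsg.Agent.H631.Kaw.Coef_m3
import Cfsg.Agent.Characters.CentralCharacter
import Cfsg.Agent.Characters.DegreeBounds
import Cfsg.Agent.H71.ReeOut
import Cfsg.Agent.ChevalleyStructure.Ree.Data
import Cfsg.Agent.Lib.Zsigmondy
import Cfsg.Agent.S1158
import Cfsg.Agent.S1159
import Cfsg.Agent.S1116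
import Cfsg.Agent.Characters.Linear
import Cfsg.Prelude.Def_LieTwisted
import Cfsg.Agent.FastGrp
import Cfsg.Agent.Prune
set_option linter.all false

section
prune_inst 0x7ffceffbaba8b9dfdffb7e3faedcdffdf1a88fffe6dff9cbffe069bfab9f6323a9c5fb850fe050fe9f77e2b410b87853fb7eefffe86bdc7ffffd57b41ffbee0fa5e7350951d488340eac2ffe03f1770e6f3ffdff7ffffffffffffffffffffffffffdebfeffff

-- part: H985/VZ/Alpha
section
prune_inst 0x3100054444620000401805123000204466000092006000001800044009cc05602005a9004020140800000e5400300048110000600220000000840400011c048108a80000a148001100001600208c000000200800000000000000000000000000210000000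
set_option linter.all false
open scoped Cfsg.Agent.FastGrp

/-!
# S4842: the parameters `α_i`, `β_i` (helper985)

* `Be_eq` : `β_i = l(n_i²) / q_i`;
* `Al_triv` : `α_i = 1 - 1 / q_i` if `l` is trivial on `T ∩ ⟨X_i, X_-i⟩`;
* `Al_bal` : `α_i = 0` if `l` is not trivial there and `Bal` (the rank one group is an image of `SL₂`);
* `YY`, `yy_of_root` : the values of `y_i = q_i x² / l(n_i²)`.
-/

set_option autoImplicit false
set_option linter.unusedSectionVars false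

open Cfsg

namespace Cfsg.Agent.H985.VZ

open CoxeterSystem Cfsg.Agent.ChevalleyStructure.CoxeterGeom Cfsg.Agent.Tits.Roots Cfsg.Agent.Tits.Core
  Cfsg.Agent.Tits.Exchange Cfsg.Agent.Nodes.Reps Cfsg.Agent.Nodes.BNOf Cfsg.Agent.Nodes.StabComb
  Cfsg.Agent.Nodes.Bruhat Cfsg.Agent.Nodes.OppDec Cfsg.Agent.Nodes.LeviDec Module

universe u v

theorem avg_sum {B0 X1 : Type*} [Group B0] [Fintype B0] [Group X1] [Fintype X1] (j : X1 →* B0) (F : B0 → ℂ)
    (hF : ∀ b, ∃ x0 : X1, ∀ x : X1, F (b * j x) = F (j (x0 * x))) :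
    (Fintype.card X1 : ℂ) * ∑ b, F b = Fintype.card B0 * ∑ x, F (j x) := by
  have h1 : ∀ x : X1, ∑ b, F (b * j x) = ∑ b, F b := fun x => Equiv.sum_comp (Equiv.mulRight (j x)) F
  have h2 : ∀ b : B0, ∑ x : X1, F (b * j x) = ∑ x, F (j x) := by
    intro b
    obtain ⟨x0, hx0⟩ := hF b
    rw [Finset.sum_congr rfl fun x _ => hx0 x]
    exact Equiv.sum_comp (Equiv.mulLeft x0) fun x => F (j x)
  have h3 : ∑ x : X1, ∑ b, F (b * j x) = ∑ b, ∑ x : X1, F (b * j x) := Finset.sum_comm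
  rw [Finset.sum_congr rfl fun x _ => h1 x, Finset.sum_congr rfl fun b _ => h2 b, Finset.sum_const, Finset.sum_const,
    Finset.card_univ, Finset.card_univ, nsmul_eq_mul, nsmul_eq_mul] at h3
  exact h3

namespace RkOne

variable {P : Type u} [Group P] {B : Subgroup P} {n : P} {l : B →* ℂˣ} (H : RkOne B n l)

include H

theorem cb_eq (b c : B) : cb B n l (b * n * c) = (l b : ℂ) * l c := by
  have h1 : (b : P) * n * c ∉ B := fun h => H.disj h
  obtain ⟨b', c', e, h2⟩ := H.exists_cb h1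
  rw [h2, ← Units.val_mul, ← Units.val_mul, H.psi_unique e]

theorem cb_mul (b : B) (g : P) : cb B n l (b * g) = (l b : ℂ) * cb B n l g := by
  by_cases hg : g ∈ B
  · rw [H.cb_of_mem hg, mul_zero, H.cb_of_mem (mul_mem b.2 hg)]
  · obtain ⟨b', c', e, h2⟩ := H.exists_cb hg
    rw [h2, e, ← mul_assoc, ← mul_assoc, show ((b : P) * b') = ((b * b' : B) : P) from rfl, H.cb_eq, map_mul,
      Units.val_mul, mul_assoc]

end RkOne

variable {I W : Type*} {Y : Type u} [Fintype I] [DecidableEq I] [Group W] [Group Y] {M : CoxeterMatrix I}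
  {cs : CoxeterSystem M W} {A : I → I → ℤ} {h : IsCartan M A} {p : ℕ} {T : Subgroup Y} {n : I → Y}
  {X : (I → ℤ) → Subgroup Y} (R : RGD cs h p T n X) [Finite W]

/-- `n x n⁻¹ ∈ X_i t n X_i` -/
def RelX (X : (I → ℤ) → Subgroup Y) (n : I → Y) (i : I) (x t : Y) : Prop :=
  ∃ a ∈ X (sr i), ∃ b ∈ X (sr i), n i * x * (n i)⁻¹ = a * t * n i * b

/-- the map `x ↦ t` is equidistributed on `T ∩ ⟨X_i, X_-i⟩` -/
def Bal (X : (I → ℤ) → Subgroup Y) (T : Subgroup Y) (n : I → Y) (i : I) : Prop :=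
  ∃ k : ℕ, ∀ t ∈ T, t ∈ Li X i → Nat.card {x : X (sr i) // RelX X n i x t} = k

/-- the possible values of the parameter `y` -/
structure YY (X : (I → ℤ) → Subgroup Y) (n : I → Y) (l : T →* ℂˣ) (i : I) (y : ℂ) : Prop where
  ne : y ≠ 0
  triv : n i ∈ Li X i → Triv X l i → y = qq X i ∨ y = (qq X i : ℂ)⁻¹
  bal : n i ∈ Li X i → Bal X T n i → ¬ Triv X l i → y = 1

include R

theorem X_le_B' (i : I) : X (sr i) ≤ RGD.B cs h T X := RGD.X_le_B (isRoot_sr cs h i) (sr_nonneg i)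

omit [Finite W] in
theorem X_le_U' (i : I) : X (sr i) ≤ RGD.Sup X (RGD.Pos cs h) := by
  have h1 : sr i ∈ RGD.Pos cs h := ⟨isRoot_sr cs h i, sr_nonneg i⟩
  exact RGD.le_Sup h1

theorem exists_rel {i : I} {x : Y} (hx : x ∈ X (sr i)) (hx1 : x ≠ 1) : ∃ t ∈ T, RelX X n i x t := by
  have h2 : n i * x * (n i)⁻¹ ∈ X (-sr i) := by
    have := R.conj_mem (rp_simple cs R.nsys i) (isRoot_sr cs h i) hx
    rwa [rep_simple_sr] at this
  have h3 : n i * x * (n i)⁻¹ ≠ 1 := by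
    intro h4
    apply hx1
    have h5 : x = (n i)⁻¹ * (n i * x * (n i)⁻¹) * n i := by group
    rw [h5, h4]
    group
  obtain ⟨a, ha, t, ht, b, hb, e⟩ := R.rk1 i _ h2 h3
  exact ⟨t, ht, a, ha, b, hb, e⟩

theorem not_rel_one {i : I} {t : Y} (ht : t ∈ T) : ¬ RelX X n i 1 t := by
  rintro ⟨a, ha, b, hb, e⟩
  have h1 : n i ∈ RGD.B cs h T X := by
    have h2 : n i = (a * t)⁻¹ * b⁻¹ := by
      have h3 : a * t * n i * b = 1 := by rw [← e]; group
      have h4 : n i = (a * t)⁻¹ * (a * t * n i * b) * b⁻¹ := by group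
      rw [h4, h3]
      group
    rw [h2]
    exact mul_mem (inv_mem (mul_mem (X_le_B' R i ha) (RGD.T_le_B ht))) (inv_mem (X_le_B' R i hb))
  have h2 := R.eq_one_of_mem_B (rp_simple cs R.nsys i) h1
  have h3 := cs.length_simple i
  rw [h2, cs.length_one] at h3
  exact absurd h3 (by norm_num)

theorem rel_unique {i : I} {x t t' : Y} (ht : t ∈ T) (ht' : t' ∈ T) (h1 : RelX X n i x t) (h2 : RelX X n i x t') :
    t = t' := by
  obtain ⟨a, ha, b, hb, e⟩ := h1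
  obtain ⟨a', ha', b', hb', e'⟩ := h2
  have h3 : n i * (b * b'⁻¹) * (n i)⁻¹ = t⁻¹ * (a⁻¹ * a') * t' := by
    have h4 : a * t * n i * b = a' * t' * n i * b' := by rw [← e, e']
    have h5 : n i * (b * b'⁻¹) * (n i)⁻¹ = t⁻¹ * a⁻¹ * (a * t * n i * b) * b'⁻¹ * (n i)⁻¹ := by group
    rw [h5, h4]
    group
  have h4 : n i * (b * b'⁻¹) * (n i)⁻¹ ∈ RGD.B cs h T X := by
    rw [h3]
    exact mul_mem (mul_mem (inv_mem (RGD.T_le_B ht)) (X_le_B' R i (mul_mem (inv_mem ha) ha'))) (RGD.T_le_B ht')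
  have h5 : b * b'⁻¹ = 1 := eq_one_of_conj_mem_B R (mul_mem hb (inv_mem hb')) (rp_simple cs R.nsys i) h4
  rw [h5, mul_one, mul_inv_cancel] at h3
  have h6 : t' = (a'⁻¹ * a) * t := by
    have h7 : (a⁻¹ * a') * t' = t := by
      have : t⁻¹ * ((a⁻¹ * a') * t') = 1 := by rw [h3]; group
      exact (inv_mul_eq_one.1 this).symm
    rw [← h7]
    group
  have h7 : a'⁻¹ * a ∈ RGD.Sup X (RGD.Pos cs h) ⊓ T :=
    ⟨X_le_U' R i (mul_mem (inv_mem ha') ha), by
      have h8 : a'⁻¹ * a = t' * t⁻¹ := by rw [h6]; group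
      rw [h8]
      exact T.mul_mem ht' (T.inv_mem ht)⟩
  rw [U_inf_T R, Subgroup.mem_bot] at h7
  rw [h6, h7, one_mul]

omit R [Finite W] in
theorem rel_mem_Li {i : I} (hn : n i ∈ Li X i) {x t : Y} (hx : x ∈ X (sr i)) (h1 : RelX X n i x t) : t ∈ Li X i := by
  obtain ⟨a, ha, b, hb, e⟩ := h1
  have h2 : t = a⁻¹ * (n i * x * (n i)⁻¹) * b⁻¹ * (n i)⁻¹ := by rw [e]; group
  have hle : X (sr i) ≤ Li X i := le_sup_left
  rw [h2]
  exact mul_mem (mul_mem (mul_mem (inv_mem (hle ha)) (mul_mem (mul_mem hn (hle hx)) (inv_mem hn))) (inv_mem (hle hb)))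
    (inv_mem hn)

/-- the inclusion of the root group -/
def jX (i : I) : X (sr i) →* Bi cs h T X i where
  toFun x := ⟨⟨x, B_le_PJ (X_le_B' R i x.2)⟩, X_le_B' R i x.2⟩
  map_one' := rfl
  map_mul' _ _ := rfl

theorem li_jX (i : I) (l : T →* ℂˣ) (x : X (sr i)) : li R i l (jX R i x) = 1 := lamB_U R l (X_le_U' R i x.2) _

/-- `b = c x`, `n c n⁻¹ ∈ B` -/
theorem exists_cx {i : I} {l : T →* ℂˣ} (hm : Mv cs R.nsys (cs.simple i) l l) (b : Bi cs h T X i) :
    ∃ (x : X (sr i)) (c d : Bi cs h T X i), b = c * jX R i x ∧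
      ((d : ↥(PJ cs h T X {i})) = ni R i * c * (ni R i)⁻¹) ∧ li R i l d = li R i l c := by
  obtain ⟨⟨b, hbP⟩, hb⟩ := b
  obtain ⟨y, hy, x, hx1, t, ht, e⟩ := R.mem_B' i (show b ∈ RGD.B cs h T X from hb)
  have hx2 : t⁻¹ * x * t ∈ X (sr i) := by
    have h1 := R.tor (sr i) (isRoot_sr cs h i) t⁻¹ (inv_mem ht)
    have h2 := (conj_mem_cj (g := t⁻¹)).2 hx1
    rwa [h1, inv_inv] at h2
  have hyB : y ∈ RGD.B cs h T X := PosNe_le_B i hy
  have hc : y * t ∈ RGD.B cs h T X := mul_mem hyB (RGD.T_le_B ht)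
  have hn1 : n i * y * (n i)⁻¹ ∈ RGD.Sup X (RGD.PosNe cs h i) := by
    rw [← R.cj_n_V i]
    exact conj_mem_cj.2 hy
  have hn2 : n i * t * (n i)⁻¹ ∈ T := (Subgroup.mem_normalizer_iff.1 (R.nsys.norm i) t).1 ht
  have hcB : n i * (y * t) * (n i)⁻¹ ∈ RGD.B cs h T X := by
    have h3 : n i * (y * t) * (n i)⁻¹ = (n i * y * (n i)⁻¹) * (n i * t * (n i)⁻¹) := by group
    rw [h3]
    exact mul_mem (PosNe_le_B i hn1) (RGD.T_le_B hn2)
  refine ⟨⟨_, hx2⟩, ⟨⟨_, B_le_PJ hc⟩, hc⟩, ⟨⟨_, B_le_PJ hcB⟩, hcB⟩, Subtype.ext (Subtype.ext ?_), rfl, ?_⟩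
  · change b = (y * t) * (t⁻¹ * x * t)
    rw [e]
    group
  · exact lamB_conj R (rp_simple cs R.nsys i) hm rfl

section fin

variable [Finite Y]

theorem dd_eq {i : I} {l : T →* ℂˣ} (hm : Mv cs R.nsys (cs.simple i) l l) :
    (qq X i : ℂ) * RkOne.dd (Bi cs h T X i) (ni R i) = Nat.card (Bi cs h T X i) := by
  classical
  let _ : Fintype (Bi cs h T X i) := Fintype.ofFinite _
  let _ : Fintype (X (sr i)) := Fintype.ofFinite _
  have h1 := avg_sum (jX R i) (fun b => if ni R i * (b : ↥(PJ cs h T X {i})) * ni R i ∈ Bi cs h T X i then (1 : ℂ) else 0)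
    fun b => by
      obtain ⟨x0, c, d, e, e2, -⟩ := exists_cx R hm b
      refine ⟨x0, fun x => ?_⟩
      have h2 : (ni R i * ((b * jX R i x : Bi cs h T X i) : ↥(PJ cs h T X {i})) * ni R i ∈ Bi cs h T X i) ↔
          (ni R i * ((jX R i (x0 * x) : Bi cs h T X i) : ↥(PJ cs h T X {i})) * ni R i ∈ Bi cs h T X i) := by
        have h3 : ni R i * ((b * jX R i x : Bi cs h T X i) : ↥(PJ cs h T X {i})) * ni R i =
            (d : ↥(PJ cs h T X {i})) * (ni R i * ((jX R i (x0 * x) : Bi cs h T X i) : ↥(PJ cs h T X {i})) * ni R i) := by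
          rw [e, e2, map_mul]
          simp only [Subgroup.coe_mul]
          group
        rw [h3]
        exact Subgroup.mul_mem_cancel_left _ d.2
      simp only [h2]
  have h2 : ∑ x : X (sr i), (if ni R i * ((jX R i x : Bi cs h T X i) : ↥(PJ cs h T X {i})) * ni R i ∈ Bi cs h T X i
      then (1 : ℂ) else 0) = 1 := by
    rw [Finset.sum_eq_single (1 : X (sr i))]
    · rw [if_pos]
      rw [map_one, Subgroup.coe_one, mul_one]
      exact (rkOne R hm).sq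
    · intro x _ hx
      rw [if_neg]
      intro h3
      apply hx
      have h4 : n i * (x : Y) * n i ∈ RGD.B cs h T X := h3
      have h5 : n i * (x : Y) * (n i)⁻¹ ∈ RGD.B cs h T X := by
        have h6 : n i * (x : Y) * (n i)⁻¹ = (n i * x * n i) * (n i * n i)⁻¹ := by group
        rw [h6]
        exact mul_mem h4 (inv_mem (RGD.T_le_B (R.sq_mem_T i)))
      exact Subtype.ext (eq_one_of_conj_mem_B R x.2 (rp_simple cs R.nsys i) h5)
    · intro h3
      exact absurd (Finset.mem_univ _) h3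
  rw [h2, mul_one, ← Finset.sum_filter, Finset.sum_const, nsmul_eq_mul, mul_one] at h1
  unfold RkOne.dd qq
  rw [Nat.card_eq_fintype_card (α := {b : Bi cs h T X i // _}), Fintype.card_subtype, Nat.card_eq_fintype_card,
    Nat.card_eq_fintype_card]
  exact h1

theorem qq_pos (i : I) : (qq X i : ℂ) ≠ 0 := by
  unfold qq
  exact_mod_cast Nat.card_pos.ne'

theorem Be_eq {i : I} {l : T →* ℂˣ} (hm : Mv cs R.nsys (cs.simple i) l l) :
    Be R i l = (l ⟨n i * n i, R.sq_mem_T i⟩ : ℂ) / qq X i := by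
  unfold Be
  rw [(rkOne R hm).be_eq]
  have h1 := dd_eq R hm
  have h2 : li R i l ⟨ni R i * ni R i, (rkOne R hm).sq⟩ = l ⟨n i * n i, R.sq_mem_T i⟩ := lamB_T R l (R.sq_mem_T i) _
  have h3 : (Nat.card (Bi cs h T X i) : ℂ) ≠ 0 := card_ne _
  have h4 := qq_pos (X := X) R i
  rw [h2, div_eq_div_iff h3 h4, ← h1]
  ring

theorem Al_eq {i : I} {l : T →* ℂˣ} (hm : Mv cs R.nsys (cs.simple i) l l) [Fintype (X (sr i))] :
    Al R i l = (qq X i : ℂ)⁻¹ * ∑ x : X (sr i), RkOne.cb (Bi cs h T X i) (ni R i) (li R i l)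
      (ni R i * ((jX R i x : Bi cs h T X i) : ↥(PJ cs h T X {i})) * ni R i) := by
  classical
  let _ : Fintype (Bi cs h T X i) := Fintype.ofFinite _
  have h1 := avg_sum (jX R i) (fun b => ((li R i l b)⁻¹ : ℂˣ).val * RkOne.cb (Bi cs h T X i) (ni R i) (li R i l)
    (ni R i * (b : ↥(PJ cs h T X {i})) * ni R i)) fun b => by
      obtain ⟨x0, c, d, e, e2, e3⟩ := exists_cx R hm b
      refine ⟨x0, fun x => ?_⟩
      have h3 : ni R i * ((b * jX R i x : Bi cs h T X i) : ↥(PJ cs h T X {i})) * ni R i =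
          (d : ↥(PJ cs h T X {i})) * (ni R i * ((jX R i (x0 * x) : Bi cs h T X i) : ↥(PJ cs h T X {i})) * ni R i) := by
        rw [e, e2, map_mul]
        simp only [Subgroup.coe_mul]
        group
      have h4 : li R i l (b * jX R i x) = li R i l c := by
        rw [e, map_mul, map_mul, li_jX, li_jX, mul_one, mul_one]
      change ((li R i l (b * jX R i x))⁻¹ : ℂˣ).val * _ = ((li R i l (jX R i (x0 * x)))⁻¹ : ℂˣ).val * _
      rw [h3, (rkOne R hm).cb_mul, h4, e3, li_jX, ← mul_assoc, Units.inv_mul, inv_one, Units.val_one]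
  unfold Al RkOne.al
  rw [finsum_eq_sum_of_fintype]
  have h2 : (Nat.card (Bi cs h T X i) : ℂ) ≠ 0 := card_ne _
  have h3 := qq_pos (X := X) R i
  have h4 : ∑ x : X (sr i), ((li R i l (jX R i x))⁻¹ : ℂˣ).val * RkOne.cb (Bi cs h T X i) (ni R i) (li R i l)
      (ni R i * ((jX R i x : Bi cs h T X i) : ↥(PJ cs h T X {i})) * ni R i) =
      ∑ x : X (sr i), RkOne.cb (Bi cs h T X i) (ni R i) (li R i l)
      (ni R i * ((jX R i x : Bi cs h T X i) : ↥(PJ cs h T X {i})) * ni R i) :=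
    Finset.sum_congr rfl fun x _ => by rw [li_jX, inv_one, Units.val_one, one_mul]
  rw [h4] at h1
  have h5 : (Fintype.card (X (sr i)) : ℂ) = qq X i := by
    unfold qq
    rw [Nat.card_eq_fintype_card]
  have h6 : (Fintype.card (Bi cs h T X i) : ℂ) = Nat.card (Bi cs h T X i) := by rw [Nat.card_eq_fintype_card]
  rw [h5, h6] at h1
  field_simp
  rw [mul_comm] at h1
  rw [h1]

/-- the value of the coefficient -/
theorem cb_rel {i : I} {l : T →* ℂˣ} (hm : Mv cs R.nsys (cs.simple i) l l) (x : X (sr i)) {t : Y} (ht : t ∈ T)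
    (h1 : RelX X n i x t) : RkOne.cb (Bi cs h T X i) (ni R i) (li R i l)
      (ni R i * ((jX R i x : Bi cs h T X i) : ↥(PJ cs h T X {i})) * ni R i) =
      (l ⟨t, ht⟩ : ℂ) * l ⟨n i * n i, R.sq_mem_T i⟩ := by
  obtain ⟨a, ha, b, hb, e⟩ := h1
  have hat : a * t ∈ RGD.B cs h T X := mul_mem (X_le_B' R i ha) (RGD.T_le_B ht)
  have hbn : b * (n i * n i) ∈ RGD.B cs h T X := mul_mem (X_le_B' R i hb) (RGD.T_le_B (R.sq_mem_T i))
  have h2 : ni R i * ((jX R i x : Bi cs h T X i) : ↥(PJ cs h T X {i})) * ni R i =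
      ((⟨⟨a * t, B_le_PJ hat⟩, hat⟩ : Bi cs h T X i) : ↥(PJ cs h T X {i})) * ni R i *
        ((⟨⟨b * (n i * n i), B_le_PJ hbn⟩, hbn⟩ : Bi cs h T X i) : ↥(PJ cs h T X {i})) := Subtype.ext (by
    change n i * (x : Y) * n i = (a * t) * n i * (b * (n i * n i))
    have h3 : n i * (x : Y) * n i = (n i * x * (n i)⁻¹) * (n i * n i) := by group
    rw [h3, e]
    group)
  rw [h2, (rkOne R hm).cb_eq]
  congr 2
  · have h3 : li R i l ⟨⟨a * t, B_le_PJ hat⟩, hat⟩ = lamB R l (⟨a, X_le_B' R i ha⟩ * ⟨t, RGD.T_le_B ht⟩) := rfl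
    rw [h3, map_mul, lamB_U R l (X_le_U' R i ha), lamB_T R l ht, one_mul]
  · have h3 : li R i l ⟨⟨b * (n i * n i), B_le_PJ hbn⟩, hbn⟩ =
      lamB R l (⟨b, X_le_B' R i hb⟩ * ⟨n i * n i, RGD.T_le_B (R.sq_mem_T i)⟩) := rfl
    rw [h3, map_mul, lamB_U R l (X_le_U' R i hb), lamB_T R l (R.sq_mem_T i), one_mul]

theorem cb_one {i : I} {l : T →* ℂˣ} (hm : Mv cs R.nsys (cs.simple i) l l) :
    RkOne.cb (Bi cs h T X i) (ni R i) (li R i l)
      (ni R i * ((jX R i 1 : Bi cs h T X i) : ↥(PJ cs h T X {i})) * ni R i) = 0 := by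
  refine (rkOne R hm).cb_of_mem ?_
  rw [map_one, Subgroup.coe_one, mul_one]
  exact (rkOne R hm).sq

theorem l_sq_triv {i : I} {l : T →* ℂˣ} (hn : n i ∈ Li X i) (hl : Triv X l i) :
    l ⟨n i * n i, R.sq_mem_T i⟩ = 1 := hl _ (mul_mem hn hn)

theorem Al_triv {i : I} {l : T →* ℂˣ} (hm : Mv cs R.nsys (cs.simple i) l l) (hn : n i ∈ Li X i) (hl : Triv X l i) :
    Al R i l = 1 - (qq X i : ℂ)⁻¹ := by
  classical
  let _ : Fintype (X (sr i)) := Fintype.ofFinite _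
  rw [Al_eq R hm]
  have h1 : ∀ x : X (sr i), RkOne.cb (Bi cs h T X i) (ni R i) (li R i l)
      (ni R i * ((jX R i x : Bi cs h T X i) : ↥(PJ cs h T X {i})) * ni R i) = 1 - if x = 1 then 1 else 0 := by
    intro x
    by_cases hx : x = 1
    · subst hx
      rw [cb_one R hm, if_pos rfl, sub_self]
    · rw [if_neg hx, sub_zero]
      obtain ⟨t, ht, hr⟩ := exists_rel R x.2 (fun h => hx (Subtype.ext h))
      rw [cb_rel R hm x ht hr, hl ⟨t, ht⟩ (rel_mem_Li hn x.2 hr), l_sq_triv R hn hl, Units.val_one, one_mul]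
  rw [Finset.sum_congr rfl fun x _ => h1 x, Finset.sum_sub_distrib, Finset.sum_const, Finset.card_univ, nsmul_eq_mul,
    mul_one, Finset.sum_ite_eq' Finset.univ (1 : X (sr i)) fun _ => (1 : ℂ), if_pos (Finset.mem_univ _)]
  have h5 : (Fintype.card (X (sr i)) : ℂ) = qq X i := by
    unfold qq
    rw [Nat.card_eq_fintype_card]
  have h3 := qq_pos (X := X) R i
  rw [h5]
  field_simp

theorem Al_bal {i : I} {l : T →* ℂˣ} (hm : Mv cs R.nsys (cs.simple i) l l) (hn : n i ∈ Li X i) (hb : Bal X T n i)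
    (hl : ¬ Triv X l i) : Al R i l = 0 := by
  classical
  let _ : Fintype (X (sr i)) := Fintype.ofFinite _
  let TL : Subgroup Y := T ⊓ Li X i
  let _ : Fintype TL := Fintype.ofFinite _
  obtain ⟨k, hk⟩ := hb
  rw [Al_eq R hm]
  let lT : TL → ℂ := fun t => (l ⟨t, t.2.1⟩ : ℂ)
  have h1 : ∀ x : X (sr i), RkOne.cb (Bi cs h T X i) (ni R i) (li R i l)
      (ni R i * ((jX R i x : Bi cs h T X i) : ↥(PJ cs h T X {i})) * ni R i) =
      ∑ t : TL, if RelX X n i x t then lT t * l ⟨n i * n i, R.sq_mem_T i⟩ else 0 := by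
    intro x
    by_cases hx : x = 1
    · subst hx
      rw [cb_one R hm, Finset.sum_eq_zero]
      intro t _
      exact if_neg (not_rel_one R t.2.1)
    · obtain ⟨t, ht, hr⟩ := exists_rel R x.2 (fun h => hx (Subtype.ext h))
      rw [cb_rel R hm x ht hr, Finset.sum_eq_single (⟨t, ht, rel_mem_Li hn x.2 hr⟩ : TL)]
      · rw [if_pos hr]
      · intro t' _ hne
        rw [if_neg]
        intro hr'
        exact hne (Subtype.ext (rel_unique R t'.2.1 ht hr' hr))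
      · intro h3
        exact absurd (Finset.mem_univ _) h3
  rw [Finset.sum_congr rfl fun x _ => h1 x, Finset.sum_comm]
  have h2 : ∀ t : TL, ∑ x : X (sr i), (if RelX X n i x t then lT t * l ⟨n i * n i, R.sq_mem_T i⟩ else 0) =
      lT t * (k * l ⟨n i * n i, R.sq_mem_T i⟩) := by
    intro t
    have h3 := hk t t.2.1 t.2.2
    rw [← Finset.sum_filter, Finset.sum_const, nsmul_eq_mul, ← h3, Nat.card_eq_fintype_card, Fintype.card_subtype]
    ring
  rw [Finset.sum_congr rfl fun t _ => h2 t, ← Finset.sum_mul]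
  have h3 : ∑ t : TL, lT t = 0 := by
    unfold Triv at hl
    push Not at hl
    obtain ⟨s, hs, hs1⟩ := hl
    let s' : TL := ⟨s, s.2, hs⟩
    have h4 : ∑ t : TL, lT (s' * t) = ∑ t : TL, lT t := Equiv.sum_comp (Equiv.mulLeft s') lT
    have h5 : ∀ t : TL, lT (s' * t) = (l s : ℂ) * lT t := by
      intro t
      change (l ⟨(s : Y) * t, _⟩ : ℂ) = (l s : ℂ) * (l ⟨t, t.2.1⟩ : ℂ)
      rw [← Units.val_mul, ← map_mul]
      rfl
    rw [Finset.sum_congr rfl fun t _ => h5 t, ← Finset.mul_sum] at h4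
    have h6 : ((l s : ℂ) - 1) * ∑ t : TL, lT t = 0 := by rw [sub_mul, h4, one_mul, sub_self]
    rcases mul_eq_zero.1 h6 with h7 | h7
    · exact absurd (Units.ext (sub_eq_zero.1 h7)) hs1
    · exact h7
  rw [h3, zero_mul, mul_zero]

/-- the parameter `y = q x² / l(n²)` of a root `x` of `x² = α x + β` -/
theorem yy_of_root {i : I} {l : T →* ℂˣ} (hm : Mv cs R.nsys (cs.simple i) l l) {x : ℂ}
    (hx : x ^ 2 = Al R i l * x + Be R i l) :
    YY X n l i (qq X i * x ^ 2 * ((l ⟨n i * n i, R.sq_mem_T i⟩)⁻¹ : ℂˣ).val) := by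
  have hq := qq_pos (X := X) R i
  have hx0 : x ≠ 0 := by
    rintro rfl
    rw [mul_zero, zero_add] at hx
    exact Be_ne R hm (by rw [← hx]; ring)
  refine ⟨mul_ne_zero (mul_ne_zero hq (pow_ne_zero 2 hx0)) (Units.ne_zero _), fun hn hl => ?_, fun hn hb hl => ?_⟩
  · rw [Al_triv R hm hn hl, Be_eq R hm, l_sq_triv R hn hl, Units.val_one] at hx
    rw [l_sq_triv R hn hl, inv_one, Units.val_one, mul_one]
    have h1 : (x - 1) * (x + (qq X i : ℂ)⁻¹) = 0 := by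
      rw [one_div] at hx
      linear_combination hx
    rcases mul_eq_zero.1 h1 with h2 | h2
    · left
      rw [sub_eq_zero.1 h2]
      ring
    · right
      rw [eq_neg_of_add_eq_zero_left h2]
      field_simp
  · rw [Al_bal R hm hn hb hl, Be_eq R hm, zero_mul, zero_add] at hx
    have h1 : (l ⟨n i * n i, R.sq_mem_T i⟩ : ℂ) ≠ 0 := Units.ne_zero _
    rw [hx, Units.val_inv_eq_inv_val]
    field_simp

end fin

end Cfsg.Agent.H985.VZ

private theorem dce_06f62fb70f1d : _root_.True := by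
  try have : _root_.True := by simp only [_root_.Cfsg.Agent.H985.VZ.Li.congr_simp]
  try have : _root_.True := by simp only [_root_.Cfsg.Agent.H985.VZ.jX.congr_simp]
  exact _root_.True.intro
end

-- part: H985/VZ/RankTwo
section
prune_inst 0x3000414474220000400005102200006472000102004000002800050401c984628042a800aab0040800808c0420300048110000100010000000840000011c058108000200a148a01130001000000a010000200800000000000000000000000000214010000
set_option linter.all false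
open scoped Cfsg.Agent.FastGrp

/-!
# S4842: groups of rank two (helper985)

* `rank_two` : `l` fixed by `W`, `V_l ≠ 0`, `t` elliptic in some `L_c` with `χ(t) ≠ 0`: `V^U = V_l` is one-dimensional and
  `χ(1) (1 + y_a) (1 + y_b) ∑_{i < m} (y_a y_b)^i = (1 + q_a) (1 + q_b) ∑_{i < m} (q_a q_b)^i`.
-/

set_option autoImplicit false
set_option linter.unusedSectionVars false

open Cfsg

namespace Cfsg.Agent.H985.VZ

open CoxeterSystem Cfsg.Agent.ChevalleyStructure.CoxeterGeom Cfsg.Agent.Tits.Roots Cfsg.Agent.Tits.Core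
  Cfsg.Agent.Tits.Exchange Cfsg.Agent.Nodes.Reps Cfsg.Agent.Nodes.BNOf Cfsg.Agent.Nodes.StabComb
  Cfsg.Agent.Nodes.Bruhat Cfsg.Agent.Nodes.OppDec Cfsg.Agent.Nodes.LeviDec Module

universe u v

section lin

variable {V : Type v} [AddCommGroup V] [Module ℂ V] [FiniteDimensional ℂ V]

/-- the eigenspace of `t` in `E` -/
def KK (E : Submodule ℂ V) (t : Module.End ℂ V) (x : ℂ) : Submodule ℂ V := E ⊓ LinearMap.ker (t - x • 1)

theorem mem_KK {E : Submodule ℂ V} {t : Module.End ℂ V} {x : ℂ} {v : V} : v ∈ KK E t x ↔ v ∈ E ∧ t v = x • v := by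
  unfold KK
  rw [Submodule.mem_inf, LinearMap.mem_ker, LinearMap.sub_apply, sub_eq_zero, LinearMap.smul_apply, Module.End.one_apply]

/-- the two eigenspaces of a quadratic operator -/
theorem quad_split {E : Submodule ℂ V} {p t : Module.End ℂ V} (hp : ∀ v ∈ E, p v = v) (hp' : ∀ v, p v ∈ E)
    (ht : ∀ v, t v ∈ E) (htp : ∀ v, t (p v) = t v) {α β x₁ x₂ : ℂ} (h1 : x₁ + x₂ = α) (h2 : x₁ * x₂ = -β)
    (hne : x₁ ≠ x₂) (hsq : ∀ v ∈ E, t (t v) = α • t v + β • v) :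
    finrank ℂ (KK E t x₁) + finrank ℂ (KK E t x₂) = finrank ℂ E ∧
      LinearMap.trace ℂ V t = x₁ * finrank ℂ (KK E t x₁) + x₂ * finrank ℂ (KK E t x₂) := by
  have hpE : LinearMap.trace ℂ V p = finrank ℂ E := (LinearMap.IsProj.mk hp' hp).trace
  have key : ∀ y₁ y₂ : ℂ, y₁ + y₂ = α → y₁ * y₂ = -β → y₁ ≠ y₂ →
      LinearMap.trace ℂ V t - y₂ * finrank ℂ E = (y₁ - y₂) * finrank ℂ (KK E t y₁) := by
    intro y₁ y₂ e1 e2 e3
    have hne' : y₁ - y₂ ≠ 0 := sub_ne_zero.2 e3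
    have hproj : LinearMap.IsProj (KK E t y₁) ((y₁ - y₂)⁻¹ • (t - y₂ • p)) := by
      constructor
      · intro v
        rw [mem_KK]
        have hpv : p (p v) = p v := hp _ (hp' v)
        refine ⟨E.smul_mem _ (E.sub_mem (ht v) (E.smul_mem _ (hp' v))), ?_⟩
        have h3 := hsq _ (hp' v)
        rw [htp] at h3
        rw [LinearMap.smul_apply, map_smul, LinearMap.sub_apply, map_sub, h3, LinearMap.smul_apply, map_smul, htp,
          ← e1, show β = -(y₁ * y₂) by rw [e2, neg_neg]]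
        module
      · intro v hv
        rw [mem_KK] at hv
        rw [LinearMap.smul_apply, LinearMap.sub_apply, LinearMap.smul_apply, hv.2, hp v hv.1, ← sub_smul, smul_smul,
          inv_mul_cancel₀ hne', one_smul]
    have h3 := hproj.trace
    rw [map_smul, map_sub, map_smul, hpE, smul_eq_mul, smul_eq_mul] at h3
    field_simp at h3
    linear_combination h3
  have k1 := key x₁ x₂ h1 h2 hne
  have k2 := key x₂ x₁ (by rw [add_comm, h1]) (by rw [mul_comm, h2]) hne.symm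
  have hne' : x₁ - x₂ ≠ 0 := sub_ne_zero.2 hne
  have h3 : (finrank ℂ (KK E t x₁) : ℂ) + finrank ℂ (KK E t x₂) = finrank ℂ E := by
    have h4 : (x₁ - x₂) * ((finrank ℂ (KK E t x₁) : ℂ) + finrank ℂ (KK E t x₂)) = (x₁ - x₂) * finrank ℂ E := by
      linear_combination -k1 + k2
    exact mul_left_cancel₀ hne' h4
  refine ⟨by exact_mod_cast h3, ?_⟩
  linear_combination k1 - x₂ * h3

theorem finrank_add_le_of_disjoint {E A B : Submodule ℂ V} (hA : A ≤ E) (hB : B ≤ E) (h : A ⊓ B = ⊥) :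
    finrank ℂ A + finrank ℂ B ≤ finrank ℂ E := by
  have h1 := Submodule.finrank_sup_add_finrank_inf_eq A B
  rw [h, finrank_bot, add_zero] at h1
  rw [← h1]
  exact Submodule.finrank_mono (sup_le hA hB)

end lin

variable {I W : Type*} {Y : Type u} [Fintype I] [DecidableEq I] [Group W] [Group Y] {M : CoxeterMatrix I}
  {cs : CoxeterSystem M W} {A : I → I → ℤ} {h : IsCartan M A} {p : ℕ} {T : Subgroup Y} {n : I → Y}
  {X : (I → ℤ) → Subgroup Y} (R : RGD cs h p T n X) [Finite W] [Finite Y] {V : Type v} [AddCommGroup V]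
  [Module ℂ V] [FiniteDimensional ℂ V] {ρ : Representation ℂ Y V}

theorem exists_roots {α β : ℂ} (hb : β ≠ 0) (hd : 4 + α ^ 2 / β ≠ 0) : ∃ x₁ x₂ : ℂ, x₁ + x₂ = α ∧ x₁ * x₂ = -β ∧ x₁ ≠ x₂ := by
  obtain ⟨s, hs⟩ := IsAlgClosed.exists_pow_nat_eq (α ^ 2 + 4 * β) (n := 2) (by norm_num)
  have hs0 : s ≠ 0 := by
    rintro rfl
    apply hd
    have h1 : α ^ 2 + 4 * β = 0 := by rw [← hs]; ring
    field_simp
    linear_combination h1
  refine ⟨(α + s) / 2, (α - s) / 2, by ring, by linear_combination -(hs) / 4, fun h1 => hs0 ?_⟩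
  linear_combination h1

include R

theorem sum_cells [Fintype W] (hG : GG cs h T X = ⊤) :
    ∑ w : W, Nat.card {g : Y // Cell R.nsys cs h X w g} = Nat.card Y := by
  classical
  let _ : Fintype Y := Fintype.ofFinite Y
  have hYc : ∀ g : Y, ∃ w, Cell R.nsys cs h X w g := fun g => (mem_GG R).1 (by rw [hG]; exact Subgroup.mem_top g)
  choose wd hwd using hYc
  rw [Nat.card_eq_fintype_card (α := Y), ← Finset.card_univ, Finset.card_eq_sum_card_fiberwise (f := wd) (t := Finset.univ)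
    (fun _ _ => Finset.mem_coe.2 (Finset.mem_univ _))]
  refine Finset.sum_congr rfl fun w _ => ?_
  rw [Nat.card_eq_fintype_card, Fintype.card_subtype]
  congr 1
  ext g
  simp only [Finset.mem_filter, Finset.mem_univ, true_and]
  exact ⟨fun h2 => Cell.unique R (hwd g) h2, fun h2 => h2 ▸ hwd g⟩

/-- the order of a group of rank two -/
theorem card_rank_two (hG : GG cs h T X = ⊤) {a b : I} (hab : a ≠ b) (hI : ∀ i, i = a ∨ i = b) {m : ℕ}
    (hm : M a b = 2 * m) (hm0 : 0 < m) : (Nat.card Y : ℂ) = Nat.card (RGD.B cs h T X) *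
      ((1 + qq X a : ℂ) * (1 + qq X b) * ∑ i ∈ Finset.range m, ((qq X a : ℂ) * qq X b) ^ i) := by
  classical
  let _ : Fintype W := Fintype.ofFinite W
  have hB0 : (Nat.card (RGD.B cs h T X) : ℂ) ≠ 0 := card_ne _
  have h1 := dih_sum cs h hab hI hm hm0
    (ψ := fun w => (Nat.card {g : Y // Cell R.nsys cs h X w g} : ℂ) / Nat.card (RGD.B cs h T X))
    (y := fun i => (qq X i : ℂ)) (by
      rw [card_cell_one R, div_self hB0]) (fun i w hl => by
      rw [card_cell_simple R hl, Nat.cast_mul, mul_div_assoc])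
  rw [← h1, ← Finset.sum_div, mul_div_cancel₀ _ hB0, ← Nat.cast_sum, sum_cells R hG]

/-- **`V^U` is one-dimensional**, the degree -/
theorem rank_two' (hG : GG cs h T X = ⊤) (hT : ∀ s ∈ T, ∀ t ∈ T, s * t = t * s)
    (hρ : ρ.IsIrreducible) {a b : I} (hab : a ≠ b) (hI : ∀ i, i = a ∨ i = b) {m : ℕ} (hm : M a b = 2 * m) (hm0 : 0 < m)
    {l : T →* ℂˣ} (hl : Vl cs h T X ρ l ≠ ⊥) (hf : ∀ i, Mv cs R.nsys (cs.simple i) l l) {c : I} {t : Y}
    (ht : Ell cs h T X {c} t) (hχ : ρ.character t ≠ 0) :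
    VU cs h X ρ = Vl cs h T X ρ l ∧ finrank ℂ (Vl cs h T X ρ l) = 1 ∧ ∃ x : I → ℂ,
      (∀ i, x i ^ 2 = Al R i l * x i + Be R i l) ∧ (∀ i, ∀ v ∈ Vl cs h T X ρ l, Tq R ρ i l v = x i • v) ∧
      ∀ y : I → ℂ, (∀ i, y i = qq X i * x i ^ 2 * ((l ⟨n i * n i, R.sq_mem_T i⟩)⁻¹ : ℂˣ).val) →
      ρ.character 1 * ((1 + y a) * (1 + y b) * ∑ i ∈ Finset.range m, (y a * y b) ^ i) =
        (1 + qq X a : ℂ) * (1 + qq X b) * ∑ i ∈ Finset.range m, ((qq X a : ℂ) * qq X b) ^ i := by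
  classical
  let _ : Fintype W := Fintype.ofFinite W
  have hVU := VU_eq R hG hT hρ hl hf
  have h1 : finrank ℂ (Vl cs h T X ρ l) = 1 := by
    by_contra hne
    -- no common eigenvectors
    have hno : ∀ x y : ℂ, KK (Vl cs h T X ρ l) (Tq R ρ a l) x ⊓ KK (Vl cs h T X ρ l) (Tq R ρ b l) y = ⊥ := by
      intro x y
      rw [eq_bot_iff]
      intro v hv
      rw [Submodule.mem_inf, mem_KK, mem_KK] at hv
      by_contra hv0
      apply hne
      rw [finrank_eq_one R hG hρ hf hv.1.1 hv0 fun i => ?_, finrank_span_singleton hv0]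
      rcases hI i with rfl | rfl
      · exact ⟨x, hv.1.2⟩
      · exact ⟨y, hv.2.2⟩
    have hspl : ∀ i, ∃ x₁ x₂ : ℂ, x₁ + x₂ = Al R i l ∧
        finrank ℂ (KK (Vl cs h T X ρ l) (Tq R ρ i l) x₁) + finrank ℂ (KK (Vl cs h T X ρ l) (Tq R ρ i l) x₂) =
          finrank ℂ (Vl cs h T X ρ l) ∧
        LinearMap.trace ℂ V (Tq R ρ i l) = x₁ * finrank ℂ (KK (Vl cs h T X ρ l) (Tq R ρ i l) x₁) +
          x₂ * finrank ℂ (KK (Vl cs h T X ρ l) (Tq R ρ i l) x₂) := by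
      intro i
      obtain ⟨x₁, x₂, e1, e2, e3⟩ := exists_roots (Be_ne R (hf i)) (disc_ne R hG hρ (hf i) hl hVU)
      refine ⟨x₁, x₂, e1, ?_⟩
      refine quad_split (p := el ρ (RGD.B cs h T X) (lamB R l)) (fun v hv => ?_) (fun v => ?_) (fun v => Tq_mem R i l v)
        (fun v => ?_) e1 e2 e3 fun v hv => Tq_sq R (hf i) hv
      · rw [Vl_eq R] at hv
        exact el_of_mem hv
      · rw [Vl_eq R]
        exact el_mem _ _ _ _
      · unfold Tq
        simp only [Module.End.mul_apply]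
        rw [el_idem]
    obtain ⟨x₁, x₂, ex, hx, htx⟩ := hspl a
    obtain ⟨y₁, y₂, ey, hy, hty⟩ := hspl b
    have hle : ∀ (x y : ℂ), finrank ℂ (KK (Vl cs h T X ρ l) (Tq R ρ a l) x) +
        finrank ℂ (KK (Vl cs h T X ρ l) (Tq R ρ b l) y) ≤ finrank ℂ (Vl cs h T X ρ l) := fun x y =>
      finrank_add_le_of_disjoint inf_le_left inf_le_left (hno x y)
    have l1 := hle x₁ y₁
    have l2 := hle x₁ y₂
    have l3 := hle x₂ y₁
    have l4 := hle x₂ y₂
    have ex1 : 2 * finrank ℂ (KK (Vl cs h T X ρ l) (Tq R ρ a l) x₁) = finrank ℂ (Vl cs h T X ρ l) := by omega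
    have ex2 : 2 * finrank ℂ (KK (Vl cs h T X ρ l) (Tq R ρ a l) x₂) = finrank ℂ (Vl cs h T X ρ l) := by omega
    have ey1 : 2 * finrank ℂ (KK (Vl cs h T X ρ l) (Tq R ρ b l) y₁) = finrank ℂ (Vl cs h T X ρ l) := by omega
    have ey2 : 2 * finrank ℂ (KK (Vl cs h T X ρ l) (Tq R ρ b l) y₂) = finrank ℂ (Vl cs h T X ρ l) := by omega
    have cast : ∀ {k d : ℕ}, 2 * k = d → (2 : ℂ) * k = d := fun {k d} e => by exact_mod_cast e
    have hbad := tr_ne R hG hρ (hf c) hl hVU ht hχ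
    apply hbad
    rcases hI c with rfl | rfl
    · rw [htx, ← ex]
      linear_combination x₁ * cast ex1 + x₂ * cast ex2
    · rw [hty, ← ey]
      linear_combination y₁ * cast ey1 + y₂ * cast ey2
  refine ⟨hVU, h1, ?_⟩
  obtain ⟨v, hv, hv0⟩ := Submodule.exists_mem_ne_zero_of_ne_bot hl
  have hE : Vl cs h T X ρ l = ℂ ∙ v := by
    symm
    apply Submodule.eq_of_le_of_finrank_eq
    · rw [Submodule.span_singleton_le_iff_mem]
      exact hv
    · rw [h1, finrank_span_singleton hv0]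
  have hex : ∀ i, ∃ c : ℂ, Tq R ρ i l v = c • v := by
    intro i
    have h2 := Tq_mem (ρ := ρ) R i l v
    rw [hE] at h2
    obtain ⟨c, hc⟩ := Submodule.mem_span_singleton.1 h2
    exact ⟨c, hc.symm⟩
  choose x hx using hex
  refine ⟨x, fun i => ?_, fun i z hz => ?_, fun y hy => ?_⟩
  · have h2 := Tq_sq R (hf i) hv
    rw [hx i, map_smul, hx i, smul_smul, smul_smul, ← add_smul] at h2
    have h3 : (x i * x i - (Al R i l * x i + Be R i l)) • v = 0 := by rw [sub_smul, h2, sub_self]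
    rcases smul_eq_zero.1 h3 with h4 | h4
    · linear_combination h4
    · exact absurd h4 hv0
  · rw [hE] at hz
    obtain ⟨c, rfl⟩ := Submodule.mem_span_singleton.1 hz
    rw [map_smul, hx i, smul_comm]
  · obtain ⟨ψ, hψ1, hψs, hψ⟩ := degree R hG hρ hf hv0 hE hx
    have h2 := dih_sum cs h hab hI hm hm0 (ψ := ψ) (y := y) hψ1 fun i w hw => by rw [hψs i w hw, hy i]
    rw [h2, card_rank_two R hG hab hI hm hm0] at hψ
    have hB0 : (Nat.card (RGD.B cs h T X) : ℂ) ≠ 0 := card_ne _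
    refine mul_left_cancel₀ hB0 ?_
    linear_combination hψ

/-- **rank two** -/
theorem rank_two (hG : GG cs h T X = ⊤) (hT : ∀ s ∈ T, ∀ t ∈ T, s * t = t * s)
    (hρ : ρ.IsIrreducible) {a b : I} (hab : a ≠ b) (hI : ∀ i, i = a ∨ i = b) {m : ℕ} (hm : M a b = 2 * m) (hm0 : 0 < m)
    {l : T →* ℂˣ} (hl : Vl cs h T X ρ l ≠ ⊥) (hla : Mv cs R.nsys (cs.simple a) l l)
    (hlb : Mv cs R.nsys (cs.simple b) l l) {c : I} {t : Y} (ht : Ell cs h T X {c} t) (hχ : ρ.character t ≠ 0) :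
    VU cs h X ρ = Vl cs h T X ρ l ∧ finrank ℂ (Vl cs h T X ρ l) = 1 ∧ ∃ ya yb : ℂ, YY X n l a ya ∧ YY X n l b yb ∧
      ρ.character 1 * ((1 + ya) * (1 + yb) * ∑ i ∈ Finset.range m, (ya * yb) ^ i) =
        (1 + qq X a : ℂ) * (1 + qq X b) * ∑ i ∈ Finset.range m, ((qq X a : ℂ) * qq X b) ^ i := by
  have hf : ∀ i, Mv cs R.nsys (cs.simple i) l l := fun i => by
    rcases hI i with rfl | rfl
    · exact hla
    · exact hlb
  obtain ⟨h1, h2, x, hx, -, h3⟩ := rank_two' R hG hT hρ hab hI hm hm0 hl hf ht hχ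
  let y : I → ℂ := fun i => qq X i * x i ^ 2 * ((l ⟨n i * n i, R.sq_mem_T i⟩)⁻¹ : ℂˣ).val
  exact ⟨h1, h2, y a, y b, yy_of_root R hla (hx a), yy_of_root R hlb (hx b), h3 y fun i => rfl⟩

end Cfsg.Agent.H985.VZ
end

-- part: H985/VZ/GTwo
section
prune_inst 0x1100054044020000401800002200004462000002004000000800040401c804620000a80130200400000004440038004811000030420000000a000400011c048108800000a1480000000016000001000000000000000000000000000000000000200000000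
set_option linter.all false
open scoped Cfsg.Agent.FastGrp

-- part: H985/VZ/DegGen
section
/-!
# S4842: the degree formula for a one-dimensional `V_l`, `l` arbitrary (helper985)

* `el_n_dual'`  : the dual step for `l' ↦ l = s_i l'`;
* `el_n_inv`    : `p_l n_i⁻¹ p_{l'} n_i v = v / q_i` for `l' = s_i l ≠ l`;
* `span_of_all` : `V_l = ℂ v` if `p_l g v ∈ ℂ v` for all representatives `g`;
* `degree_gen`  : `χ(1) ∑_w |B w B| c(w) = |Y|`, `c(w) = a b`, `p g v = a v`, `p g⁻¹ v = b v`.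
-/

set_option autoImplicit false
set_option linter.unusedSectionVars false

open Cfsg

namespace Cfsg.Agent.H985.VZ

open CoxeterSystem Cfsg.Agent.ChevalleyStructure.CoxeterGeom Cfsg.Agent.Tits.Roots Cfsg.Agent.Tits.Core
  Cfsg.Agent.Tits.Exchange Cfsg.Agent.Nodes.Reps Cfsg.Agent.Nodes.BNOf Cfsg.Agent.Nodes.StabComb
  Cfsg.Agent.Nodes.Bruhat Cfsg.Agent.Nodes.OppDec Cfsg.Agent.Nodes.LeviDec Module

universe u v

variable {I W : Type*} {Y : Type u} [Fintype I] [DecidableEq I] [Group W] [Group Y] {M : CoxeterMatrix I}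
  {cs : CoxeterSystem M W} {A : I → I → ℤ} {h : IsCartan M A} {p : ℕ} {T : Subgroup Y} {n : I → Y}
  {X : (I → ℤ) → Subgroup Y} (R : RGD cs h p T n X) [Finite W] [Finite Y] {V : Type v} [AddCommGroup V]
  [Module ℂ V] {ρ : Representation ℂ Y V}

include R

/-- the dual step -/
theorem el_n_dual' {i : I} {l l' : T →* ℂˣ} (hm : Mv cs R.nsys (cs.simple i) l' l) {v : V}
    (hv : v ∈ Vl cs h T X ρ l) {V' : Type*} [AddCommGroup V'] [Module ℂ V'] {Φ : V →ₗ[ℂ] V'}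
    (hΦ : ∀ x ∈ X (sr i), ∀ z, Φ (ρ x z) = Φ z) :
    Φ (el ρ (RGD.B cs h T X) (lamB R l') (ρ (n i)⁻¹ v)) = Φ (ρ (n i)⁻¹ v) := by
  classical
  let _ : Fintype (RGD.B cs h T X) := Fintype.ofFinite _
  have hvB := hv
  rw [Vl_eq R] at hvB
  rw [el_apply ρ _ (lamB R l'), map_smul, map_sum]
  have key : ∀ b : RGD.B cs h T X, Φ (((lamB R l' b)⁻¹ : ℂˣ).val • ρ b (ρ (n i)⁻¹ v)) = Φ (ρ (n i)⁻¹ v) := by
    intro b
    obtain ⟨x, hx, y, hy, t, ht, e⟩ := mem_B_left R i b.2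
    have hn1 : n i * y * (n i)⁻¹ ∈ RGD.Sup X (RGD.PosNe cs h i) := by
      rw [← R.cj_n_V i]
      exact conj_mem_cj.2 hy
    have hn2 : n i * t * (n i)⁻¹ ∈ T := (Subgroup.mem_normalizer_iff.1 (R.nsys.norm i) t).1 ht
    have hc : y * t ∈ RGD.B cs h T X := mul_mem (PosNe_le_B i hy) (RGD.T_le_B ht)
    have hcB : n i * (y * t) * (n i)⁻¹ ∈ RGD.B cs h T X := by
      have h3 : n i * (y * t) * (n i)⁻¹ = (n i * y * (n i)⁻¹) * (n i * t * (n i)⁻¹) := by group
      rw [h3]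
      exact mul_mem (PosNe_le_B i hn1) (RGD.T_le_B hn2)
    have hxU : x ∈ RGD.Sup X (RGD.Pos cs h) := X_le_U' R i hx
    have e2 : lamB R l' b = lamB R l' ⟨y * t, hc⟩ := by
      have h3 : b = ⟨x, RGD.U_le_B hxU⟩ * ⟨y * t, hc⟩ := Subtype.ext e
      rw [h3, map_mul, lamB_U R l' hxU, one_mul]
    have e4 : lamB R l ⟨n i * (y * t) * (n i)⁻¹, hcB⟩ = lamB R l' ⟨y * t, hc⟩ :=
      lamB_conj R (rp_simple cs R.nsys i) hm rfl
    have e3 : ρ b (ρ (n i)⁻¹ v) = ρ x (ρ (n i)⁻¹ (ρ (n i * (y * t) * (n i)⁻¹) v)) := by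
      rw [e, ← Module.End.mul_apply, ← map_mul, ← Module.End.mul_apply, ← map_mul, ← Module.End.mul_apply, ← map_mul]
      congr 2
      group
    have e5 := hvB ⟨_, hcB⟩
    change ρ (n i * (y * t) * (n i)⁻¹) v = _ at e5
    rw [e3, map_smul, hΦ x hx, e5, map_smul, map_smul, e4, e2, smul_smul, Units.inv_mul, one_smul]
  rw [Finset.sum_congr rfl fun b _ => key b, Finset.sum_const, Finset.card_univ, ← Nat.card_eq_fintype_card,
    ← Nat.cast_smul_eq_nsmul ℂ, smul_smul, inv_mul_cancel₀ (card_ne _), one_smul]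

/-- the projection followed by the inverse of a representative -/
theorem el_rho_inv_X {i : I} {w : W} {g : Y} (hg : Rp cs R.nsys w g) (h3 : 0 ≤ rep cs h w⁻¹ (sr i)) (l : T →* ℂˣ) {y : Y}
    (hy : y ∈ X (sr i)) (z : V) : el ρ (RGD.B cs h T X) (lamB R l) (ρ g⁻¹ (ρ y z)) =
      el ρ (RGD.B cs h T X) (lamB R l) (ρ g⁻¹ z) := by
  have h5 : g⁻¹ * y * g ∈ RGD.Sup X (RGD.Pos cs h) :=
    RGD.le_Sup (S := RGD.Pos cs h) ⟨(isRoot_sr cs h i).act _, h3⟩ (R.conj_mem' hg (isRoot_sr cs h i) hy)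
  have h6 := el_rho ρ (RGD.B cs h T X) (lamB R l) ⟨_, RGD.U_le_B h5⟩ (ρ g⁻¹ z)
  rw [lamB_U R l h5, Units.val_one, one_smul] at h6
  rw [← h6]
  change _ = el ρ (RGD.B cs h T X) (lamB R l) (ρ (g⁻¹ * y * g) (ρ g⁻¹ z))
  congr 1
  rw [← Module.End.mul_apply, ← map_mul, ← Module.End.mul_apply, ← map_mul]
  congr 2
  group

/-- `p_l g⁻¹ p_{l'} n_i⁻¹ v = p_l g⁻¹ n_i⁻¹ v` if `w⁻¹ α_i > 0`, `l' = s_i l` -/
theorem el_mul_inv {i : I} {w : W} {g : Y} (hg : Rp cs R.nsys w g) (h3 : 0 ≤ rep cs h w⁻¹ (sr i)) {l l' l'' : T →* ℂˣ}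
    (hm : Mv cs R.nsys (cs.simple i) l' l) {v : V} (hv : v ∈ Vl cs h T X ρ l) :
    el ρ (RGD.B cs h T X) (lamB R l'') (ρ g⁻¹ (el ρ (RGD.B cs h T X) (lamB R l') (ρ (n i)⁻¹ v))) =
      el ρ (RGD.B cs h T X) (lamB R l'') (ρ (n i * g)⁻¹ v) := by
  rw [mul_inv_rev, map_mul, Module.End.mul_apply]
  exact el_n_dual' R hm hv (Φ := el ρ (RGD.B cs h T X) (lamB R l'') * ρ g⁻¹) fun y hy z => el_rho_inv_X R hg h3 l'' hy z

/-- the number of `b ∈ B` with `n⁻¹ b n ∈ B` -/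
theorem card_conj (i : I) : qq X i * Nat.card {b : RGD.B cs h T X // (n i)⁻¹ * b * n i ∈ RGD.B cs h T X} =
    Nat.card (RGD.B cs h T X) := by
  classical
  let _ : Fintype (RGD.B cs h T X) := Fintype.ofFinite _
  let _ : Fintype (X (sr i)) := Fintype.ofFinite _
  let j : X (sr i) →* RGD.B cs h T X := Subgroup.inclusion (X_le_B' R i)
  have hiff : ∀ x ∈ X (sr i), ((n i)⁻¹ * x * n i ∈ RGD.B cs h T X ↔ x = 1) := by
    intro x hx
    constructor
    · intro h1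
      have h2 : (n i)⁻¹ * x * (n i)⁻¹⁻¹ ∈ RGD.B cs h T X := by rwa [inv_inv]
      have h3 := (rp_simple cs R.nsys i).inv
      rw [cs.inv_simple] at h3
      exact eq_one_of_conj_mem_B R hx h3 h2
    · rintro rfl
      rw [mul_one, inv_mul_cancel]
      exact one_mem _
  have hbij : ∀ b : RGD.B cs h T X, ∃ x0 : X (sr i), ∃ c ∈ RGD.B cs h T X, (b : Y)⁻¹ = (x0 : Y) * c ∧
      (n i)⁻¹ * c * n i ∈ RGD.B cs h T X := by
    intro b
    obtain ⟨x, hx, y, hy, t, ht, e⟩ := mem_B_left R i (inv_mem b.2)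
    refine ⟨⟨x, hx⟩, y * t, mul_mem (PosNe_le_B i hy) (RGD.T_le_B ht), e, ?_⟩
    have h3 : (n i)⁻¹ * (y * t) * n i = ((n i)⁻¹ * y * n i) * ((n i)⁻¹ * t * n i) := by group
    rw [h3]
    exact mul_mem (PosNe_le_B i (conj_inv_mem_PosNe R hy)) (RGD.T_le_B (conj_inv_mem_T R i ht))
  have h1 := avg_sum j (fun b => if (n i)⁻¹ * (b : Y)⁻¹ * n i ∈ RGD.B cs h T X then (1 : ℂ) else 0) fun b => by
    obtain ⟨x0, c, hc, e, hcn⟩ := hbij b
    refine ⟨x0⁻¹, fun x => ?_⟩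
    have h2 : ((n i)⁻¹ * ((b * j x : RGD.B cs h T X) : Y)⁻¹ * n i ∈ RGD.B cs h T X) ↔
        ((n i)⁻¹ * ((j (x0⁻¹ * x) : RGD.B cs h T X) : Y)⁻¹ * n i ∈ RGD.B cs h T X) := by
      have h3 : (n i)⁻¹ * ((b * j x : RGD.B cs h T X) : Y)⁻¹ * n i =
          ((n i)⁻¹ * ((j (x0⁻¹ * x) : RGD.B cs h T X) : Y)⁻¹ * n i) * ((n i)⁻¹ * c * n i) := by
        change (n i)⁻¹ * ((b : Y) * x)⁻¹ * n i = ((n i)⁻¹ * ((x0 : Y)⁻¹ * x)⁻¹ * n i) * ((n i)⁻¹ * c * n i)
        rw [mul_inv_rev, e]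
        group
      rw [h3]
      exact Subgroup.mul_mem_cancel_right _ hcn
    simp only [h2]
  have h2 : ∑ x : X (sr i), (if (n i)⁻¹ * ((j x : RGD.B cs h T X) : Y)⁻¹ * n i ∈ RGD.B cs h T X then (1 : ℂ) else 0) = 1 := by
    rw [Finset.sum_eq_single (1 : X (sr i))]
    · rw [if_pos]
      rw [map_one, Subgroup.coe_one, inv_one, mul_one, inv_mul_cancel]
      exact one_mem _
    · intro x _ hx
      rw [if_neg]
      intro h3
      apply hx
      have h4 := (hiff (x : Y)⁻¹ (inv_mem x.2)).1 h3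
      exact Subtype.ext (inv_eq_one.1 h4)
    · intro h3
      exact absurd (Finset.mem_univ _) h3
  rw [h2, mul_one, ← Finset.sum_filter, Finset.sum_const, nsmul_eq_mul, mul_one] at h1
  have h3 : (Finset.univ.filter fun b : RGD.B cs h T X => (n i)⁻¹ * (b : Y)⁻¹ * n i ∈ RGD.B cs h T X).card =
      Nat.card {b : RGD.B cs h T X // (n i)⁻¹ * b * n i ∈ RGD.B cs h T X} := by
    rw [Nat.card_eq_fintype_card (α := {b : RGD.B cs h T X // _}), Fintype.card_subtype]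
    refine Finset.card_bij (fun b _ => b⁻¹) ?_ (fun a _ b _ hab => inv_injective hab) ?_
    · intro b hb
      rw [Finset.mem_filter] at hb ⊢
      exact ⟨Finset.mem_univ _, hb.2⟩
    · intro b hb
      rw [Finset.mem_filter] at hb
      refine ⟨b⁻¹, ?_, inv_inv b⟩
      rw [Finset.mem_filter]
      refine ⟨Finset.mem_univ _, ?_⟩
      rw [Subgroup.coe_inv, inv_inv]
      exact hb.2
  rw [h3] at h1
  have h4 : (Fintype.card (X (sr i)) : ℂ) = qq X i := by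
    unfold qq
    rw [Nat.card_eq_fintype_card]
  rw [h4, ← Nat.card_eq_fintype_card (α := RGD.B cs h T X)] at h1
  exact_mod_cast h1

/-- `p_l n_i⁻¹ p_{l'} n_i v = v / q_i` for `v ∈ V_l`, `l' = s_i l ≠ l` -/
theorem el_n_inv {i : I} {l l' : T →* ℂˣ} (hm : Mv cs R.nsys (cs.simple i) l l') (hne : l ≠ l') {v : V}
    (hv : v ∈ Vl cs h T X ρ l) :
    el ρ (RGD.B cs h T X) (lamB R l) (ρ (n i)⁻¹ (el ρ (RGD.B cs h T X) (lamB R l') (ρ (n i) v))) =
      (qq X i : ℂ)⁻¹ • v := by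
  classical
  let _ : Fintype (RGD.B cs h T X) := Fintype.ofFinite _
  have hnm : ¬ Mv cs R.nsys (cs.simple i) l l := fun h => hne (h.unique hm)
  rw [el_apply ρ _ (lamB R l'), map_smul, map_smul, map_sum, map_sum, ← Finset.sum_filter_add_sum_filter_not
    Finset.univ (fun b : RGD.B cs h T X => (n i)⁻¹ * b * n i ∈ RGD.B cs h T X)]
  have e1 : ∀ b ∈ Finset.univ.filter (fun b : RGD.B cs h T X => (n i)⁻¹ * b * n i ∈ RGD.B cs h T X),
      el ρ (RGD.B cs h T X) (lamB R l) (ρ (n i)⁻¹ (((lamB R l' b)⁻¹ : ℂˣ).val • ρ b (ρ (n i) v))) = v := by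
    intro b hb
    have hb' := (Finset.mem_filter.1 hb).2
    rw [map_smul, map_smul, show ρ (n i)⁻¹ (ρ b (ρ (n i) v)) = ρ ((n i)⁻¹ * b * n i) v by
      rw [map_mul, map_mul]; rfl]
    have h2 : lamB R l' b = lamB R l ⟨(n i)⁻¹ * b * n i, hb'⟩ :=
      lamB_conj R (rp_simple cs R.nsys i) hm (b := ⟨_, hb'⟩) (by
        change (b : Y) = n i * ((n i)⁻¹ * b * n i) * (n i)⁻¹
        group)
    rw [Vl_eq R] at hv
    have h3 := hv ⟨(n i)⁻¹ * b * n i, hb'⟩
    change ρ ((n i)⁻¹ * b * n i) v = _ at h3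
    rw [h3, map_smul, el_of_mem hv, smul_smul, h2, Units.inv_mul, one_smul]
  have e2 : ∀ b ∈ Finset.univ.filter (fun b : RGD.B cs h T X => ¬ (n i)⁻¹ * b * n i ∈ RGD.B cs h T X),
      el ρ (RGD.B cs h T X) (lamB R l) (ρ (n i)⁻¹ (((lamB R l' b)⁻¹ : ℂˣ).val • ρ b (ρ (n i) v))) = 0 := by
    intro b hb
    have hb' := (Finset.mem_filter.1 hb).2
    have h2 : (n i)⁻¹ * b * n i ∈ PJ cs h T X {i} :=
      mul_mem (mul_mem (inv_mem (n_mem_Pi R i)) (B_le_PJ b.2)) (n_mem_Pi R i)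
    obtain ⟨w, hw, b₁, hb₁, g, hg, b₂, hb₂, e⟩ := (mem_PJ_iff_cell R).1 h2
    have hw' : w = cs.simple i := by
      rcases mem_WJ_single hw with h3 | h3
      · exfalso
        apply hb'
        subst h3
        rw [e]
        exact mul_mem (mul_mem hb₁ (RGD.T_le_B hg.mem_of_one)) hb₂
      · exact h3
    subst hw'
    rw [map_smul, map_smul, show ρ (n i)⁻¹ (ρ b (ρ (n i) v)) = ρ ((n i)⁻¹ * b * n i) v by
      rw [map_mul, map_mul]; rfl, e, map_mul, map_mul, Module.End.mul_apply, Module.End.mul_apply]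
    have hv' := hv
    rw [Vl_eq R] at hv'
    have h3 := hv' ⟨b₂, hb₂⟩
    change ρ b₂ v = _ at h3
    have h4 := el_rho ρ (RGD.B cs h T X) (lamB R l) ⟨b₁, hb₁⟩ (ρ g v)
    change el ρ _ _ (ρ b₁ (ρ g v)) = _ at h4
    rw [h3, map_smul, map_smul, map_smul, h4, el_rho_eq_zero R hg hnm hv, smul_zero, smul_zero, smul_zero]
  rw [Finset.sum_congr rfl e1, Finset.sum_congr rfl e2, Finset.sum_const_zero, add_zero, Finset.sum_const,
    ← Nat.cast_smul_eq_nsmul ℂ, smul_smul]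
  congr 1
  have h1 := card_conj R i
  have h2 : Nat.card {b : RGD.B cs h T X // (n i)⁻¹ * b * n i ∈ RGD.B cs h T X} =
      (Finset.univ.filter fun b : RGD.B cs h T X => (n i)⁻¹ * b * n i ∈ RGD.B cs h T X).card := by
    rw [Nat.card_eq_fintype_card (α := {b : RGD.B cs h T X // _}), Fintype.card_subtype]
  rw [h2] at h1
  have h3 : (Nat.card (RGD.B cs h T X) : ℂ) ≠ 0 := card_ne _
  have h4 := qq_pos (X := X) R i
  have h5 : (qq X i : ℂ) * (Finset.univ.filter fun b : RGD.B cs h T X => (n i)⁻¹ * b * n i ∈ RGD.B cs h T X).card =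
      Nat.card (RGD.B cs h T X) := by exact_mod_cast h1
  field_simp
  linear_combination h5

/-- `V_l = ℂ v` if `p g v ∈ ℂ v` for all representatives -/
theorem span_of_all (hG : GG cs h T X = ⊤) (hρ : ρ.IsIrreducible) {l : T →* ℂˣ} {v : V} (hv : v ∈ Vl cs h T X ρ l)
    (hv0 : v ≠ 0) (hall : ∀ w, ∃ g, Rp cs R.nsys w g ∧ ∃ c : ℂ, el ρ (RGD.B cs h T X) (lamB R l) (ρ g v) = c • v) :
    Vl cs h T X ρ l = ℂ ∙ v := by
  have hvB := hv
  rw [Vl_eq R] at hvB
  apply le_antisymm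
  · let Z : Subrepresentation ρ :=
      { toSubmodule := Submodule.span ℂ {x | ∃ g : Y, x = ρ g v}
        apply_mem_toSubmodule := fun g v' hv' => by
          refine Submodule.span_induction (p := fun v' _ => ρ g v' ∈ Submodule.span ℂ {x | ∃ g : Y, x = ρ g v})
            ?_ ?_ ?_ ?_ hv'
          · rintro _ ⟨k, rfl⟩
            refine Submodule.subset_span ⟨g * k, ?_⟩
            rw [map_mul, Module.End.mul_apply]
          · rw [map_zero]
            exact Submodule.zero_mem _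
          · intro x y _ _ hx hy
            rw [map_add]
            exact Submodule.add_mem _ hx hy
          · intro a x _ hx
            rw [map_smul]
            exact Submodule.smul_mem _ _ hx }
    have hZ : Z.toSubmodule = ⊤ := by
      rcases hρ.2 Z with h1 | h1
      · exfalso
        apply hv0
        have h2 : v ∈ Z.toSubmodule := Submodule.subset_span ⟨1, by rw [map_one, Module.End.one_apply]⟩
        rw [h1] at h2
        exact h2
      · rw [h1]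
        rfl
    intro x hx
    rw [Vl_eq R] at hx
    rw [← el_of_mem hx]
    have h1 : x ∈ Z.toSubmodule := by rw [hZ]; exact Submodule.mem_top
    refine Submodule.span_induction (p := fun x _ => el ρ (RGD.B cs h T X) (lamB R l) x ∈ (ℂ ∙ v)) ?_ ?_ ?_ ?_ h1
    · rintro _ ⟨k, rfl⟩
      obtain ⟨w, b₁, hb₁, g', hg', b₂, hb₂, rfl⟩ := (mem_GG R).1 (show k ∈ GG cs h T X by rw [hG]; exact Subgroup.mem_top k)
      obtain ⟨g, hg, c, hc⟩ := hall w
      have h2 : g⁻¹ * g' ∈ T := hg.unique hg'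
      have h6 : g⁻¹ * g' * b₂ ∈ RGD.B cs h T X := mul_mem (RGD.T_le_B h2) hb₂
      have h3 := hvB ⟨_, h6⟩
      change ρ (g⁻¹ * g' * b₂) v = _ at h3
      have h4 := el_rho ρ (RGD.B cs h T X) (lamB R l) ⟨b₁, hb₁⟩ (ρ g v)
      change el ρ _ _ (ρ b₁ (ρ g v)) = _ at h4
      rw [show b₁ * g' * b₂ = b₁ * (g * (g⁻¹ * g' * b₂)) by group, map_mul, map_mul, Module.End.mul_apply,
        Module.End.mul_apply, h3, map_smul, map_smul, map_smul, h4, hc, smul_smul, smul_smul]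
      exact Submodule.smul_mem _ _ (Submodule.mem_span_singleton_self v)
    · rw [map_zero]
      exact Submodule.zero_mem _
    · intro x y _ _ hx hy
      rw [map_add]
      exact Submodule.add_mem _ hx hy
    · intro a x _ hx
      rw [map_smul]
      exact Submodule.smul_mem _ _ hx
  · rw [Submodule.span_singleton_le_iff_mem]
    exact hv

/-- **the degree formula**, general `l` -/
theorem degree_gen [FiniteDimensional ℂ V] [Fintype W] (hG : GG cs h T X = ⊤) (hρ : ρ.IsIrreducible) {l : T →* ℂˣ}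
    {v : V} (hv0 : v ≠ 0) (hE : Vl cs h T X ρ l = ℂ ∙ v) {c : W → ℂ}
    (hc : ∀ w, ∃ g, Rp cs R.nsys w g ∧ ∃ a b : ℂ, el ρ (RGD.B cs h T X) (lamB R l) (ρ g v) = a • v ∧
      el ρ (RGD.B cs h T X) (lamB R l) (ρ g⁻¹ v) = b • v ∧ c w = a * b) :
    ρ.character 1 * ∑ w, (Nat.card {g : Y // Cell R.nsys cs h X w g} : ℂ) * c w = Nat.card Y := by
  classical
  let _ : Fintype Y := Fintype.ofFinite Y
  have hv : v ∈ Vl cs h T X ρ l := by rw [hE]; exact Submodule.mem_span_singleton_self v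
  have hvB := hv
  rw [Vl_eq R] at hvB
  set P := el ρ (RGD.B cs h T X) (lamB R l) with hP
  have hex : ∀ g : Y, ∃ c : ℂ, P (ρ g v) = c • v := by
    intro g
    have h1 : P (ρ g v) ∈ Vl cs h T X ρ l := by rw [Vl_eq R]; exact el_mem _ _ _ _
    rw [hE] at h1
    obtain ⟨c, hc⟩ := Submodule.mem_span_singleton.1 h1
    exact ⟨c, hc.symm⟩
  choose f hfv using hex
  have hinj : ∀ {a b : ℂ}, a • v = b • v → a = b := fun {a b} hab => by
    have h1 : (a - b) • v = 0 := by rw [sub_smul, hab, sub_self]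
    rcases smul_eq_zero.1 h1 with h2 | h2
    · exact sub_eq_zero.1 h2
    · exact absurd h2 hv0
  have hfl : ∀ (b : RGD.B cs h T X) (g : Y), f (b * g) = (lamB R l b : ℂ) * f g := by
    intro b g
    apply hinj
    rw [← hfv, mul_smul, ← hfv g, map_mul, Module.End.mul_apply, el_rho]
  have hfr : ∀ (b : RGD.B cs h T X) (g : Y), f (g * b) = f g * (lamB R l b : ℂ) := by
    intro b g
    apply hinj
    rw [← hfv, mul_comm, mul_smul, ← hfv g, map_mul, Module.End.mul_apply, hvB b, map_smul, map_smul]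
  have hφ : ∀ (b b' : RGD.B cs h T X) (g : Y), f (b * g * b') * f (b * g * b')⁻¹ = f g * f g⁻¹ := by
    intro b b' g
    have h1 : ((b : Y) * g * b')⁻¹ = ((b'⁻¹ : RGD.B cs h T X) : Y) * g⁻¹ * ((b⁻¹ : RGD.B cs h T X) : Y) := by
      rw [Subgroup.coe_inv, Subgroup.coe_inv]
      group
    rw [h1, hfr b', hfl b, hfr, hfl, map_inv, map_inv]
    have h2 : (lamB R l b : ℂ) ≠ 0 := Units.ne_zero _
    have h3 : (lamB R l b' : ℂ) ≠ 0 := Units.ne_zero _
    rw [Units.val_inv_eq_inv_val, Units.val_inv_eq_inv_val]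
    field_simp
  have hcell : ∀ w g, Cell R.nsys cs h X w g → f g * f g⁻¹ = c w := by
    rintro w _ ⟨b₁, hb₁, k, hk, b₂, hb₂, rfl⟩
    obtain ⟨g, hg, a, b, ha, hb, e⟩ := hc w
    have h1 : g⁻¹ * k ∈ T := hg.unique hk
    have h2 : b₁ * k * b₂ = ((⟨b₁, hb₁⟩ : RGD.B cs h T X) : Y) * g *
        ((⟨g⁻¹ * k * b₂, mul_mem (RGD.T_le_B h1) hb₂⟩ : RGD.B cs h T X) : Y) := by
      change b₁ * k * b₂ = b₁ * g * (g⁻¹ * k * b₂)
      group
    rw [h2, hφ, e, hinj ((hfv g).symm.trans ha), hinj ((hfv g⁻¹).symm.trans hb)]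
  have hYc : ∀ g : Y, ∃ w, Cell R.nsys cs h X w g := fun g => (mem_GG R).1 (by rw [hG]; exact Subgroup.mem_top g)
  choose wd hwd using hYc
  have hsum : ∑ g : Y, f g * f g⁻¹ = ∑ w, (Nat.card {g : Y // Cell R.nsys cs h X w g} : ℂ) * c w := by
    rw [← Finset.sum_fiberwise Finset.univ wd]
    refine Finset.sum_congr rfl fun w _ => ?_
    have h1 : ∀ g ∈ Finset.univ.filter (fun g => wd g = w), f g * f g⁻¹ = c w := by
      intro g hg
      have h2 := (Finset.mem_filter.1 hg).2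
      exact hcell w g (h2 ▸ hwd g)
    rw [Finset.sum_congr rfl h1, Finset.sum_const, nsmul_eq_mul, Nat.card_eq_fintype_card, Fintype.card_subtype]
    congr 3
    ext g
    simp only [Finset.mem_filter, Finset.mem_univ, true_and]
    exact ⟨fun h2 => h2 ▸ hwd g, fun h2 => Cell.unique R (hwd g) h2⟩
  obtain ⟨d, hd⟩ := schur hρ (f := RkOne.ss ρ (RGD.B cs h T X) (lamB R l)) fun g v => RkOne.ss_comm g v
  have h1 : RkOne.ss ρ (RGD.B cs h T X) (lamB R l) = d • 1 := LinearMap.ext fun v => hd v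
  have h2 := RkOne.trace_ss (ρ := ρ) (B := RGD.B cs h T X) (l := lamB R l)
  rw [← Vl_eq R, hE, finrank_span_singleton hv0, h1, map_smul, smul_eq_mul, Nat.cast_one, mul_one] at h2
  have h3 : LinearMap.trace ℂ V 1 = ρ.character 1 := by
    change _ = LinearMap.trace ℂ V (ρ 1)
    rw [show ρ 1 = 1 from map_one ρ]
  rw [h3] at h2
  have h4 : d = (Nat.card (RGD.B cs h T X) : ℂ)⁻¹ * ∑ g : Y, f g * f g⁻¹ := by
    apply hinj
    have h5 : P (RkOne.ss ρ (RGD.B cs h T X) (lamB R l) v) = d • v := by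
      rw [hd v, map_smul, el_of_mem hvB]
    rw [← h5]
    unfold RkOne.ss
    rw [finsum_eq_sum_of_fintype, LinearMap.smul_apply, LinearMap.sum_apply, map_smul, map_sum, mul_smul,
      Finset.sum_smul]
    congr 1
    refine Finset.sum_congr rfl fun g _ => ?_
    rw [Module.End.mul_apply, Module.End.mul_apply, ← hP, hfv g⁻¹, map_smul, map_smul, hfv g, smul_smul, mul_comm]
  rw [h4, hsum] at h2
  have hB0 : (Nat.card (RGD.B cs h T X) : ℂ) ≠ 0 := card_ne _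
  field_simp at h2
  rw [mul_comm]
  exact h2

end Cfsg.Agent.H985.VZ
end

-- part: H985/VZ/GTwo
section
/-!
# S4842: `G₂`, the quadratic characters of the torus (helper985)

* `g2_quad` : `M a b = 6`, `l₀`, `l₁ = s_b l₀ ≠ l₀`, `l₂ = s_a l₁ ≠ l₁`, `s_a l₀ = l₀`, `s_b l₂ = l₂`, `l₀` trivial on
  `T ∩ L_a`, `l₂` trivial on `T ∩ L_b`, `V_{l₀} ≠ 0`: `χ(1) (1 + y) (1 + z) = (1 + q_a) (1 + q_b) (1 + q_a q_b + (q_a q_b)²)`,
  `y ∈ {q_a, 1/q_a}`, `z ∈ {q_b, 1/q_b}`.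
-/

set_option autoImplicit false
set_option linter.unusedSectionVars false

open Cfsg

namespace Cfsg.Agent.H985.VZ

open CoxeterSystem Cfsg.Agent.ChevalleyStructure.CoxeterGeom Cfsg.Agent.Tits.Roots Cfsg.Agent.Tits.Core
  Cfsg.Agent.Tits.Exchange Cfsg.Agent.Nodes.Reps Cfsg.Agent.Nodes.BNOf Cfsg.Agent.Nodes.StabComb
  Cfsg.Agent.Nodes.Bruhat Cfsg.Agent.Nodes.OppDec Cfsg.Agent.Nodes.LeviDec Module

universe u v

section dih

variable {I W : Type*} [Fintype I] [DecidableEq I] [Group W] {M : CoxeterMatrix I} (cs : CoxeterSystem M W)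

/-- the elements of a dihedral group -/
theorem ua_all {a b : I} (hI : ∀ i, i = a ∨ i = b) {N : ℕ} (hN0 : 0 < N) (hm : M a b = N) (w : W) :
    ∃ k, k ≤ N ∧ (w = ua cs a b k ∨ w = ua cs b a k) := by
  have hM : M b a = N := by rw [M.symmetric, hm]
  have hstep : ∀ (a b : I), M a b = N → ∀ w, (∃ k, k ≤ N ∧ (w = ua cs a b k ∨ w = ua cs b a k)) →
      ∃ k, k ≤ N ∧ (cs.simple a * w = ua cs a b k ∨ cs.simple a * w = ua cs b a k) := by
    rintro a b hm w ⟨k, hk, h2 | h2⟩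
    · rcases Nat.eq_zero_or_pos k with h3 | h3
      · subst h3
        refine ⟨1, by omega, Or.inl ?_⟩
        rw [h2]
        rfl
      · refine ⟨k - 1, by omega, Or.inr ?_⟩
        rw [h2]
        conv_lhs => rw [show k = (k - 1) + 1 by omega]
        rw [ua_succ, cs.simple_mul_simple_cancel_left]
    · rcases Nat.lt_or_ge k N with h3 | h3
      · refine ⟨k + 1, by omega, Or.inl ?_⟩
        rw [h2, ua_succ]
      · have h4 : k = N := le_antisymm hk h3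
        refine ⟨k - 1, by omega, Or.inr ?_⟩
        have h5 := ua_M cs a b
        rw [hm, ← h4] at h5
        rw [h2, ← h5]
        conv_lhs => rw [show k = (k - 1) + 1 by omega]
        rw [ua_succ, cs.simple_mul_simple_cancel_left]
  obtain ⟨ω, rfl⟩ := cs.wordProd_surjective w
  induction ω with
  | nil => exact ⟨0, by omega, Or.inl (by rw [wordProd_nil]; rfl)⟩
  | cons i ω ih =>
    rw [wordProd_cons]
    rcases hI i with rfl | rfl
    · exact hstep _ _ hm _ ih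
    · obtain ⟨k, hk, h2⟩ := ih
      obtain ⟨k', hk', h3⟩ := hstep _ _ hM _ ⟨k, hk, h2.symm⟩
      exact ⟨k', hk', h3.symm⟩

end dih

variable {I W : Type*} {Y : Type u} [Fintype I] [DecidableEq I] [Group W] [Group Y] {M : CoxeterMatrix I}
  {cs : CoxeterSystem M W} {A : I → I → ℤ} {h : IsCartan M A} {p : ℕ} {T : Subgroup Y} {n : I → Y}
  {X : (I → ℤ) → Subgroup Y} (R : RGD cs h p T n X) [Finite W] [Finite Y] {V : Type v} [AddCommGroup V]
  [Module ℂ V] {ρ : Representation ℂ Y V}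

/-- alternating products of the `n_i` -/
def gu (n : I → Y) (a b : I) : ℕ → Y
  | 0 => 1
  | k + 1 => n a * gu n b a k

omit [Fintype I] [DecidableEq I] in
theorem gu_succ (a b : I) (k : ℕ) : gu n a b (k + 1) = n a * gu n b a k := rfl

include R

theorem rp_gu (a b : I) (k : ℕ) : Rp cs R.nsys (ua cs a b k) (gu n a b k) := by
  induction k generalizing a b with
  | zero => exact rp_one
  | succ k ih =>
    rw [ua_succ, gu_succ]
    exact (rp_simple cs R.nsys a).mul (ih b a)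

theorem pos_ua {a b : I} (hab : a ≠ b) {k : ℕ} (hk : k + 1 ≤ M a b) : 0 ≤ rep cs h (ua cs b a k)⁻¹ (sr a) := by
  refine nonneg_of_lt cs h _ a ?_
  rw [cs.length_inv, ← cs.length_inv (_ * cs.simple a), mul_inv_rev, inv_inv, cs.inv_simple, ← ua_succ,
    length_ua cs h hab hk, length_ua cs h hab.symm (by rw [M.symmetric]; omega)]
  omega

/-- the step upwards -/
theorem el_gu {a b : I} (hab : a ≠ b) {k : ℕ} (hk : k + 1 ≤ M a b) {l' l'' : T →* ℂˣ}
    (hm : Mv cs R.nsys (cs.simple a) l' l'') {v : V} (hv : v ∈ VU cs h X ρ) :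
    el ρ (RGD.B cs h T X) (lamB R l'') (ρ (gu n a b (k + 1)) v) =
      el ρ (RGD.B cs h T X) (lamB R l'') (ρ (n a) (el ρ (RGD.B cs h T X) (lamB R l') (ρ (gu n b a k) v))) := by
  rw [el_n R hm (rho_fx_X R (rp_gu R b a k) (isRoot_sr cs h a) (pos_ua R hab hk) hv), gu_succ, map_mul,
    Module.End.mul_apply]

/-- the step downwards -/
theorem el_gu_inv {a b : I} (hab : a ≠ b) {k : ℕ} (hk : k + 1 ≤ M a b) {l l' l'' : T →* ℂˣ}
    (hm : Mv cs R.nsys (cs.simple a) l' l) {v : V} (hv : v ∈ Vl cs h T X ρ l) :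
    el ρ (RGD.B cs h T X) (lamB R l'') (ρ (gu n a b (k + 1))⁻¹ v) =
      el ρ (RGD.B cs h T X) (lamB R l'') (ρ (gu n b a k)⁻¹ (el ρ (RGD.B cs h T X) (lamB R l') (ρ (n a)⁻¹ v))) := by
  rw [el_mul_inv R (rp_gu R b a k) (pos_ua R hab hk) hm hv, gu_succ]

omit R in
theorem el_mem_Vl (R : RGD cs h p T n X) (l : T →* ℂˣ) (v : V) : el ρ (RGD.B cs h T X) (lamB R l) v ∈ Vl cs h T X ρ l := by
  rw [Vl_eq R]
  exact el_mem _ _ _ _

theorem el_of_Vl {l : T →* ℂˣ} {v : V} (hv : v ∈ Vl cs h T X ρ l) : el ρ (RGD.B cs h T X) (lamB R l) v = v := by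
  rw [Vl_eq R] at hv
  exact el_of_mem hv

/-- `p_{l''} n_i v = l(n_i²) p_{l''} n_i⁻¹ v` -/
theorem el_n_eq_inv {i : I} {l l'' : T →* ℂˣ} {v : V} (hv : v ∈ Vl cs h T X ρ l) :
    el ρ (RGD.B cs h T X) (lamB R l'') (ρ (n i) v) = (l ⟨n i * n i, R.sq_mem_T i⟩ : ℂ) •
      el ρ (RGD.B cs h T X) (lamB R l'') (ρ (n i)⁻¹ v) := by
  have h1 : ρ (n i * n i) v = (l ⟨n i * n i, R.sq_mem_T i⟩ : ℂ) • v := hv.2 ⟨n i * n i, R.sq_mem_T i⟩
  have h2 : ρ (n i) v = ρ (n i)⁻¹ (ρ (n i * n i) v) := by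
    rw [← Module.End.mul_apply, ← map_mul]
    congr 2
    group
  rw [h2, h1, map_smul, map_smul]

/-- `p_l n_i⁻¹ v = l(n_i²)⁻¹ p_l n_i v` -/
theorem el_inv_eq {i : I} {l l'' : T →* ℂˣ} {v : V} (hv : v ∈ Vl cs h T X ρ l) :
    el ρ (RGD.B cs h T X) (lamB R l'') (ρ (n i)⁻¹ v) = ((l ⟨n i * n i, R.sq_mem_T i⟩)⁻¹ : ℂˣ).val •
      el ρ (RGD.B cs h T X) (lamB R l'') (ρ (n i) v) := by
  rw [el_n_eq_inv R hv, smul_smul, Units.inv_mul, one_smul]

/-- the number of elements of an alternating cell -/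
theorem card_ua {a b : I} (hab : a ≠ b) (k : ℕ) (hk : k + 1 ≤ M a b) :
    Nat.card {g : Y // Cell R.nsys cs h X (ua cs a b (k + 1)) g} =
      qq X a * Nat.card {g : Y // Cell R.nsys cs h X (ua cs b a k) g} := by
  rw [ua_succ]
  refine card_cell_simple R ?_
  rw [← ua_succ, length_ua cs h hab hk, length_ua cs h hab.symm (by rw [M.symmetric]; omega)]
  omega

section quad

variable {a b : I} {l₀ l₁ l₂ : T →* ℂˣ}

/-- the operator of the reflection `s_b s_a s_b s_a s_b` on `V_{l₀}` -/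
noncomputable def Cq (ρ : Representation ℂ Y V) (a b : I) (l₀ l₁ l₂ : T →* ℂˣ) (v : V) : V :=
  el ρ (RGD.B cs h T X) (lamB R l₀) (ρ (n b) (el ρ (RGD.B cs h T X) (lamB R l₁) (ρ (n a)
    (el ρ (RGD.B cs h T X) (lamB R l₂) (ρ (n b) (el ρ (RGD.B cs h T X) (lamB R l₂) (ρ (n a)
      (el ρ (RGD.B cs h T X) (lamB R l₁) (ρ (n b) v)))))))))

/-- the operator of the inverse -/
noncomputable def Cq' (ρ : Representation ℂ Y V) (a b : I) (l₀ l₁ l₂ : T →* ℂˣ) (v : V) : V :=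
  el ρ (RGD.B cs h T X) (lamB R l₀) (ρ (n b)⁻¹ (el ρ (RGD.B cs h T X) (lamB R l₁) (ρ (n a)⁻¹
    (el ρ (RGD.B cs h T X) (lamB R l₂) (ρ (n b)⁻¹ (el ρ (RGD.B cs h T X) (lamB R l₂) (ρ (n a)⁻¹
      (el ρ (RGD.B cs h T X) (lamB R l₁) (ρ (n b)⁻¹ v)))))))))

theorem cq_eq (hab : a ≠ b) (hm : M a b = 6) (h01 : Mv cs R.nsys (cs.simple b) l₀ l₁)
    (h12 : Mv cs R.nsys (cs.simple a) l₁ l₂) (h22 : Mv cs R.nsys (cs.simple b) l₂ l₂)
    {v : V} (hv : v ∈ VU cs h X ρ) :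
    Cq R ρ a b l₀ l₁ l₂ v = el ρ (RGD.B cs h T X) (lamB R l₀) (ρ (gu n b a 5) v) := by
  have hm' : M b a = 6 := by rw [M.symmetric, hm]
  have h10 : Mv cs R.nsys (cs.simple b) l₁ l₀ := by simpa only [cs.inv_simple] using h01.inv
  have h21 : Mv cs R.nsys (cs.simple a) l₂ l₁ := by simpa only [cs.inv_simple] using h12.inv
  unfold Cq
  rw [el_gu R hab.symm (k := 4) (by omega) h10 hv, el_gu R hab (k := 3) (by omega) h21 hv,
    el_gu R hab.symm (k := 2) (by omega) h22 hv, el_gu R hab (k := 1) (by omega) h12 hv]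
  rw [show gu n b a 1 = n b by rw [gu_succ]; exact mul_one _]

theorem cq_inv_eq (hab : a ≠ b) (hm : M a b = 6) (h01 : Mv cs R.nsys (cs.simple b) l₀ l₁)
    (h12 : Mv cs R.nsys (cs.simple a) l₁ l₂) (h22 : Mv cs R.nsys (cs.simple b) l₂ l₂)
    {v : V} (hv : v ∈ Vl cs h T X ρ l₀) :
    Cq' R ρ a b l₀ l₁ l₂ v = el ρ (RGD.B cs h T X) (lamB R l₀) (ρ (gu n b a 5)⁻¹ v) := by
  have hm' : M b a = 6 := by rw [M.symmetric, hm]
  have h10 : Mv cs R.nsys (cs.simple b) l₁ l₀ := by simpa only [cs.inv_simple] using h01.inv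
  have h21 : Mv cs R.nsys (cs.simple a) l₂ l₁ := by simpa only [cs.inv_simple] using h12.inv
  unfold Cq'
  rw [el_gu_inv R hab.symm (k := 4) (by omega) h10 hv, el_gu_inv R hab (k := 3) (by omega) h21 (el_mem_Vl R _ _),
    el_gu_inv R hab.symm (k := 2) (by omega) h22 (el_mem_Vl R _ _),
    el_gu_inv R hab (k := 1) (by omega) h12 (el_mem_Vl R _ _)]
  rw [show gu n b a 1 = n b by rw [gu_succ]; exact mul_one _]

/-- `C' C v = x_b² l₂(n_b²)⁻¹ (q_a q_b)⁻² v` -/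
theorem cq_cq (h01 : Mv cs R.nsys (cs.simple b) l₀ l₁)
    (h12 : Mv cs R.nsys (cs.simple a) l₁ l₂) (hn0 : l₀ ≠ l₁) (hn1 : l₁ ≠ l₂)
    {v : V} (hv : v ∈ Vl cs h T X ρ l₀) {x : ℂ}
    (hx : el ρ (RGD.B cs h T X) (lamB R l₂) (ρ (n b) (el ρ (RGD.B cs h T X) (lamB R l₂) (ρ (n a)
      (el ρ (RGD.B cs h T X) (lamB R l₁) (ρ (n b) v))))) = x • el ρ (RGD.B cs h T X) (lamB R l₂) (ρ (n a)
      (el ρ (RGD.B cs h T X) (lamB R l₁) (ρ (n b) v)))) :
    Cq' R ρ a b l₀ l₁ l₂ (Cq R ρ a b l₀ l₁ l₂ v) =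
      (x ^ 2 * ((l₂ ⟨n b * n b, R.sq_mem_T b⟩)⁻¹ : ℂˣ).val * ((qq X a : ℂ)⁻¹ * (qq X b : ℂ)⁻¹) ^ 2) • v := by
  have h10 : Mv cs R.nsys (cs.simple b) l₁ l₀ := by simpa only [cs.inv_simple] using h01.inv
  have h21 : Mv cs R.nsys (cs.simple a) l₂ l₁ := by simpa only [cs.inv_simple] using h12.inv
  unfold Cq Cq'
  rw [hx]
  have h2 : el ρ (RGD.B cs h T X) (lamB R l₂) (ρ (n a) (el ρ (RGD.B cs h T X) (lamB R l₁) (ρ (n b) v))) ∈
      Vl cs h T X ρ l₂ := el_mem_Vl R _ _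
  rw [el_n_inv R h10 hn0.symm (el_mem_Vl R _ _)]
  simp only [map_smul]
  rw [el_n_inv R h21 hn1.symm h2]
  simp only [map_smul]
  rw [el_inv_eq R h2, hx]
  simp only [map_smul]
  rw [el_n_inv R h12 hn1 (el_mem_Vl R _ _)]
  simp only [map_smul]
  rw [el_n_inv R h01 hn0 hv]
  simp only [smul_smul]
  congr 1
  ring

theorem cq_T (hab : a ≠ b) (hm : M a b = 6) (h01 : Mv cs R.nsys (cs.simple b) l₀ l₁)
    (h12 : Mv cs R.nsys (cs.simple a) l₁ l₂) (h22 : Mv cs R.nsys (cs.simple b) l₂ l₂)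
    {v : V} (hv : v ∈ VU cs h X ρ) :
    Cq R ρ a b l₀ l₁ l₂ (el ρ (RGD.B cs h T X) (lamB R l₀) (ρ (n a) v)) =
      el ρ (RGD.B cs h T X) (lamB R l₀) (ρ (gu n b a 6) v) := by
  have hm' : M b a = 6 := by rw [M.symmetric, hm]
  have h10 : Mv cs R.nsys (cs.simple b) l₁ l₀ := by simpa only [cs.inv_simple] using h01.inv
  have h21 : Mv cs R.nsys (cs.simple a) l₂ l₁ := by simpa only [cs.inv_simple] using h12.inv
  unfold Cq
  rw [el_gu R hab.symm (k := 5) (by omega) h10 hv, el_gu R hab (k := 4) (by omega) h21 hv,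
    el_gu R hab.symm (k := 3) (by omega) h22 hv, el_gu R hab (k := 2) (by omega) h12 hv,
    el_gu R hab.symm (k := 1) (by omega) h01 hv]
  rw [show gu n a b 1 = n a by rw [gu_succ]; exact mul_one _]

theorem T_cq (hab : a ≠ b) (hm : M a b = 6) (h00 : Mv cs R.nsys (cs.simple a) l₀ l₀)
    (h01 : Mv cs R.nsys (cs.simple b) l₀ l₁)
    (h12 : Mv cs R.nsys (cs.simple a) l₁ l₂) (h22 : Mv cs R.nsys (cs.simple b) l₂ l₂)
    {v : V} (hv : v ∈ VU cs h X ρ) :
    el ρ (RGD.B cs h T X) (lamB R l₀) (ρ (n a) (Cq R ρ a b l₀ l₁ l₂ v)) =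
      el ρ (RGD.B cs h T X) (lamB R l₀) (ρ (gu n a b 6) v) := by
  rw [cq_eq R hab hm h01 h12 h22 hv, el_gu R hab (k := 5) (by omega) h00 hv]

/-- `C T_a = l₀(τ) T_a C` -/
theorem cq_comm (hab : a ≠ b) (hm : M a b = 6) (h00 : Mv cs R.nsys (cs.simple a) l₀ l₀)
    (h01 : Mv cs R.nsys (cs.simple b) l₀ l₁)
    (h12 : Mv cs R.nsys (cs.simple a) l₁ l₂) (h22 : Mv cs R.nsys (cs.simple b) l₂ l₂) :
    ∃ τ : T, ∀ v ∈ Vl cs h T X ρ l₀,
      Cq R ρ a b l₀ l₁ l₂ (el ρ (RGD.B cs h T X) (lamB R l₀) (ρ (n a) v)) =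
        (l₀ τ : ℂ) • el ρ (RGD.B cs h T X) (lamB R l₀) (ρ (n a) (Cq R ρ a b l₀ l₁ l₂ v)) := by
  have h1 : Rp cs R.nsys (ua cs a b 6) (gu n b a 6) := by
    have h2 := ua_M cs a b
    rw [hm] at h2
    rw [h2]
    exact rp_gu R b a 6
  refine ⟨⟨_, (rp_gu R a b 6).unique h1⟩, fun v hv => ?_⟩
  rw [cq_T R hab hm h01 h12 h22 hv.1, T_cq R hab hm h00 h01 h12 h22 hv.1]
  have h2 := hv.2 ⟨_, (rp_gu R a b 6).unique h1⟩
  have h3 : ρ (gu n b a 6) v = ρ (gu n a b 6) (ρ ((gu n a b 6)⁻¹ * gu n b a 6) v) := by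
    rw [← Module.End.mul_apply, ← map_mul]
    congr 2
    group
  rw [h3]
  change _ = (l₀ ⟨(gu n a b 6)⁻¹ * gu n b a 6, (rp_gu R a b 6).unique h1⟩ : ℂ) • _
  rw [← map_smul, ← map_smul, ← h2]

/-- `θ' θ v = d₀ v` -/
theorem theta_theta (h01 : Mv cs R.nsys (cs.simple b) l₀ l₁)
    (h12 : Mv cs R.nsys (cs.simple a) l₁ l₂) (hn0 : l₀ ≠ l₁) (hn1 : l₁ ≠ l₂)
    {v : V} (hv : v ∈ Vl cs h T X ρ l₀) :
    el ρ (RGD.B cs h T X) (lamB R l₀) (ρ (n b) (el ρ (RGD.B cs h T X) (lamB R l₁) (ρ (n a)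
      (el ρ (RGD.B cs h T X) (lamB R l₂) (ρ (n a) (el ρ (RGD.B cs h T X) (lamB R l₁) (ρ (n b) v))))))) =
    ((l₂ ⟨n a * n a, R.sq_mem_T a⟩ : ℂ) * (qq X a : ℂ)⁻¹ * ((l₁ ⟨n b * n b, R.sq_mem_T b⟩ : ℂ) * (qq X b : ℂ)⁻¹)) • v := by
  rw [el_n_eq_inv R (l := l₂) (l'' := l₁) (el_mem_Vl R _ _), el_n_inv R h12 hn1 (el_mem_Vl R _ _)]
  simp only [map_smul]
  rw [el_n_eq_inv R (l := l₁) (l'' := l₀) (el_mem_Vl R _ _), el_n_inv R h01 hn0 hv]
  simp only [smul_smul]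
  congr 1
  ring

/-- `T_b θ v = (z / d₀) θ v` if `C v = z v` -/
theorem tb_eq (h01 : Mv cs R.nsys (cs.simple b) l₀ l₁)
    (h12 : Mv cs R.nsys (cs.simple a) l₁ l₂) (hn0 : l₀ ≠ l₁) (hn1 : l₁ ≠ l₂)
    {v : V} (hv : v ∈ Vl cs h T X ρ l₀) {z : ℂ} (hz : Cq R ρ a b l₀ l₁ l₂ v = z • v) :
    ∃ d₀ : ℂ, d₀ ≠ 0 ∧
    el ρ (RGD.B cs h T X) (lamB R l₂) (ρ (n b) (el ρ (RGD.B cs h T X) (lamB R l₂) (ρ (n a)
      (el ρ (RGD.B cs h T X) (lamB R l₁) (ρ (n b) v))))) = (z / d₀) • el ρ (RGD.B cs h T X) (lamB R l₂) (ρ (n a)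
      (el ρ (RGD.B cs h T X) (lamB R l₁) (ρ (n b) v))) := by
  have h10 : Mv cs R.nsys (cs.simple b) l₁ l₀ := by simpa only [cs.inv_simple] using h01.inv
  have h21 : Mv cs R.nsys (cs.simple a) l₂ l₁ := by simpa only [cs.inv_simple] using h12.inv
  have h1 := theta_theta (ρ := ρ) R h01 h12 hn0 hn1 hv
  obtain ⟨d₀, hd⟩ : ∃ d₀ : ℂ, d₀ = (l₂ ⟨n a * n a, R.sq_mem_T a⟩ : ℂ) * (qq X a : ℂ)⁻¹ *
    ((l₁ ⟨n b * n b, R.sq_mem_T b⟩ : ℂ) * (qq X b : ℂ)⁻¹) := ⟨_, rfl⟩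
  have hd0 : d₀ ≠ 0 := by
    rw [hd]
    exact mul_ne_zero (mul_ne_zero (Units.ne_zero _) (inv_ne_zero (qq_pos R a)))
      (mul_ne_zero (Units.ne_zero _) (inv_ne_zero (qq_pos R b)))
  rw [← hd] at h1
  refine ⟨d₀, hd0, ?_⟩
  obtain ⟨u, hu⟩ : ∃ u, u = el ρ (RGD.B cs h T X) (lamB R l₂) (ρ (n a)
      (el ρ (RGD.B cs h T X) (lamB R l₁) (ρ (n b) v))) := ⟨_, rfl⟩
  unfold Cq at hz
  rw [← hu] at h1 hz ⊢
  have huV : u ∈ Vl cs h T X ρ l₂ := by rw [hu]; exact el_mem_Vl R _ _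
  by_contra hne
  have hw : el ρ (RGD.B cs h T X) (lamB R l₂) (ρ (n b) u) - (z / d₀) • u ≠ 0 := sub_ne_zero.2 hne
  have hwV : el ρ (RGD.B cs h T X) (lamB R l₂) (ρ (n b) u) - (z / d₀) • u ∈ Vl cs h T X ρ l₂ :=
    Submodule.sub_mem _ (el_mem_Vl R _ _) (Submodule.smul_mem _ _ huV)
  refine el_n_ne R h10 hn0.symm (el_mem_Vl R _ _) (el_n_ne R h21 hn1.symm hwV hw) ?_
  simp only [map_sub, map_smul]
  rw [hz, h1, smul_smul, div_mul_cancel₀ _ hd0, sub_self]

/-- the elements of `W` fixing `l₀` -/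
theorem mv_cases (hI : ∀ i, i = a ∨ i = b) (hm : M a b = 6) (h00 : Mv cs R.nsys (cs.simple a) l₀ l₀)
    (h01 : Mv cs R.nsys (cs.simple b) l₀ l₁)
    (h12 : Mv cs R.nsys (cs.simple a) l₁ l₂) (h22 : Mv cs R.nsys (cs.simple b) l₂ l₂) (hn0 : l₀ ≠ l₁)
    {w : W} (hw : Mv cs R.nsys w l₀ l₀) : w = 1 ∨ w = ua cs a b 1 ∨ w = ua cs b a 5 ∨ w = ua cs a b 6 := by
  have h10 : Mv cs R.nsys (cs.simple b) l₁ l₀ := by simpa only [cs.inv_simple] using h01.inv
  have h21 : Mv cs R.nsys (cs.simple a) l₂ l₁ := by simpa only [cs.inv_simple] using h12.inv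
  have hn2 : l₀ ≠ l₂ := by
    rintro rfl
    exact hn0 (h22.unique h01)
  have hs : ∀ (a b : I) (k : ℕ) (l' l'' : T →* ℂˣ), Mv cs R.nsys (ua cs b a k) l₀ l' → Mv cs R.nsys (cs.simple a) l' l'' →
      Mv cs R.nsys (ua cs a b (k + 1)) l₀ l'' := fun a b k l' l'' h1 h2 => h1.mul h2
  have A0 : Mv cs R.nsys (ua cs a b 0) l₀ l₀ := mv_one l₀
  have B0 : Mv cs R.nsys (ua cs b a 0) l₀ l₀ := mv_one l₀
  have A1 := hs a b 0 _ _ B0 h00
  have B1 := hs b a 0 _ _ A0 h01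
  have A2 := hs a b 1 _ _ B1 h12
  have B2 := hs b a 1 _ _ A1 h01
  have A3 := hs a b 2 _ _ B2 h12
  have B3 := hs b a 2 _ _ A2 h22
  have A4 := hs a b 3 _ _ B3 h21
  have B4 := hs b a 3 _ _ A3 h22
  have A5 := hs a b 4 _ _ B4 h21
  obtain ⟨k, hk, rfl | rfl⟩ := ua_all cs hI (by omega) hm w
  · interval_cases k
    · exact Or.inl rfl
    · exact Or.inr (Or.inl rfl)
    · exact absurd (hw.unique A2) hn2
    · exact absurd (hw.unique A3) hn2
    · exact absurd (hw.unique A4) hn0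
    · exact absurd (hw.unique A5) hn0
    · exact Or.inr (Or.inr (Or.inr rfl))
  · interval_cases k
    · exact Or.inl rfl
    · exact absurd (hw.unique B1) hn0
    · exact absurd (hw.unique B2) hn0
    · exact absurd (hw.unique B3) hn2
    · exact absurd (hw.unique B4) hn2
    · exact Or.inr (Or.inr (Or.inl rfl))
    · refine Or.inr (Or.inr (Or.inr ?_))
      have h2 := ua_M cs a b
      rw [hm] at h2
      exact h2.symm

/-- a common eigenvector of `T_a` and `C` -/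
theorem exists_common [FiniteDimensional ℂ V] (hab : a ≠ b) (hm : M a b = 6)
    (h00 : Mv cs R.nsys (cs.simple a) l₀ l₀) (h01 : Mv cs R.nsys (cs.simple b) l₀ l₁)
    (h12 : Mv cs R.nsys (cs.simple a) l₁ l₂) (h22 : Mv cs R.nsys (cs.simple b) l₂ l₂) (hn0 : l₀ ≠ l₁) (hn1 : l₁ ≠ l₂)
    (hna : n a ∈ Li X a) (hta : Triv X l₀ a) (hq : 1 < qq X a) (hl : Vl cs h T X ρ l₀ ≠ ⊥) :
    ∃ v ∈ Vl cs h T X ρ l₀, v ≠ 0 ∧ (∃ x : ℂ, el ρ (RGD.B cs h T X) (lamB R l₀) (ρ (n a) v) = x • v) ∧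
      ∃ z : ℂ, z ≠ 0 ∧ Cq R ρ a b l₀ l₁ l₂ v = z • v := by
  have h10 : Mv cs R.nsys (cs.simple b) l₁ l₀ := by simpa only [cs.inv_simple] using h01.inv
  have h21 : Mv cs R.nsys (cs.simple a) l₂ l₁ := by simpa only [cs.inv_simple] using h12.inv
  obtain ⟨τ, hτ⟩ := cq_comm (ρ := ρ) R hab hm h00 h01 h12 h22
  have hα := Al_triv R h00 hna hta
  have hβ := Be_eq R h00
  rw [l_sq_triv R hna hta, Units.val_one] at hβ
  have hq1 : (1 : ℝ) < qq X a := by exact_mod_cast hq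
  have hq0 : (qq X a : ℂ) ≠ 0 := qq_pos R a
  -- the roots
  have hroot : ∀ x : ℂ, ∀ v ∈ Vl cs h T X ρ l₀, v ≠ 0 → Tq R ρ a l₀ v = x • v → x = 1 ∨ x = -(qq X a : ℂ)⁻¹ := by
    intro x v hv hv0 hx
    have h2 := Tq_sq R h00 hv
    rw [hx, map_smul, hx, smul_smul, smul_smul, ← add_smul] at h2
    have h3 : (x * x - (Al R a l₀ * x + Be R a l₀)) • v = 0 := by rw [sub_smul, h2, sub_self]
    rcases smul_eq_zero.1 h3 with h4 | h4
    · rw [hα, hβ] at h4
      have h5 : (x - 1) * (x + (qq X a : ℂ)⁻¹) = 0 := by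
        rw [← h4]
        ring
      rcases mul_eq_zero.1 h5 with h6 | h6
      · exact Or.inl (sub_eq_zero.1 h6)
      · exact Or.inr (eq_neg_of_add_eq_zero_left h6)
    · exact absurd h4 hv0
  -- an eigenvalue
  obtain ⟨x, v, hvE, hv0⟩ : ∃ x : ℂ, ∃ v ∈ KK (Vl cs h T X ρ l₀) (Tq R ρ a l₀) x, v ≠ 0 := by
    obtain ⟨v, hv, hv0⟩ := Submodule.exists_mem_ne_zero_of_ne_bot hl
    have h2 := Tq_sq R h00 hv
    by_cases hw : Tq R ρ a l₀ v + (qq X a : ℂ)⁻¹ • v = 0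
    · refine ⟨-(qq X a : ℂ)⁻¹, v, mem_KK.2 ⟨hv, ?_⟩, hv0⟩
      rw [neg_smul]
      exact eq_neg_of_add_eq_zero_left hw
    · refine ⟨1, Tq R ρ a l₀ v + (qq X a : ℂ)⁻¹ • v, mem_KK.2 ⟨Submodule.add_mem _ (Tq_mem R a l₀ v)
        (Submodule.smul_mem _ _ hv), ?_⟩, hw⟩
      rw [map_add, map_smul, h2, hα, hβ]
      module
  -- the linear map `C`
  let CL : Module.End ℂ V := el ρ (RGD.B cs h T X) (lamB R l₀) * (ρ (n b) * (el ρ (RGD.B cs h T X) (lamB R l₁) *
    (ρ (n a) * (el ρ (RGD.B cs h T X) (lamB R l₂) * (ρ (n b) * (el ρ (RGD.B cs h T X) (lamB R l₂) * (ρ (n a) *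
      (el ρ (RGD.B cs h T X) (lamB R l₁) * ρ (n b)))))))))
  have hCL : ∀ v, CL v = Cq R ρ a b l₀ l₁ l₂ v := fun v => rfl
  have hCmem : ∀ v, CL v ∈ Vl cs h T X ρ l₀ := fun v => el_mem_Vl R _ _
  have hC0 : ∀ v ∈ Vl cs h T X ρ l₀, v ≠ 0 → CL v ≠ 0 := by
    intro v hv hv0 hc
    rw [hCL, ← zero_smul ℂ v] at hc
    obtain ⟨d₀, -, h3⟩ := tb_eq R h01 h12 hn0 hn1 hv hc
    rw [zero_div, zero_smul] at h3
    have h4 := el_n_ne R h12 hn1 (el_mem_Vl R _ _) (el_n_ne R h01 hn0 hv hv0)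
    have h5 := Tq_sq R h22 (el_mem_Vl (ρ := ρ) R l₂ (ρ (n a) (el ρ (RGD.B cs h T X) (lamB R l₁) (ρ (n b) v))))
    rw [Tq_apply R (el_mem_Vl R _ _), h3, map_zero, smul_zero, zero_add] at h5
    rcases smul_eq_zero.1 h5.symm with h6 | h6
    · exact Be_ne R h22 h6
    · exact h4 h6
  have hnorm : ‖(l₀ τ : ℂ)‖ = 1 := by
    have h1 : (l₀ τ : ℂ) ^ Nat.card T = 1 := by
      rw [← Units.val_pow_eq_pow_val, ← map_pow, pow_card_eq_one', map_one, Units.val_one]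
    exact Complex.norm_eq_one_of_pow_eq_one h1 Nat.card_pos.ne'
  have hst : ∀ v ∈ KK (Vl cs h T X ρ l₀) (Tq R ρ a l₀) x, CL v ∈ KK (Vl cs h T X ρ l₀) (Tq R ρ a l₀) x := by
    intro v hv
    by_cases hv0 : v = 0
    · rw [hv0, map_zero]
      exact Submodule.zero_mem _
    rw [mem_KK] at hv ⊢
    refine ⟨hCmem v, ?_⟩
    have h1 := hτ v hv.1
    rw [← Tq_apply R hv.1, hv.2, ← hCL, map_smul, ← hCL, ← Tq_apply R (hCmem v)] at h1
    have h2 : Tq R ρ a l₀ (CL v) = (x * ((l₀ τ : ℂ))⁻¹) • CL v := by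
      rw [mul_comm, mul_smul, h1, smul_smul, inv_mul_cancel₀ (Units.ne_zero _), one_smul]
    have h3 := hroot _ _ (hCmem v) (hC0 v hv.1 hv0) h2
    have h4 := hroot _ _ hv.1 hv0 hv.2
    have h5 : ‖x * ((l₀ τ : ℂ))⁻¹‖ = ‖x‖ := by rw [norm_mul, norm_inv, hnorm, inv_one, mul_one]
    have h6 : ‖-(qq X a : ℂ)⁻¹‖ < 1 := by
      rw [norm_neg, norm_inv, Complex.norm_natCast]
      exact inv_lt_one_of_one_lt₀ hq1
    have h7 : x * ((l₀ τ : ℂ))⁻¹ = x := by
      rcases h3 with h3 | h3 <;> rcases h4 with h4 | h4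
      · rw [h3, h4]
      · rw [h3, h4, norm_one] at h5
        rw [← h5] at h6
        exact absurd h6 (lt_irrefl _)
      · rw [h3, h4, norm_one] at h5
        rw [h5] at h6
        exact absurd h6 (lt_irrefl _)
      · rw [h3, h4]
    rw [h2, h7]
  -- the eigenvector
  let E := KK (Vl cs h T X ρ l₀) (Tq R ρ a l₀) x
  have hnt : Nontrivial E := ⟨⟨⟨v, hvE⟩, 0, fun h1 => hv0 (congrArg Subtype.val h1)⟩⟩
  obtain ⟨z, hz⟩ := Module.End.exists_eigenvalue (CL.restrict hst)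
  obtain ⟨⟨u, huE⟩, hu⟩ := hz.exists_hasEigenvector
  have h1 : CL u = z • u := congrArg Subtype.val hu.apply_eq_smul
  have hu0 : u ≠ 0 := fun h2 => hu.2 (Subtype.ext h2)
  have huE' := mem_KK.1 huE
  refine ⟨u, huE'.1, hu0, ⟨x, ?_⟩, z, ?_, h1⟩
  · rw [← Tq_apply R huE'.1, huE'.2]
  · rintro rfl
    rw [zero_smul] at h1
    exact hC0 u huE'.1 hu0 h1

/-- **The quadratic case of `G₂`.** -/
theorem g2_quad [FiniteDimensional ℂ V] (hG : GG cs h T X = ⊤) (hρ : ρ.IsIrreducible) (hab : a ≠ b)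
    (hI : ∀ i, i = a ∨ i = b) (hm : M a b = 6)
    (h00 : Mv cs R.nsys (cs.simple a) l₀ l₀) (h01 : Mv cs R.nsys (cs.simple b) l₀ l₁)
    (h12 : Mv cs R.nsys (cs.simple a) l₁ l₂) (h22 : Mv cs R.nsys (cs.simple b) l₂ l₂) (hn0 : l₀ ≠ l₁) (hn1 : l₁ ≠ l₂)
    (hna : n a ∈ Li X a) (hta : Triv X l₀ a) (hnb : n b ∈ Li X b) (htb : Triv X l₂ b) (hq : 1 < qq X a)
    (hl : Vl cs h T X ρ l₀ ≠ ⊥) :
    ∃ y z : ℂ, (y = qq X a ∨ y = (qq X a : ℂ)⁻¹) ∧ (z = qq X b ∨ z = (qq X b : ℂ)⁻¹) ∧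
      ρ.character 1 * ((1 + y) * (1 + z)) =
        (1 + qq X a : ℂ) * (1 + qq X b) * ∑ i ∈ Finset.range 3, ((qq X a : ℂ) * qq X b) ^ i := by
  classical
  let _ : Fintype W := Fintype.ofFinite W
  have hm' : M b a = 6 := by rw [M.symmetric, hm]
  obtain ⟨v, hv, hv0, ⟨x, hx⟩, z, hz0, hz⟩ := exists_common (ρ := ρ) R hab hm h00 h01 h12 h22 hn0 hn1 hna hta hq hl
  -- the root of `T_a`
  have hroot : ∀ {i : I} {l : T →* ℂˣ} {x : ℂ} {v : V}, Mv cs R.nsys (cs.simple i) l l → v ∈ Vl cs h T X ρ l → v ≠ 0 →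
      el ρ (RGD.B cs h T X) (lamB R l) (ρ (n i) v) = x • v → x ^ 2 = Al R i l * x + Be R i l := by
    intro i l x v hm hv hv0 hx
    rw [← Tq_apply R hv] at hx
    have h2 := Tq_sq R hm hv
    rw [hx, map_smul, hx, smul_smul, smul_smul, ← add_smul] at h2
    have h3 : (x * x - (Al R i l * x + Be R i l)) • v = 0 := by rw [sub_smul, h2, sub_self]
    rcases smul_eq_zero.1 h3 with h4 | h4
    · linear_combination h4
    · exact absurd h4 hv0
  obtain ⟨d₀, hd0, htb'⟩ := tb_eq R h01 h12 hn0 hn1 hv hz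
  have hu0 := el_n_ne R h12 hn1 (el_mem_Vl R _ _) (el_n_ne R h01 hn0 hv hv0)
  have hya := yy_of_root R h00 (hroot h00 hv hv0 hx)
  have hyb := yy_of_root R h22 (hroot h22 (el_mem_Vl R _ _) hu0 htb')
  refine ⟨_, _, hya.triv hna hta, hyb.triv hnb htb, ?_⟩
  obtain ⟨xb, hxb⟩ : ∃ xb, xb = z / d₀ := ⟨_, rfl⟩
  rw [← hxb] at htb' ⊢
  -- the inverses
  have hcc := cq_cq (ρ := ρ) R h01 h12 hn0 hn1 hv htb'
  obtain ⟨κ, hκ⟩ : ∃ κ : ℂ, κ = xb ^ 2 * ((l₂ ⟨n b * n b, R.sq_mem_T b⟩)⁻¹ : ℂˣ).val *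
    ((qq X a : ℂ)⁻¹ * (qq X b : ℂ)⁻¹) ^ 2 := ⟨_, rfl⟩
  rw [← hκ, hz] at hcc
  have hC' : Cq' R ρ a b l₀ l₁ l₂ v = (κ / z) • v := by
    have h1 : Cq' R ρ a b l₀ l₁ l₂ (z • v) = z • Cq' R ρ a b l₀ l₁ l₂ v := by
      unfold Cq'
      simp only [map_smul]
    rw [h1] at hcc
    rw [div_eq_inv_mul, mul_smul, ← hcc, smul_smul, inv_mul_cancel₀ hz0, one_smul]
  obtain ⟨e, he⟩ : ∃ e : ℂ, e = ((l₀ ⟨n a * n a, R.sq_mem_T a⟩)⁻¹ : ℂˣ).val := ⟨_, rfl⟩
  have hx' : el ρ (RGD.B cs h T X) (lamB R l₀) (ρ (n a)⁻¹ v) = (e * x) • v := by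
    rw [el_inv_eq R hv, hx, smul_smul, he]
  rw [← he]
  -- distinct elements
  have L : ∀ k, k ≤ 6 → cs.length (ua cs a b k) = k := fun k hk => length_ua cs h hab (by omega)
  have L' : ∀ k, k ≤ 6 → cs.length (ua cs b a k) = k := fun k hk => length_ua cs h hab.symm (by omega)
  have n01 : (1 : W) ≠ ua cs a b 1 := fun e => by
    have := congrArg cs.length e
    rw [cs.length_one, L 1 (by omega)] at this
    omega
  have n05 : (1 : W) ≠ ua cs b a 5 := fun e => by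
    have := congrArg cs.length e
    rw [cs.length_one, L' 5 (by omega)] at this
    omega
  have n06 : (1 : W) ≠ ua cs a b 6 := fun e => by
    have := congrArg cs.length e
    rw [cs.length_one, L 6 (by omega)] at this
    omega
  have n15 : ua cs a b 1 ≠ ua cs b a 5 := fun e => by
    have := congrArg cs.length e
    rw [L 1 (by omega), L' 5 (by omega)] at this
    omega
  have n16 : ua cs a b 1 ≠ ua cs a b 6 := fun e => by
    have := congrArg cs.length e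
    rw [L 1 (by omega), L 6 (by omega)] at this
    omega
  have n56 : ua cs b a 5 ≠ ua cs a b 6 := fun e => by
    have := congrArg cs.length e
    rw [L' 5 (by omega), L 6 (by omega)] at this
    omega
  let c : W → ℂ := fun w => if w = 1 then 1 else if w = ua cs a b 1 then x * (e * x) else
    if w = ua cs b a 5 then κ else if w = ua cs a b 6 then x * (e * x) * κ else 0
  have hc0 : c 1 = 1 := if_pos rfl
  have hc1 : c (ua cs a b 1) = x * (e * x) := by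
    change (if _ then _ else _) = _
    rw [if_neg n01.symm, if_pos rfl]
  have hc5 : c (ua cs b a 5) = κ := by
    change (if _ then _ else _) = _
    rw [if_neg n05.symm, if_neg n15.symm, if_pos rfl]
  have hc6 : c (ua cs a b 6) = x * (e * x) * κ := by
    change (if _ then _ else _) = _
    rw [if_neg n06.symm, if_neg n16.symm, if_neg n56.symm, if_pos rfl]
  have hcc0 : ∀ w, w ≠ 1 → w ≠ ua cs a b 1 → w ≠ ua cs b a 5 → w ≠ ua cs a b 6 → c w = 0 := by
    intro w h1 h2 h3 h4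
    change (if _ then _ else _) = _
    rw [if_neg h1, if_neg h2, if_neg h3, if_neg h4]
  have hg1 : gu n a b 1 = n a := by rw [gu_succ]; exact mul_one _
  have hall : ∀ w, ∃ g, Rp cs R.nsys w g ∧ ∃ a b : ℂ, el ρ (RGD.B cs h T X) (lamB R l₀) (ρ g v) = a • v ∧
      el ρ (RGD.B cs h T X) (lamB R l₀) (ρ g⁻¹ v) = b • v ∧ c w = a * b := by
    intro w
    by_cases w0 : w = 1
    · subst w0
      refine ⟨1, rp_one, 1, 1, ?_, ?_, by rw [hc0, mul_one]⟩
      · rw [map_one, Module.End.one_apply, el_of_Vl R hv, one_smul]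
      · rw [inv_one, map_one, Module.End.one_apply, el_of_Vl R hv, one_smul]
    by_cases w1 : w = ua cs a b 1
    · subst w1
      refine ⟨gu n a b 1, rp_gu R a b 1, x, e * x, ?_, ?_, hc1⟩
      · rw [hg1, hx]
      · rw [hg1, hx']
    by_cases w5 : w = ua cs b a 5
    · subst w5
      refine ⟨gu n b a 5, rp_gu R b a 5, z, κ / z, ?_, ?_, by rw [hc5, mul_div_cancel₀ _ hz0]⟩
      · rw [← cq_eq R hab hm h01 h12 h22 hv.1, hz]
      · rw [← cq_inv_eq R hab hm h01 h12 h22 hv, hC']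
    by_cases w6 : w = ua cs a b 6
    · subst w6
      refine ⟨gu n a b 6, rp_gu R a b 6, z * x, e * x * (κ / z), ?_, ?_, ?_⟩
      · rw [← T_cq R hab hm h00 h01 h12 h22 hv.1, hz, map_smul, map_smul, hx, smul_smul]
      · rw [el_gu_inv R hab (k := 5) (by omega) h00 hv, hx', map_smul, map_smul,
          ← cq_inv_eq R hab hm h01 h12 h22 hv, hC', smul_smul]
      · rw [hc6]
        field_simp
    · have hno : ¬ Mv cs R.nsys w l₀ l₀ := fun h1 => by
        rcases mv_cases R hI hm h00 h01 h12 h22 hn0 h1 with h2 | h2 | h2 | h2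
        · exact w0 h2
        · exact w1 h2
        · exact w5 h2
        · exact w6 h2
      obtain ⟨g, hg⟩ := exists_rp cs R.nsys w
      refine ⟨g, hg, 0, 0, ?_, ?_, by rw [hcc0 w w0 w1 w5 w6, mul_zero]⟩
      · rw [zero_smul, el_rho_eq_zero R hg hno hv]
      · rw [zero_smul, el_rho_eq_zero R hg.inv (fun h1 => hno (by simpa only [inv_inv] using h1.inv)) hv]
  have hE := span_of_all R hG hρ hv hv0 fun w => by
    obtain ⟨g, hg, a, -, h1, -⟩ := hall w
    exact ⟨g, hg, a, h1⟩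
  have hdeg := degree_gen R hG hρ hv0 hE hall
  -- the sum
  have hB0 : (Nat.card (RGD.B cs h T X) : ℂ) ≠ 0 := card_ne _
  have k1 : Nat.card {g : Y // Cell R.nsys cs h X (ua cs a b 1) g} = qq X a * Nat.card (RGD.B cs h T X) := by
    rw [card_ua R hab 0 (by omega)]
    exact congrArg _ (card_cell_one R)
  have k1' : Nat.card {g : Y // Cell R.nsys cs h X (ua cs b a 1) g} = qq X b * Nat.card (RGD.B cs h T X) := by
    rw [card_ua R hab.symm 0 (by omega)]
    exact congrArg _ (card_cell_one R)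
  have k5 : Nat.card {g : Y // Cell R.nsys cs h X (ua cs b a 5) g} =
      qq X b * (qq X a * (qq X b * (qq X a * (qq X b * Nat.card (RGD.B cs h T X))))) := by
    rw [card_ua R hab.symm 4 (by omega), card_ua R hab 3 (by omega), card_ua R hab.symm 2 (by omega),
      card_ua R hab 1 (by omega), k1']
  have k6 : Nat.card {g : Y // Cell R.nsys cs h X (ua cs a b 6) g} =
      qq X a * (qq X b * (qq X a * (qq X b * (qq X a * (qq X b * Nat.card (RGD.B cs h T X)))))) := by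
    rw [card_ua R hab 5 (by omega), k5]
  have hsum : ∑ w, (Nat.card {g : Y // Cell R.nsys cs h X w g} : ℂ) * c w =
      ∑ w ∈ ({1, ua cs a b 1, ua cs b a 5, ua cs a b 6} : Finset W),
        (Nat.card {g : Y // Cell R.nsys cs h X w g} : ℂ) * c w := by
    symm
    refine Finset.sum_subset (Finset.subset_univ _) fun w _ hw => ?_
    simp only [Finset.mem_insert, Finset.mem_singleton, not_or] at hw
    rw [hcc0 w hw.1 hw.2.1 hw.2.2.1 hw.2.2.2, mul_zero]
  rw [hsum, Finset.sum_insert (by simp only [Finset.mem_insert, Finset.mem_singleton, not_or]; exact ⟨n01, n05, n06⟩),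
    Finset.sum_insert (by simp only [Finset.mem_insert, Finset.mem_singleton, not_or]; exact ⟨n15, n16⟩),
    Finset.sum_insert (by simp only [Finset.mem_singleton]; exact n56), Finset.sum_singleton, hc0, hc1, hc5, hc6,
    card_cell_one R, k1, k5, k6, card_rank_two R hG hab hI (m := 3) (by rw [hm]) (by omega)] at hdeg
  refine mul_left_cancel₀ hB0 ?_
  rw [← hdeg, hκ]
  have ha0 := qq_pos (X := X) R a
  have hb0 := qq_pos (X := X) R b
  push_cast
  field_simp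
  ring

/-- the same with `q_a = q_b = q` -/
theorem g2_quad' [FiniteDimensional ℂ V] (hG : GG cs h T X = ⊤) (hρ : ρ.IsIrreducible) (hab : a ≠ b)
    (hI : ∀ i, i = a ∨ i = b) (hm : M a b = 6)
    (h00 : Mv cs R.nsys (cs.simple a) l₀ l₀) (h01 : Mv cs R.nsys (cs.simple b) l₀ l₁)
    (h12 : Mv cs R.nsys (cs.simple a) l₁ l₂) (h22 : Mv cs R.nsys (cs.simple b) l₂ l₂) (hn0 : l₀ ≠ l₁) (hn1 : l₁ ≠ l₂)
    (hna : n a ∈ Li X a) (hta : Triv X l₀ a) (hnb : n b ∈ Li X b) (htb : Triv X l₂ b) {q : ℕ} (hq : 1 < q)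
    (hqa : qq X a = q) (hqb : qq X b = q) (hl : Vl cs h T X ρ l₀ ≠ ⊥) :
    ∃ y z : ℂ, (y = q ∨ y = (q : ℂ)⁻¹) ∧ (z = q ∨ z = (q : ℂ)⁻¹) ∧
      ρ.character 1 * ((1 + y) * (1 + z)) = (1 + q : ℂ) ^ 2 * (1 + q ^ 2 + q ^ 4) := by
  obtain ⟨y, z, hy, hz, e⟩ := g2_quad R hG hρ hab hI hm h00 h01 h12 h22 hn0 hn1 hna hta hnb htb (by rw [hqa]; exact hq) hl
  rw [hqa] at hy
  rw [hqb] at hz
  refine ⟨y, z, hy, hz, ?_⟩
  rw [e, hqa, hqb, Finset.sum_range_succ, Finset.sum_range_succ, Finset.sum_range_one]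
  ring

end quad

end Cfsg.Agent.H985.VZ
end
end

-- part: H631/VZ/Supp
section
prune_inst 0x1000054454000200001800122200000072000002004300000060050609c804612043ae013870040800100cc420388048000000204020000000840600011901a0888000009108ad1110000f000009000000200800000000000000000000000000010000000
set_option linter.all false
open scoped Cfsg.Agent.FastGrp

-- part: H631/VZ/Abs
section
/-!
# S4842: equivariant idempotents of a subgroup (helper631)

* `exists_irr_proj` : an equivariant idempotent with nonzero trace at `t` contains one with irreducible image;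
* `trace_eq_zero` : the trace of `t` vanishes on an irreducible `M` if `p ρ(t^l) p = 0` on `M` for all `l`, where `p`
  is an idempotent which is nonzero on `M` (for instance if `M` is induced from a subgroup containing no conjugate of `t`).
-/

set_option autoImplicit false
set_option linter.unusedSectionVars false

open Cfsg

namespace Cfsg.Agent.H631.VZ

open Module Cfsg.Agent.H985.VZ

universe u v

variable {Y : Type u} [Group Y] {V : Type v} [AddCommGroup V] [Module ℂ V]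

/-- `N` is stable under `L` -/
def Stb (ρ : Representation ℂ Y V) (L : Subgroup Y) (N : Submodule ℂ V) : Prop := ∀ l ∈ L, ∀ v ∈ N, ρ l v ∈ N

/-- idempotents commuting with `L` -/
structure EI (ρ : Representation ℂ Y V) (L : Subgroup Y) (P : Module.End ℂ V) : Prop where
  idem : P * P = P
  comm : ∀ l ∈ L, P * ρ l = ρ l * P

/-- nonzero, stable and without proper stable subspace -/
structure Irr (ρ : Representation ℂ Y V) (L : Subgroup Y) (M : Submodule ℂ V) : Prop where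
  stb : Stb ρ L M
  ne : M ≠ ⊥
  min : ∀ N : Submodule ℂ V, N ≤ M → Stb ρ L N → N ≠ ⊥ → N = M

variable {ρ : Representation ℂ Y V} {L : Subgroup Y}

theorem rho_mul_inv (g : Y) : ρ g * ρ g⁻¹ = 1 := by rw [← map_mul, mul_inv_cancel, map_one]

theorem rho_inv_mul (g : Y) : ρ g⁻¹ * ρ g = 1 := by rw [← map_mul, inv_mul_cancel, map_one]

theorem EI.apply_of_mem {P : Module.End ℂ V} (hP : EI ρ L P) {v : V} (hv : v ∈ LinearMap.range P) : P v = v := by
  obtain ⟨w, rfl⟩ := hv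
  exact LinearMap.congr_fun hP.idem w

theorem EI.stb {P : Module.End ℂ V} (hP : EI ρ L P) : Stb ρ L (LinearMap.range P) := by
  rintro l hl _ ⟨w, rfl⟩
  exact ⟨ρ l w, LinearMap.congr_fun (hP.comm l hl) w⟩

/-- irreducible submodules exist -/
theorem exists_irr [FiniteDimensional ℂ V] {N : Submodule ℂ V} (hN : Stb ρ L N) (h0 : N ≠ ⊥) :
    ∃ M ≤ N, Irr ρ L M := by
  classical
  have hex : ∃ n, ∃ M : Submodule ℂ V, M ≤ N ∧ Stb ρ L M ∧ M ≠ ⊥ ∧ finrank ℂ M = n := ⟨_, N, le_rfl, hN, h0, rfl⟩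
  obtain ⟨M, hM, hs, h1, h2⟩ := Nat.find_spec hex
  refine ⟨M, hM, hs, h1, fun N' hN' hs' h0' => ?_⟩
  refine Submodule.eq_of_le_of_finrank_le hN' ?_
  rw [h2]
  exact Nat.find_min' hex ⟨N', hN'.trans hM, hs', h0', rfl⟩

/-- Maschke -/
theorem exists_EI [Finite Y] {N : Submodule ℂ V} (hN : Stb ρ L N) : ∃ P, EI ρ L P ∧ LinearMap.range P = N := by
  classical
  let _ : Fintype L := Fintype.ofFinite L
  obtain ⟨C, hC⟩ := N.exists_isCompl
  let π : Module.End ℂ V := N.subtype ∘ₗ N.projectionOnto C hC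
  have hπ1 : ∀ v ∈ N, π v = v := by
    intro v hv
    change ((N.projectionOnto C hC v : N) : V) = v
    have := Submodule.projectionOnto_apply_left hC ⟨v, hv⟩
    rw [this]
  have hπ2 : ∀ v, π v ∈ N := fun v => (N.projectionOnto C hC v).2
  let P : Module.End ℂ V := (Nat.card L : ℂ)⁻¹ • ∑ l : L, ρ l * π * ρ (l : Y)⁻¹
  have hPa : ∀ v, P v = (Nat.card L : ℂ)⁻¹ • ∑ l : L, ρ l (π (ρ (l : Y)⁻¹ v)) := by
    intro v
    change ((Nat.card L : ℂ)⁻¹ • ∑ l : L, ρ l * π * ρ (l : Y)⁻¹) v = _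
    rw [LinearMap.smul_apply, LinearMap.sum_apply]
    rfl
  have hP1 : ∀ v ∈ N, P v = v := by
    intro v hv
    have h1 : ∀ l : L, ρ l (π (ρ (l : Y)⁻¹ v)) = v := by
      intro l
      rw [hπ1 _ (hN _ (L.inv_mem l.2) _ hv), ← Module.End.mul_apply, rho_mul_inv, Module.End.one_apply]
    rw [hPa, Finset.sum_congr rfl fun l _ => h1 l, Finset.sum_const, Finset.card_univ, ← Nat.card_eq_fintype_card,
      ← Nat.cast_smul_eq_nsmul ℂ, smul_smul, inv_mul_cancel₀ (card_ne L), one_smul]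
  have hP2 : ∀ v, P v ∈ N := by
    intro v
    rw [hPa]
    exact N.smul_mem _ (N.sum_mem fun l _ => hN _ l.2 _ (hπ2 _))
  refine ⟨P, ⟨LinearMap.ext fun v => hP1 _ (hP2 v), fun k hk => ?_⟩, le_antisymm ?_ fun v hv => ⟨v, hP1 v hv⟩⟩
  · change ((Nat.card L : ℂ)⁻¹ • ∑ l : L, ρ l * π * ρ (l : Y)⁻¹) * ρ k =
      ρ k * ((Nat.card L : ℂ)⁻¹ • ∑ l : L, ρ l * π * ρ (l : Y)⁻¹)
    rw [smul_mul_assoc, mul_smul_comm, Finset.sum_mul, Finset.mul_sum]
    congr 1
    refine (Fintype.sum_equiv (Equiv.mulLeft (⟨k, hk⟩ : L)) _ _ fun l => ?_).symm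
    change ρ k * (ρ l * π * ρ (l : Y)⁻¹) = ρ (k * (l : Y)) * π * ρ (k * (l : Y))⁻¹ * ρ k
    have h1 : ρ (k * (l : Y))⁻¹ * ρ k = ρ (l : Y)⁻¹ := by rw [← map_mul]; congr 1; group
    rw [mul_assoc (ρ (k * (l : Y)) * π), h1, map_mul]
    simp only [mul_assoc]
  · rintro _ ⟨v, rfl⟩
    exact hP2 v

theorem trace_idem [FiniteDimensional ℂ V] {P : Module.End ℂ V} (hP : P * P = P) (h0 : P ≠ 0) :
    LinearMap.trace ℂ V P ≠ 0 := by
  have h : LinearMap.IsProj (LinearMap.range P) P := by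
    refine ⟨fun v => ⟨v, rfl⟩, ?_⟩
    rintro _ ⟨w, rfl⟩
    exact LinearMap.congr_fun hP w
  rw [h.trace]
  intro h1
  have h2 : finrank ℂ (LinearMap.range P) = 0 := by exact_mod_cast h1
  exact h0 (LinearMap.range_eq_bot.1 (Submodule.finrank_eq_zero.1 h2))

/-- an irreducible constituent with nonzero trace -/
theorem exists_irr_proj [Finite Y] [FiniteDimensional ℂ V] {t : Y} {P : Module.End ℂ V} (hP : EI ρ L P)
    (ht : LinearMap.trace ℂ V (ρ t * P) ≠ 0) : ∃ Q, EI ρ L Q ∧ Q * P = Q ∧ P * Q = Q ∧ Irr ρ L (LinearMap.range Q) ∧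
      LinearMap.trace ℂ V (ρ t * Q) ≠ 0 := by
  induction hn : finrank ℂ (LinearMap.range P) using Nat.strong_induction_on generalizing P with
  | _ n ih =>
  have h0 : LinearMap.range P ≠ ⊥ := by
    intro h1
    rw [LinearMap.range_eq_bot.1 h1, mul_zero, map_zero] at ht
    exact ht rfl
  obtain ⟨M, hM, hirr⟩ := exists_irr hP.stb h0
  obtain ⟨P', hP', e⟩ := exists_EI hirr.stb
  have hPM : ∀ v ∈ M, P v = v := fun v hv => hP.apply_of_mem (hM hv)
  have hP'M : ∀ v ∈ M, P' v = v := fun v hv => hP'.apply_of_mem (by rw [e]; exact hv)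
  have hP'm : ∀ v, P' v ∈ M := fun v => by rw [← e]; exact ⟨v, rfl⟩
  have h1 : P * P' = P' := LinearMap.ext fun v => hPM _ (hP'm v)
  -- `P₁ = P' P`
  have hcomm : ∀ l ∈ L, (P' * P) * ρ l = ρ l * (P' * P) := by
    intro l hl
    rw [mul_assoc, hP.comm l hl, ← mul_assoc, hP'.comm l hl, mul_assoc]
  have h2 : (P' * P) * (P' * P) = P' * P := by
    rw [mul_assoc, ← mul_assoc P P' P, h1, ← mul_assoc, hP'.idem]
  have h3 : (P' * P) * P = P' * P := by rw [mul_assoc, hP.idem]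
  have h4 : P * (P' * P) = P' * P := by rw [← mul_assoc, h1]
  have hr : LinearMap.range (P' * P) = M := by
    apply le_antisymm
    · rintro _ ⟨v, rfl⟩
      exact hP'm _
    · intro v hv
      refine ⟨v, ?_⟩
      rw [Module.End.mul_apply, hPM v hv, hP'M v hv]
  by_cases h5 : LinearMap.trace ℂ V (ρ t * (P' * P)) = 0
  · have h6 : LinearMap.trace ℂ V (ρ t * (P - P' * P)) ≠ 0 := by
      rw [mul_sub, map_sub, h5, sub_zero]
      exact ht
    have h7 : EI ρ L (P - P' * P) := by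
      refine ⟨?_, fun l hl => ?_⟩
      · rw [sub_mul, mul_sub, mul_sub, h2, h3, h4, hP.idem, sub_self, sub_zero]
      · rw [sub_mul, mul_sub, hcomm l hl, hP.comm l hl]
    have h8 : LinearMap.range (P - P' * P) < LinearMap.range P := by
      refine lt_of_le_of_ne ?_ ?_
      · rintro _ ⟨v, rfl⟩
        refine ⟨(P - P' * P) v, ?_⟩
        rw [← Module.End.mul_apply, mul_sub, h4, hP.idem]
      · intro h9
        apply hirr.ne
        rw [Submodule.eq_bot_iff]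
        intro v hv
        have h10 : v ∈ LinearMap.range (P - P' * P) := by rw [h9]; exact hM hv
        have h11 := h7.apply_of_mem h10
        rw [LinearMap.sub_apply, Module.End.mul_apply, hPM v hv, hP'M v hv, sub_self] at h11
        exact h11.symm
    obtain ⟨Q, hQ, hQ1, hQ2, hQ3, hQ4⟩ := ih _ (by rw [← hn]; exact Submodule.finrank_lt_finrank_of_lt h8) h7 h6 rfl
    refine ⟨Q, hQ, ?_, ?_, hQ3, hQ4⟩
    · rw [← hQ1, mul_assoc, sub_mul, h3, hP.idem]
    · rw [← hQ2, ← mul_assoc, mul_sub, h4, hP.idem]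
  · exact ⟨P' * P, ⟨h2, hcomm⟩, h3, h4, by rw [hr]; exact hirr, h5⟩

/-- **vanishing of the trace** -/
theorem trace_eq_zero [Finite Y] [FiniteDimensional ℂ V] {P p : Module.End ℂ V} (hP : EI ρ L P)
    (hM : Irr ρ L (LinearMap.range P)) (hp : p * p = p) (hc : p * P = P * p) (h0 : p * P ≠ 0) {t : Y}
    (hz : ∀ l ∈ L, p * ρ (l⁻¹ * t * l) * (p * P) = 0) : LinearMap.trace ℂ V (ρ t * P) = 0 := by
  classical
  let _ : Fintype L := Fintype.ofFinite L
  let F : Module.End ℂ V := ∑ l : L, ρ l * p * ρ (l : Y)⁻¹ * P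
  have hFk : ∀ k ∈ L, F * ρ k = ρ k * F := by
    intro k hk
    change (∑ l : L, ρ l * p * ρ (l : Y)⁻¹ * P) * ρ k = ρ k * ∑ l : L, ρ l * p * ρ (l : Y)⁻¹ * P
    rw [Finset.sum_mul, Finset.mul_sum]
    refine (Fintype.sum_equiv (Equiv.mulLeft (⟨k, hk⟩ : L)) _ _ fun l => ?_).symm
    change ρ k * (ρ l * p * ρ (l : Y)⁻¹ * P) = ρ (k * (l : Y)) * p * ρ (k * (l : Y))⁻¹ * P * ρ k
    have h1 : ρ (k * (l : Y))⁻¹ * ρ k = ρ (l : Y)⁻¹ := by rw [← map_mul]; congr 1; group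
    rw [mul_assoc _ P, hP.comm k hk, ← mul_assoc _ (ρ k) P, mul_assoc (ρ (k * (l : Y)) * p), h1, map_mul]
    simp only [mul_assoc]
  have hPF : P * F = F := by
    change P * ∑ l : L, ρ l * p * ρ (l : Y)⁻¹ * P = ∑ l : L, ρ l * p * ρ (l : Y)⁻¹ * P
    rw [Finset.mul_sum]
    refine Finset.sum_congr rfl fun l _ => ?_
    rw [mul_assoc (ρ (l : Y) * p), ← hP.comm _ (L.inv_mem l.2), ← mul_assoc (ρ (l : Y) * p), mul_assoc (ρ (l : Y)) p P, hc,
      ← mul_assoc (ρ (l : Y)), ← hP.comm _ l.2]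
    simp only [← mul_assoc]
    rw [hP.idem]
  have hFP : F * P = F := by
    change (∑ l : L, ρ l * p * ρ (l : Y)⁻¹ * P) * P = ∑ l : L, ρ l * p * ρ (l : Y)⁻¹ * P
    rw [Finset.sum_mul]
    refine Finset.sum_congr rfl fun l _ => ?_
    rw [mul_assoc, hP.idem]
  have hFr : ∀ v, F v ∈ LinearMap.range P := fun v => ⟨F v, LinearMap.congr_fun hPF v⟩
  -- an eigenvalue
  have hnt : Nontrivial (LinearMap.range P) := Submodule.nontrivial_iff_ne_bot.2 hM.ne
  obtain ⟨c, hcv⟩ := Module.End.exists_eigenvalue (K := ℂ) (F.restrict (p := LinearMap.range P) (q := LinearMap.range P)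
    fun v _ => hFr v)
  obtain ⟨w, hw⟩ := hcv.exists_hasEigenvector
  have hw1 : F w = c • (w : V) := by
    have := congrArg (fun x : LinearMap.range P => (x : V)) hw.apply_eq_smul
    exact this
  have hw0 : (w : V) ≠ 0 := fun h1 => hw.2 (Subtype.ext h1)
  let N : Submodule ℂ V := LinearMap.range P ⊓ LinearMap.ker (F - c • (1 : Module.End ℂ V))
  have hmem : ∀ v, v ∈ N ↔ v ∈ LinearMap.range P ∧ F v = c • v := by
    intro v
    rw [Submodule.mem_inf, LinearMap.mem_ker, LinearMap.sub_apply, LinearMap.smul_apply, Module.End.one_apply,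
      sub_eq_zero]
  have hN : N = LinearMap.range P := by
    refine hM.min N inf_le_left ?_ ?_
    · intro l hl v hv
      rw [hmem] at hv ⊢
      refine ⟨hM.stb l hl v hv.1, ?_⟩
      rw [← Module.End.mul_apply, hFk l hl, Module.End.mul_apply, hv.2, map_smul]
    · intro h1
      have h2 : (w : V) ∈ N := (hmem _).2 ⟨w.2, hw1⟩
      rw [h1, Submodule.mem_bot] at h2
      exact hw0 h2
  have hF : F = c • P := by
    ext v
    have h1 : P v ∈ N := by rw [hN]; exact ⟨v, rfl⟩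
    rw [← hFP, Module.End.mul_apply, ((hmem _).1 h1).2, LinearMap.smul_apply]
  have htr : LinearMap.trace ℂ V F = (Nat.card L : ℂ) * LinearMap.trace ℂ V (p * P) := by
    change LinearMap.trace ℂ V (∑ l : L, ρ l * p * ρ (l : Y)⁻¹ * P) = _
    rw [map_sum, Finset.sum_congr rfl (g := fun _ => LinearMap.trace ℂ V (p * P)), Finset.sum_const, Finset.card_univ,
      ← Nat.card_eq_fintype_card, nsmul_eq_mul]
    intro l _
    rw [mul_assoc (ρ (l : Y) * p), ← hP.comm _ (L.inv_mem l.2), mul_assoc (ρ (l : Y)), LinearMap.trace_mul_comm,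
      mul_assoc p, mul_assoc P, rho_inv_mul, mul_one]
  have hc0 : c ≠ 0 := by
    rintro rfl
    rw [hF, zero_smul, map_zero] at htr
    have h1 : LinearMap.trace ℂ V (p * P) ≠ 0 := by
      refine trace_idem ?_ h0
      rw [mul_assoc, ← mul_assoc P p P, ← hc, mul_assoc p P P, hP.idem, ← mul_assoc, hp]
    exact mul_ne_zero (card_ne L) h1 htr.symm
  have htF : LinearMap.trace ℂ V (ρ t * F) = 0 := by
    change LinearMap.trace ℂ V (ρ t * ∑ l : L, ρ l * p * ρ (l : Y)⁻¹ * P) = 0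
    rw [Finset.mul_sum, map_sum]
    refine Finset.sum_eq_zero fun l _ => ?_
    have h1 := hz l l.2
    have h2 : ρ ((l : Y)⁻¹ * t * l) = ρ (l : Y)⁻¹ * ρ t * ρ l := by rw [map_mul, map_mul]
    have h3 : ρ t * (ρ (l : Y) * p * ρ (l : Y)⁻¹ * P) = (ρ t * ρ (l : Y) * (p * P)) * ρ (l : Y)⁻¹ := by
      rw [mul_assoc (ρ (l : Y) * p), ← hP.comm _ (L.inv_mem l.2)]
      simp only [mul_assoc]
    have h4 : ρ (l : Y)⁻¹ * (ρ t * ρ (l : Y) * (p * P)) = ρ ((l : Y)⁻¹ * t * l) * (p * P) * p := by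
      rw [h2, mul_assoc _ (p * P) p, mul_assoc p P p, ← hc, ← mul_assoc p p P, hp]
      simp only [mul_assoc]
    rw [h3, LinearMap.trace_mul_comm, h4, LinearMap.trace_mul_comm, ← mul_assoc, h1, map_zero]
  rw [hF, mul_smul_comm, map_smul, smul_eq_mul] at htF
  exact (mul_eq_zero.1 htF).resolve_left hc0

end Cfsg.Agent.H631.VZ
end

-- part: H631/VZ/Supp
section
/-!
# S4842: Harish-Chandra support in a root group datum (helper631)

* `mackey` : `av V_{K'} (ρ n_w v) = av V_{K'} (ρ n_w (av V_{K₁} v))` for `v ∈ V^{V_K}`, `w` doubly minimal,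
  `K₁ = K ∩ w⁻¹ K'`;
* `exists_mackey`, `exists_of_cusp` : irreducible `L_J`-submodules;
* `exists_of_support`, `VU_ne_bot`.
-/

set_option autoImplicit false
set_option linter.unusedSectionVars false

open Cfsg

namespace Cfsg.Agent.H631.VZ

open CoxeterSystem Cfsg.Agent.ChevalleyStructure.CoxeterGeom Cfsg.Agent.Tits.Roots Cfsg.Agent.Tits.Core
  Cfsg.Agent.Tits.Exchange Cfsg.Agent.Nodes.Reps Cfsg.Agent.Nodes.BNOf Cfsg.Agent.Nodes.StabComb
  Cfsg.Agent.Nodes.Bruhat Cfsg.Agent.Nodes.OppDec Cfsg.Agent.Nodes.LeviDec Module Cfsg.Agent.H985.VZ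
  Cfsg.Agent.H631.Kaw

universe u v

variable {I W : Type*} {Y : Type u} [Fintype I] [DecidableEq I] [Group W] [Group Y] {M : CoxeterMatrix I}

section comb

variable (cs : CoxeterSystem M W) {A : I → I → ℤ} (h : IsCartan M A)

/-- double coset representatives -/
theorem exists_double₂ (K' K : Set I) (w : W) : ∃ x₁ ∈ WJ cs K', ∃ x₂ ∈ WJ cs K, ∃ y, w = x₁ * y * x₂ ∧
    (∀ j ∈ K, 0 ≤ rep cs h y (sr j)) ∧ ∀ j ∈ K', 0 ≤ rep cs h y⁻¹ (sr j) := by
  obtain ⟨x₁, hx₁, v, e, hv⟩ := exists_isMinL cs K' w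
  obtain ⟨y, hy, x₂, hx₂, e'⟩ := exists_isMinR cs K v
  refine ⟨x₁, hx₁, x₂, hx₂, y, by rw [e, e', mul_assoc], fun j hj => ?_, fun j hj => ?_⟩
  · exact nonneg_of_lt cs h y j ((isMinR_iff cs).1 hy j hj)
  · refine nonneg_of_lt cs h y⁻¹ j ?_
    have h1 := hv _ (simple_mem_WJ cs hj)
    rw [e', ← mul_assoc, cs.length_simple] at h1
    have h2 := cs.length_mul_le (cs.simple j * y) x₂
    have h3 := hy x₂ hx₂
    rw [← cs.length_inv y, ← cs.length_inv (cs.simple j * y), mul_inv_rev, inv_simple] at *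
    omega

/-- the part of `K` mapped by `w` into the span of `K'` -/
def Kw (w : W) (K' K : Set I) : Set I := {k | k ∈ K ∧ rep cs h w (sr k) ∈ RootsJ cs h K'}

variable {cs h}

theorem Kw_subset {w : W} {K' K : Set I} : Kw cs h w K' K ⊆ K := fun _ hk => hk.1

theorem simple_of_Kw {w : W} {K' K : Set I} (hw : ∀ j ∈ K, 0 ≤ rep cs h w (sr j))
    (hw' : ∀ j ∈ K', 0 ≤ rep cs h w⁻¹ (sr j)) {k : I} (hk : k ∈ Kw cs h w K' K) :
    ∃ k' ∈ K', rep cs h w (sr k) = sr k' :=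
  simple_of (J := K') (w := w⁻¹) hw' (x := rep cs h w (sr k)) (k := k)
    ⟨(isRoot_sr cs h k).act w, hw k hk.1, hk.2.2⟩ (by rw [rep_inv_apply])

end comb

section rep

variable {cs : CoxeterSystem M W} {A : I → I → ℤ} {h : IsCartan M A} {p : ℕ} {T : Subgroup Y} {n : I → Y}
  {X : (I → ℤ) → Subgroup Y} {V : Type v} [AddCommGroup V] [Module ℂ V]
  {ρ : Representation ℂ Y V}

/-- the parabolic subgroup acts on `N ≤ V^{V_K}` -/
theorem Stb.PJ (R : RGD cs h p T n X) {K : Set I} {N : Submodule ℂ V} (hN : Stb ρ (LJ cs h T X K) N)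
    (hf : N ≤ fx ρ (VJ cs h X K)) : Stb ρ (PJ cs h T X K) N := by
  intro g hg v hv
  obtain ⟨l, hl, u, hu, rfl⟩ := (mem_PJ R).1 hg
  rw [map_mul, Module.End.mul_apply, hf hv u hu]
  exact hN l hl v hv

theorem mem_fx_Kw (R : RGD cs h p T n X) {K K₁ : Set I} {N : Submodule ℂ V}
    (hf : N ≤ fx ρ (VJ cs h X K)) {v : V} (hv : v ∈ N) {u : Y} (hu : u ∈ VJ cs h X K₁) :
    ∃ l ∈ RGD.Sup X (Mid cs h K₁ K), ρ u v = ρ l v := by
  obtain ⟨l, hl, u', hu', e⟩ := mem_VJ_split R (T' := K) hu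
  refine ⟨l, hl, ?_⟩
  rw [e, map_mul, Module.End.mul_apply, hf hv u' hu']

theorem av_mem_of_stb [Finite Y] (R : RGD cs h p T n X) {K K₁ : Set I} {N : Submodule ℂ V}
    (hN : Stb ρ (LJ cs h T X K) N) (hf : N ≤ fx ρ (VJ cs h X K)) {v : V} (hv : v ∈ N) :
    av ρ (VJ cs h X K₁) v ∈ N := by
  classical
  let _ : Fintype (VJ cs h X K₁) := Fintype.ofFinite _
  rw [av_apply]
  refine N.smul_mem _ (N.sum_mem fun u _ => ?_)
  obtain ⟨l, hl, e⟩ := mem_fx_Kw R hf hv u.2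
  rw [e]
  exact hN l ((RGD.Sup_le fun x hx => X_le_LJ (PosJ_subset K hx.1)) hl) v hv

/-- **the Mackey step** -/
theorem mackey [Finite Y] (R : RGD cs h p T n X) {w : W} {K' K : Set I} (hw : ∀ j ∈ K, 0 ≤ rep cs h w (sr j))
    {g : Y} (hg : Rp cs R.nsys w g) {v : V} (hv : v ∈ fx ρ (VJ cs h X K)) :
    av ρ (VJ cs h X K') (ρ g (av ρ (VJ cs h X (Kw cs h w K' K)) v)) = av ρ (VJ cs h X K') (ρ g v) := by
  classical
  let _ : Fintype (VJ cs h X (Kw cs h w K' K)) := Fintype.ofFinite _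
  have key : ∀ u : VJ cs h X (Kw cs h w K' K), av ρ (VJ cs h X K') (ρ g (ρ u v)) = av ρ (VJ cs h X K') (ρ g v) := by
    intro u
    obtain ⟨l, hl, e⟩ := mem_fx_Kw R (N := fx ρ (VJ cs h X K)) le_rfl hv u.2
    have h1 : g * l * g⁻¹ ∈ VJ cs h X K' := by
      refine conj_mem_Sup R hg (fun x hx => hx.2.1) (fun x hx => ?_) hl
      obtain ⟨-, -, k, hk, hk0⟩ := hx.2
      have hkK : k ∈ K := by
        by_contra hcon
        have := hx.1.2.2 k hcon
        omega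
      exact rep_mem_NotJ hw hkK (fun h2 => hk ⟨hkK, h2⟩) hx.1 hk0
    have h2 : ρ g (ρ l v) = ρ (g * l * g⁻¹) (ρ g v) := by
      rw [← Module.End.mul_apply, ← Module.End.mul_apply, ← map_mul, ← map_mul, inv_mul_cancel_right]
    rw [e, h2, av_rho ρ h1]
  rw [av_apply ρ (VJ cs h X (Kw cs h w K' K)), map_smul, map_smul, map_sum, map_sum,
    Finset.sum_congr rfl fun u _ => key u, Finset.sum_const,
    Finset.card_univ, ← Nat.card_eq_fintype_card, ← Nat.cast_smul_eq_nsmul ℂ, smul_smul, inv_mul_cancel₀ (card_ne _),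
    one_smul]

theorem av_rho_of_mem_PJ [Finite Y] (R : RGD cs h p T n X) {K : Set I} {g : Y} (hg : g ∈ PJ cs h T X K) (v : V) :
    av ρ (VJ cs h X K) (ρ g v) = ρ g (av ρ (VJ cs h X K) v) :=
  (rho_av_conj ρ (fun x => Subgroup.mem_normalizer_iff.1 (PJ_le_normalizer_VJ R K hg) x) v).symm

/-- `L_J ⊆ P_{K'} y P_K` with `y ∈ W_J` doubly minimal -/
theorem exists_dec [Finite W] (R : RGD cs h p T n X) {J K K' : Set I} (hK : K ⊆ J) (hK' : K' ⊆ J) {g : Y}
    (hg : g ∈ LJ cs h T X J) : ∃ a ∈ PJ cs h T X K', ∃ b ∈ PJ cs h T X K, ∃ y ∈ WJ cs J, ∃ k,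
      Rp cs R.nsys y k ∧ g = a * k * b ∧ (∀ j ∈ K, 0 ≤ rep cs h y (sr j)) ∧ ∀ j ∈ K', 0 ≤ rep cs h y⁻¹ (sr j) := by
  obtain ⟨w, hw, b₁, hb₁, k, hk, b₂, hb₂, rfl⟩ := (mem_LJ R).1 hg
  obtain ⟨x₁, hx₁, x₂, hx₂, y, rfl, hy, hy'⟩ := exists_double₂ cs h K' K w
  obtain ⟨k₁, hk₁⟩ := exists_rp cs R.nsys x₁
  obtain ⟨k₂, hk₂⟩ := exists_rp cs R.nsys x₂
  have h1 : Rp cs R.nsys y (k₁⁻¹ * k * k₂⁻¹) := by
    have := (hk₁.inv.mul hk).mul hk₂.inv
    have e : x₁⁻¹ * (x₁ * y * x₂) * x₂⁻¹ = y := by group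
    rwa [e] at this
  have hyJ : y ∈ WJ cs J := by
    have e : y = x₁⁻¹ * (x₁ * y * x₂) * x₂⁻¹ := by group
    rw [e]
    exact mul_mem (mul_mem (inv_mem (WJ_mono cs hK' hx₁)) hw) (inv_mem (WJ_mono cs hK hx₂))
  refine ⟨b₁ * k₁, mul_mem (B_le_PJ (BJ_le_B J hb₁)) (LJ_le_PJ (rp_mem_LJ R hx₁ hk₁)), k₂ * b₂,
    mul_mem (LJ_le_PJ (rp_mem_LJ R hx₂ hk₂)) (B_le_PJ (BJ_le_B J hb₂)), y, hyJ, _, h1, by group, hy, hy'⟩

/-- a nonzero `V_{K'}`-fixed vector in an irreducible `L_J`-module comes from every part of it -/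
theorem exists_mackey [Finite Y] [Finite W] (R : RGD cs h p T n X) {J K K' : Set I} (hK : K ⊆ J) (hK' : K' ⊆ J)
    {M N : Submodule ℂ V} (hM : Irr ρ (LJ cs h T X J) M) (hNM : N ≤ M) (hN : Stb ρ (LJ cs h T X K) N)
    (hf : N ≤ fx ρ (VJ cs h X K)) (hN0 : N ≠ ⊥) (h' : M ⊓ fx ρ (VJ cs h X K') ≠ ⊥) :
    ∃ w ∈ WJ cs J, ∃ g, Rp cs R.nsys w g ∧ (∀ j ∈ K, 0 ≤ rep cs h w (sr j)) ∧ (∀ j ∈ K', 0 ≤ rep cs h w⁻¹ (sr j)) ∧
      ∃ v ∈ N, av ρ (VJ cs h X (Kw cs h w K' K)) v ∈ N ∧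
        av ρ (VJ cs h X K') (ρ g (av ρ (VJ cs h X (Kw cs h w K' K)) v)) ≠ 0 := by
  -- `M` is spanned by the translates of `N`
  let S : Submodule ℂ V := Submodule.span ℂ {x | ∃ l ∈ LJ cs h T X J, ∃ v ∈ N, ρ l v = x}
  have hS : S = M := by
    refine hM.min S ?_ ?_ ?_
    · refine Submodule.span_le.2 ?_
      rintro _ ⟨l, hl, v, hv, rfl⟩
      exact hM.stb l hl v (hNM hv)
    · intro k hk v hv
      refine Submodule.span_induction (p := fun v _ => ρ k v ∈ S) ?_ ?_ ?_ ?_ hv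
      · rintro _ ⟨l, hl, v, hv, rfl⟩
        refine Submodule.subset_span ⟨k * l, mul_mem hk hl, v, hv, ?_⟩
        rw [map_mul, Module.End.mul_apply]
      · rw [map_zero]
        exact zero_mem _
      · intro x y _ _ hx hy
        rw [map_add]
        exact add_mem hx hy
      · intro c x _ hx
        rw [map_smul]
        exact S.smul_mem c hx
    · intro h1
      apply hN0
      rw [Submodule.eq_bot_iff]
      intro v hv
      have h2 : v ∈ S := Submodule.subset_span ⟨1, one_mem _, v, hv, by rw [map_one, Module.End.one_apply]⟩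
      rw [h1, Submodule.mem_bot] at h2
      exact h2
  obtain ⟨l, hl, v, hv, h1⟩ : ∃ l ∈ LJ cs h T X J, ∃ v ∈ N, av ρ (VJ cs h X K') (ρ l v) ≠ 0 := by
    by_contra hcon
    push Not at hcon
    apply h'
    rw [Submodule.eq_bot_iff]
    rintro v ⟨hv, hv'⟩
    have h2 : v ∈ S := by rw [hS]; exact hv
    have h3 : av ρ (VJ cs h X K') v = 0 := by
      refine Submodule.span_induction (p := fun v _ => av ρ (VJ cs h X K') v = 0) ?_ ?_ ?_ ?_ h2
      · rintro _ ⟨l, hl, v, hv, rfl⟩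
        exact hcon l hl v hv
      · rw [map_zero]
      · intro x y _ _ hx hy
        rw [map_add, hx, hy, add_zero]
      · intro c x _ hx
        rw [map_smul, hx, smul_zero]
    rwa [av_of_mem hv'] at h3
  obtain ⟨a, ha, b, hb, y, hy, k, hk, rfl, h2, h3⟩ := exists_dec R hK hK' hl
  refine ⟨y, hy, k, hk, h2, h3, ρ b v, hN.PJ R hf b hb v hv, av_mem_of_stb R hN hf (hN.PJ R hf b hb v hv), ?_⟩
  rw [mackey R h2 hk (hf (hN.PJ R hf b hb v hv))]
  intro h4
  apply h1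
  rw [map_mul, map_mul, Module.End.mul_apply, Module.End.mul_apply, av_rho_of_mem_PJ R ha, h4, map_zero]

/-- **the support, Levi form**: `N ≤ M` cuspidal for `L_K` -/
theorem exists_of_cusp [Finite Y] [Finite W] (R : RGD cs h p T n X) {J K K' : Set I} (hK : K ⊆ J) (hK' : K' ⊆ J)
    {M N : Submodule ℂ V} (hM : Irr ρ (LJ cs h T X J) M) (hNM : N ≤ M) (hN : Stb ρ (LJ cs h T X K) N)
    (hf : N ≤ fx ρ (VJ cs h X K)) (hN0 : N ≠ ⊥) (hmin : ∀ K₁ : Set I, K₁ ⊂ K → N ⊓ fx ρ (VJ cs h X K₁) = ⊥)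
    (h' : M ⊓ fx ρ (VJ cs h X K') ≠ ⊥) :
    ∃ w ∈ WJ cs J, ∀ k ∈ K, ∃ k' ∈ K', rep cs h w (sr k) = sr k' := by
  obtain ⟨w, hw, g, hg, h1, h2, v, hv, hv', h3⟩ := exists_mackey R hK hK' hM hNM hN hf hN0 h'
  refine ⟨w, hw, fun k hk => simple_of_Kw h1 h2 ?_⟩
  have h4 : Kw cs h w K' K = K := by
    by_contra hne
    have h5 : Kw cs h w K' K ⊂ K := lt_of_le_of_ne Kw_subset hne
    have h6 : av ρ (VJ cs h X (Kw cs h w K' K)) v ∈ N ⊓ fx ρ (VJ cs h X (Kw cs h w K' K)) := ⟨hv', av_mem _ _ _⟩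
    rw [hmin _ h5, Submodule.mem_bot] at h6
    rw [h6, map_zero, map_zero] at h3
    exact h3 rfl
  rw [h4]
  exact hk

/-- the whole space -/
theorem irr_top (hG : GG cs h T X = ⊤) (hρ : ρ.IsIrreducible) : Irr ρ (LJ cs h T X Set.univ) ⊤ := by
  have h0 : Nontrivial (Subrepresentation ρ) := hρ.toNontrivial
  refine ⟨fun _ _ _ _ => Submodule.mem_top, ?_, fun N _ hN hN0 => ?_⟩
  · intro h1
    obtain ⟨a, b, hab⟩ := h0.exists_pair_ne
    apply hab
    apply Subrepresentation.toSubmodule_injective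
    have h2 : ∀ x : Submodule ℂ V, x = ⊥ := fun x => le_bot_iff.1 (by rw [← h1]; exact le_top)
    rw [h2 a.toSubmodule, h2 b.toSubmodule]
  · rw [LJ_univ, hG] at hN
    rcases hρ.eq_bot_or_eq_top (⟨N, fun g v hv => hN g (Subgroup.mem_top g) v hv⟩ : Subrepresentation ρ) with h1 | h1
    · exact absurd (congrArg Subrepresentation.toSubmodule h1) hN0
    · exact congrArg Subrepresentation.toSubmodule h1

theorem stb_fx (R : RGD cs h p T n X) (K : Set I) : Stb ρ (LJ cs h T X K) (fx ρ (VJ cs h X K)) := by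
  intro l hl v hv u hu
  have h1 : l⁻¹ * u * l ∈ VJ cs h X K := by
    have := (Subgroup.mem_normalizer_iff.1 (inv_mem (LJ_le_normalizer_VJ R K hl)) u).1 hu
    rwa [inv_inv] at this
  have h2 : ρ u (ρ l v) = ρ l (ρ (l⁻¹ * u * l) v) := by
    rw [← Module.End.mul_apply, ← Module.End.mul_apply, ← map_mul, ← map_mul]
    congr 2
    group
  rw [h2, hv _ h1]

/-- the support of an irreducible representation, with a cuspidal part -/
theorem exists_of_cusp_top [Finite Y] [Finite W] (R : RGD cs h p T n X) (hG : GG cs h T X = ⊤) (hρ : ρ.IsIrreducible)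
    {K K' : Set I} {N : Submodule ℂ V} (hN : Stb ρ (LJ cs h T X K) N) (hf : N ≤ fx ρ (VJ cs h X K)) (hN0 : N ≠ ⊥)
    (hmin : ∀ K₁ : Set I, K₁ ⊂ K → N ⊓ fx ρ (VJ cs h X K₁) = ⊥) (h' : fx ρ (VJ cs h X K') ≠ ⊥) :
    ∃ w : W, ∀ k ∈ K, ∃ k' ∈ K', rep cs h w (sr k) = sr k' := by
  obtain ⟨w, -, hw⟩ := exists_of_cusp R (Set.subset_univ K) (Set.subset_univ K') (irr_top hG hρ) le_top hN hf hN0 hmin
    (by rwa [top_inf_eq])
  exact ⟨w, hw⟩

theorem exists_of_support [Finite Y] [Finite W] (R : RGD cs h p T n X) (hG : GG cs h T X = ⊤) (hρ : ρ.IsIrreducible)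
    {J K : Set I} (hJ : fx ρ (VJ cs h X J) ≠ ⊥) (hmin : ∀ J' : Set I, J' ⊂ J → fx ρ (VJ cs h X J') = ⊥)
    (hK : fx ρ (VJ cs h X K) ≠ ⊥) : ∃ w : W, ∀ j ∈ J, ∃ k ∈ K, rep cs h w (sr j) = sr k :=
  exists_of_cusp_top R hG hρ (stb_fx R J) le_rfl hJ (fun K₁ hK₁ => by rw [hmin K₁ hK₁, inf_bot_eq]) hK

theorem VJ_empty : VJ cs h X (∅ : Set I) = RGD.Sup X (RGD.Pos cs h) := by
  have h1 : NotJ cs h (∅ : Set I) = RGD.Pos cs h := by
    ext x
    constructor
    · rintro ⟨h1, h2, -⟩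
      exact ⟨h1, h2⟩
    · rintro ⟨h1, h2⟩
      rcases mem_PosJ_or_NotJ (∅ : Set I) h1 h2 with h3 | h3
      · exact absurd (funext fun k => h3.2.2 k (Set.notMem_empty k)) h1.ne_zero
      · exact h3
  unfold VJ
  rw [h1]

theorem VU_ne_bot [Finite Y] [Finite W] (R : RGD cs h p T n X) (hG : GG cs h T X = ⊤) (hρ : ρ.IsIrreducible)
    {a b : I} (hno : ∀ w : W, rep cs h w (sr a) ≠ sr b) (ha : fx ρ (VJ cs h X {a}) ≠ ⊥)
    (hb : fx ρ (VJ cs h X {b}) ≠ ⊥) : VU cs h X ρ ≠ ⊥ := by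
  intro h0
  obtain ⟨w, hw⟩ := exists_of_support R hG hρ ha (fun J' hJ' => by
    rw [Set.ssubset_singleton_iff.1 hJ', VJ_empty]
    exact h0) hb
  obtain ⟨k, hk, e⟩ := hw a rfl
  rw [Set.mem_singleton_iff.1 hk] at e
  exact hno w e

end rep

end Cfsg.Agent.H631.VZ
end

private theorem dce_5f41aa07bae7 : _root_.True := by
  try have : _root_.True := by simp only [_root_.Cfsg.Agent.Nodes.Bruhat.LJ.congr_simp]
  exact _root_.True.intro
end

-- part: H631/VZ/Ell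
section
prune_inst 0x200800000000000000000000000000014010000
set_option linter.all false
open scoped Cfsg.Agent.FastGrp

/-!
# S4842: the support seen by an elliptic element (helper631)

* `ell_support` : `t` elliptic in `L_J`, `χ(t) ≠ 0`: there is an irreducible `L_J`-submodule `M` of `V^{V_J}` with cuspidal
  support `K₀` and `x ∈ W_J` permuting the simple roots of `K₀`, in no `W_K` with `K₀ ⊆ K ⊂ J`;
* `assoc` : any two cuspidal supports in an irreducible representation are associate.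
-/

set_option autoImplicit false
set_option linter.unusedSectionVars false

open Cfsg

namespace Cfsg.Agent.H631.VZ

open CoxeterSystem Cfsg.Agent.ChevalleyStructure.CoxeterGeom Cfsg.Agent.Tits.Roots Cfsg.Agent.Tits.Core
  Cfsg.Agent.Tits.Exchange Cfsg.Agent.Nodes.Reps Cfsg.Agent.Nodes.BNOf Cfsg.Agent.Nodes.StabComb
  Cfsg.Agent.Nodes.Bruhat Cfsg.Agent.Nodes.OppDec Cfsg.Agent.Nodes.LeviDec Module Cfsg.Agent.H985.VZ
  Cfsg.Agent.H631.Kaw

universe u v

variable {I W : Type*} {Y : Type u} [Fintype I] [DecidableEq I] [Group W] [Group Y] {M : CoxeterMatrix I}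
  {cs : CoxeterSystem M W} {A : I → I → ℤ} {h : IsCartan M A} {p : ℕ} {T : Subgroup Y} {n : I → Y}
  {X : (I → ℤ) → Subgroup Y} {V : Type v} [AddCommGroup V] [Module ℂ V]
  {ρ : Representation ℂ Y V}

theorem PJ_mono (K K' : Set I) (hK : K ⊆ K') : PJ cs h T X K ≤ PJ cs h T X K' :=
  sup_le (le_trans (LJ_mono hK) LJ_le_PJ) (le_trans (VJ_le_B K) B_le_PJ)

/-- `av V_J` is an `L_J`-equivariant idempotent -/
theorem EI_av [Finite Y] (R : RGD cs h p T n X) (J : Set I) : EI ρ (LJ cs h T X J) (av ρ (VJ cs h X J)) := by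
  refine ⟨LinearMap.ext fun v => av_idem ρ _ v, fun l hl => LinearMap.ext fun v => ?_⟩
  exact av_rho_of_mem_PJ R (LJ_le_PJ hl) v

/-- an irreducible constituent of `V^{V_J}` seen by a free element -/
theorem Free.exists_irr [Finite Y] [FiniteDimensional ℂ V] (R : RGD cs h p T n X) {J : Set I} {t : Y}
    (ht : Free cs h T X J t) (hχ : ρ.character t ≠ 0) : ∃ Q : Module.End ℂ V, EI ρ (LJ cs h T X J) Q ∧
      Q * av ρ (VJ cs h X J) = Q ∧ av ρ (VJ cs h X J) * Q = Q ∧ Irr ρ (LJ cs h T X J) (LinearMap.range Q) ∧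
      LinearMap.trace ℂ V (ρ t * Q) ≠ 0 := by
  rw [ht.trace_eq R] at hχ
  exact exists_irr_proj (EI_av R J) hχ

/-- elements of `P_J` commute with an equivariant idempotent below `av V_J` -/
theorem comm_PJ [Finite Y] (R : RGD cs h p T n X) {J : Set I} {Q : Module.End ℂ V} (hQ : EI ρ (LJ cs h T X J) Q)
    (h1 : Q * av ρ (VJ cs h X J) = Q) (h2 : av ρ (VJ cs h X J) * Q = Q) {g : Y} (hg : g ∈ PJ cs h T X J) :
    Q * ρ g = ρ g * Q := by
  obtain ⟨l, hl, u, hu, rfl⟩ := (mem_PJ R).1 hg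
  have h3 : Q * ρ u = Q := by
    have h4 : av ρ (VJ cs h X J) * ρ u = av ρ (VJ cs h X J) := LinearMap.ext fun v => av_rho ρ hu v
    calc Q * ρ u = Q * (av ρ (VJ cs h X J) * ρ u) := by rw [← mul_assoc, h1]
      _ = Q := by rw [h4, h1]
  have h5 : ρ u * Q = Q := by
    have h4 : ρ u * av ρ (VJ cs h X J) = av ρ (VJ cs h X J) := LinearMap.ext fun v => rho_av ρ hu v
    calc ρ u * Q = (ρ u * av ρ (VJ cs h X J)) * Q := by rw [mul_assoc, h2]
      _ = Q := by rw [h4, h2]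
  rw [map_mul, mul_assoc, h5, ← mul_assoc, hQ.comm l hl, mul_assoc, h3]

theorem comm_av [Finite Y] {H : Subgroup Y} {Q : Module.End ℂ V} (hQ : ∀ g ∈ H, Q * ρ g = ρ g * Q) :
    av ρ H * Q = Q * av ρ H := by
  classical
  let _ : Fintype H := Fintype.ofFinite H
  rw [av_eq, smul_mul_assoc, mul_smul_comm, Finset.sum_mul, Finset.mul_sum]
  congr 1
  exact Finset.sum_congr rfl fun g _ => (hQ g g.2).symm

/-- a minimal support -/
theorem exists_min_support {S : Submodule ℂ V} {J : Set I} (h0 : S ⊓ fx ρ (VJ cs h X J) ≠ ⊥) :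
    ∃ K₀ ⊆ J, S ⊓ fx ρ (VJ cs h X K₀) ≠ ⊥ ∧ ∀ K₁ : Set I, K₁ ⊂ K₀ → S ⊓ fx ρ (VJ cs h X K₁) = ⊥ := by
  classical
  have hfin : {K : Set I | K ⊆ J ∧ S ⊓ fx ρ (VJ cs h X K) ≠ ⊥}.Finite := Set.toFinite _
  obtain ⟨K₀, hK₀⟩ := hfin.exists_minimal ⟨J, subset_rfl, h0⟩
  refine ⟨K₀, hK₀.prop.1, hK₀.prop.2, fun K₁ hK₁ => ?_⟩
  by_contra h1
  exact hK₁.2 (hK₀.le_of_le ⟨hK₁.1.trans hK₀.prop.1, h1⟩ hK₁.1)

/-- **(C)** -/
theorem ell_support [Finite Y] [Finite W] [FiniteDimensional ℂ V] (R : RGD cs h p T n X) {J : Set I} {t : Y}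
    (ht : Ell cs h T X J t) (hχ : ρ.character t ≠ 0) :
    ∃ M : Submodule ℂ V, M ≤ fx ρ (VJ cs h X J) ∧ Irr ρ (LJ cs h T X J) M ∧ ∃ K₀ ⊆ J, M ⊓ fx ρ (VJ cs h X K₀) ≠ ⊥ ∧
      (∀ K₁ : Set I, K₁ ⊂ K₀ → M ⊓ fx ρ (VJ cs h X K₁) = ⊥) ∧ ∃ x ∈ WJ cs J,
        (∀ k ∈ K₀, ∃ k' ∈ K₀, rep cs h x (sr k) = sr k') ∧ ∀ K : Set I, K₀ ⊆ K → K ⊂ J → x ∉ WJ cs K := by
  obtain ⟨Q, hQ, hQ1, hQ2, hirr, htr⟩ := Free.exists_irr R ht.toFree hχ
  have hle : LinearMap.range Q ≤ fx ρ (VJ cs h X J) := by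
    rintro _ ⟨v, rfl⟩
    rw [← hQ2]
    exact av_mem ρ _ _
  obtain ⟨K₀, hK₀, h1, hmin⟩ := exists_min_support (ρ := ρ) (cs := cs) (h := h) (X := X) (S := LinearMap.range Q) (J := J)
    (by rw [inf_eq_left.2 hle]; exact hirr.ne)
  refine ⟨LinearMap.range Q, hle, hirr, K₀, hK₀, h1, hmin, ?_⟩
  set N : Submodule ℂ V := LinearMap.range Q ⊓ fx ρ (VJ cs h X K₀) with hNdef
  have hNf : N ≤ fx ρ (VJ cs h X K₀) := inf_le_right
  have hN : Stb ρ (LJ cs h T X K₀) N := fun l hl v hv =>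
    ⟨hirr.stb l (LJ_mono hK₀ hl) v hv.1, stb_fx R K₀ l hl v hv.2⟩
  let e : Module.End ℂ V := av ρ (VJ cs h X K₀)
  have he : e * e = e := LinearMap.ext fun v => av_idem ρ _ v
  have heQ : e * Q = Q * e := comm_av fun g hg => comm_PJ R hQ hQ1 hQ2 (B_le_PJ (VJ_le_B K₀ hg))
  have heN : ∀ v, (e * Q) v ∈ N := by
    intro v
    refine ⟨?_, av_mem ρ _ _⟩
    rw [heQ]
    exact ⟨_, rfl⟩
  have he0 : e * Q ≠ 0 := by
    intro h2
    apply h1
    rw [Submodule.eq_bot_iff]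
    rintro v ⟨hv, hv'⟩
    have h3 : (e * Q) v = v := by
      rw [Module.End.mul_apply, hQ.apply_of_mem hv]
      exact av_of_mem hv'
    rw [← h3, h2, LinearMap.zero_apply]
  -- some conjugate of `t` is seen by `e`
  obtain ⟨l, hl, h2⟩ : ∃ l ∈ LJ cs h T X J, e * ρ (l⁻¹ * t * l) * (e * Q) ≠ 0 := by
    by_contra hcon
    push Not at hcon
    exact htr (trace_eq_zero hQ hirr he heQ he0 hcon)
  obtain ⟨v, h3⟩ : ∃ v, (e * ρ (l⁻¹ * t * l) * (e * Q)) v ≠ 0 := by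
    by_contra hcon
    push Not at hcon
    exact h2 (LinearMap.ext hcon)
  rw [Module.End.mul_apply, Module.End.mul_apply] at h3
  obtain ⟨a, ha, b, hb, y, hy, k, hk, hg, hy1, hy2⟩ := exists_dec R hK₀ hK₀
    (mul_mem (mul_mem (inv_mem hl) ht.toFree.mem) hl)
  have h4 : ρ b ((e * Q) v) ∈ N := hN.PJ R hNf b hb _ (heN v)
  have h5 : Kw cs h y K₀ K₀ = K₀ := by
    by_contra hne
    have h6 : Kw cs h y K₀ K₀ ⊂ K₀ := lt_of_le_of_ne Kw_subset hne
    have h7 : av ρ (VJ cs h X (Kw cs h y K₀ K₀)) (ρ b ((e * Q) v)) ∈ LinearMap.range Q ⊓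
        fx ρ (VJ cs h X (Kw cs h y K₀ K₀)) := ⟨(av_mem_of_stb R hN hNf h4).1, av_mem _ _ _⟩
    rw [hmin _ h6, Submodule.mem_bot] at h7
    apply h3
    rw [hg, map_mul, map_mul, Module.End.mul_apply, Module.End.mul_apply]
    change av ρ (VJ cs h X K₀) (ρ a (ρ k (ρ b ((e * Q) v)))) = 0
    rw [av_rho_of_mem_PJ R ha, ← mackey R hy1 hk (hNf h4), h7, map_zero, map_zero, map_zero]
  refine ⟨y, hy, fun k' hk' => simple_of_Kw hy1 hy2 (by rw [h5]; exact hk'), fun K hK hKJ hyK => ?_⟩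
  refine ht.ell K hKJ l⁻¹ (inv_mem hl) ?_
  rw [inv_inv, hg]
  exact mul_mem (mul_mem (PJ_mono K₀ K hK ha) (LJ_le_PJ (rp_mem_LJ R hyK hk))) (PJ_mono K₀ K hK hb)

/-- **(D)** any two cuspidal supports are associate -/
theorem assoc [Finite Y] [Finite W] (R : RGD cs h p T n X) (hG : GG cs h T X = ⊤) (hρ : ρ.IsIrreducible)
    {K₀ K₁ : Set I} {N₀ N₁ : Submodule ℂ V} (hN : Stb ρ (LJ cs h T X K₀) N₀) (hf : N₀ ≤ fx ρ (VJ cs h X K₀))
    (hN0 : N₀ ≠ ⊥) (hmin : ∀ K : Set I, K ⊂ K₀ → N₀ ⊓ fx ρ (VJ cs h X K) = ⊥)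
    (hN' : Stb ρ (LJ cs h T X K₁) N₁) (hf' : N₁ ≤ fx ρ (VJ cs h X K₁))
    (hN0' : N₁ ≠ ⊥) (hmin' : ∀ K : Set I, K ⊂ K₁ → N₁ ⊓ fx ρ (VJ cs h X K) = ⊥) :
    ∃ w : W, (∀ k ∈ K₀, ∃ k' ∈ K₁, rep cs h w (sr k) = sr k') ∧ ∀ k' ∈ K₁, ∃ k ∈ K₀, rep cs h w (sr k) = sr k' := by
  classical
  have h0 : fx ρ (VJ cs h X K₀) ≠ ⊥ := fun h1 => hN0 (le_bot_iff.1 (by rw [← h1]; exact hf))
  have h1 : fx ρ (VJ cs h X K₁) ≠ ⊥ := fun h1 => hN0' (le_bot_iff.1 (by rw [← h1]; exact hf'))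
  obtain ⟨w, hw⟩ := exists_of_cusp_top R hG hρ hN hf hN0 hmin h1
  obtain ⟨w', hw'⟩ := exists_of_cusp_top R hG hρ hN' hf' hN0' hmin' h0
  refine ⟨w, hw, ?_⟩
  choose! f hf1 hf2 using hw
  choose! f' hf1' hf2' using hw'
  have hinj : Set.InjOn f K₀ := by
    intro i hi j hj hij
    have h2 : rep cs h w (sr i) = rep cs h w (sr j) := by rw [hf2 i hi, hf2 j hj, hij]
    exact sr_inj (rep_injective_apply cs h w h2)
  have hinj' : Set.InjOn f' K₁ := by
    intro i hi j hj hij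
    have h2 : rep cs h w' (sr i) = rep cs h w' (sr j) := by rw [hf2' i hi, hf2' j hj, hij]
    exact sr_inj (rep_injective_apply cs h w' h2)
  have hc1 : K₀.ncard ≤ K₁.ncard := Set.ncard_le_ncard_of_injOn f hf1 hinj (Set.toFinite K₁)
  have hc2 : K₁.ncard ≤ K₀.ncard := Set.ncard_le_ncard_of_injOn f' hf1' hinj' (Set.toFinite K₀)
  intro k' hk'
  have h3 : f '' K₀ = K₁ := by
    refine Set.eq_of_subset_of_ncard_le ?_ ?_ (Set.toFinite K₁)
    · rintro _ ⟨i, hi, rfl⟩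
      exact hf1 i hi
    · rw [hinj.ncard_image]
      exact hc2
  rw [← h3] at hk'
  obtain ⟨i, hi, rfl⟩ := hk'
  exact ⟨i, hi, hf2 i hi⟩

/-- **(D)** for two irreducible submodules as in `ell_support` -/
theorem assoc' [Finite Y] [Finite W] (R : RGD cs h p T n X) (hG : GG cs h T X = ⊤) (hρ : ρ.IsIrreducible)
    {J J' K₀ K₁ : Set I} {M₀ M₁ : Submodule ℂ V} (hM : Irr ρ (LJ cs h T X J) M₀) (hK₀ : K₀ ⊆ J)
    (h0 : M₀ ⊓ fx ρ (VJ cs h X K₀) ≠ ⊥) (hmin : ∀ K : Set I, K ⊂ K₀ → M₀ ⊓ fx ρ (VJ cs h X K) = ⊥)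
    (hM' : Irr ρ (LJ cs h T X J') M₁) (hK₁ : K₁ ⊆ J') (h1 : M₁ ⊓ fx ρ (VJ cs h X K₁) ≠ ⊥)
    (hmin' : ∀ K : Set I, K ⊂ K₁ → M₁ ⊓ fx ρ (VJ cs h X K) = ⊥) :
    ∃ w : W, (∀ k ∈ K₀, ∃ k' ∈ K₁, rep cs h w (sr k) = sr k') ∧ ∀ k' ∈ K₁, ∃ k ∈ K₀, rep cs h w (sr k) = sr k' := by
  refine assoc R hG hρ (N₀ := M₀ ⊓ fx ρ (VJ cs h X K₀)) (N₁ := M₁ ⊓ fx ρ (VJ cs h X K₁)) ?_ inf_le_right h0 ?_ ?_
    inf_le_right h1 ?_
  · exact fun l hl v hv => ⟨hM.stb l (LJ_mono hK₀ hl) v hv.1, stb_fx R K₀ l hl v hv.2⟩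
  · intro K hK
    rw [eq_bot_iff, ← hmin K hK]
    exact inf_le_inf_right _ inf_le_left
  · exact fun l hl v hv => ⟨hM'.stb l (LJ_mono hK₁ hl) v hv.1, stb_fx R K₁ l hl v hv.2⟩
  · intro K hK
    rw [eq_bot_iff, ← hmin' K hK]
    exact inf_le_inf_right _ inf_le_left

/-- the support of `ell_support` is contained (up to conjugation) in every `K'` with `V^{V_{K'}} ≠ 0` -/
theorem support_le [Finite Y] [Finite W] (R : RGD cs h p T n X) (hG : GG cs h T X = ⊤) (hρ : ρ.IsIrreducible)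
    {J K₀ K' : Set I} {M₀ : Submodule ℂ V} (hM : Irr ρ (LJ cs h T X J) M₀) (hK₀ : K₀ ⊆ J)
    (h0 : M₀ ⊓ fx ρ (VJ cs h X K₀) ≠ ⊥) (hmin : ∀ K : Set I, K ⊂ K₀ → M₀ ⊓ fx ρ (VJ cs h X K) = ⊥)
    (h' : fx ρ (VJ cs h X K') ≠ ⊥) : ∃ w : W, ∀ k ∈ K₀, ∃ k' ∈ K', rep cs h w (sr k) = sr k' := by
  refine exists_of_cusp_top R hG hρ (N := M₀ ⊓ fx ρ (VJ cs h X K₀)) ?_ inf_le_right h0 ?_ h'
  · exact fun l hl v hv => ⟨hM.stb l (LJ_mono hK₀ hl) v hv.1, stb_fx R K₀ l hl v hv.2⟩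
  · intro K hK
    rw [eq_bot_iff, ← hmin K hK]
    exact inf_le_inf_right _ inf_le_left

end Cfsg.Agent.H631.VZ
end

-- part: H956/OZ/Ree
section
prune_inst 0x210004043040020040000500100000240400009000200000f8000044000101020000010002801008000022000000000000000000400000000a84000000050521802000001000001120001900008c000000200800000000000000000000000000210000000
set_option linter.all false
open scoped Cfsg.Agent.FastGrp

-- part: H956/OZ/RankOne
section
/-!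
# Zeros of characters of groups with a split BN pair of rank one (helper956)

* `cusp_zero` : no `U`-fixed vectors: zero at the elements `t` normalising `U` with `C_U(t) = 1`;
* `ps_zero` : principal series vanish at the elements without conjugate in `B`;
* `deg_dvd` : `χ(1)` divides `|U| (|U| + 1) m`, `m` the dimension of the `U`-fixed vectors;
* `cases` : cuspidal, or irreducible principal series, or trivial, or Steinberg, or one of two constituents of a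
  principal series with both degrees dividing `|U| (|U| + 1)`.
-/

set_option autoImplicit false

open scoped ComplexConjugate

namespace Cfsg.Agent.H956.OZ.R1

open Cfsg Cfsg.Agent.Characters.Core Cfsg.Agent.OddOrderCharacters.Clifford Cfsg.Agent.H664.R1
  Cfsg.Agent.CharactersDeep.MackeyLinear

universe u

variable {G : Type u} [Group G]

/-- no `U`-fixed vectors: zero at the regular elements -/
theorem cusp_zero {U : Subgroup G} [Fintype U] {χ : G → ℂ} (hχ : IsIrrCharacter G χ) (h0 : ∑ u : U, χ u = 0)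
    {t : G} (ht : ∀ u ∈ U, t * u * t⁻¹ ∈ U) (hreg : ∀ u ∈ U, u * t = t * u → u = 1) : χ t = 0 := by
  classical
  have h1 := H113.Two.SplitGen.sum_mul_eq_zero (isIrr_isCharacter hχ) h0 t
  let f : U → U := fun u => ⟨u * (t * (u : G)⁻¹ * t⁻¹), U.mul_mem u.2 (ht _ (U.inv_mem u.2))⟩
  have hf : Function.Injective f := by
    intro x y hxy
    have h2 : (x : G) * (t * (x : G)⁻¹ * t⁻¹) = y * (t * (y : G)⁻¹ * t⁻¹) := congrArg Subtype.val hxy
    have h3 : (y : G)⁻¹ * x * t = t * ((y : G)⁻¹ * x) := by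
      calc (y : G)⁻¹ * x * t = (y : G)⁻¹ * (x * (t * (x : G)⁻¹ * t⁻¹)) * (t * x) := by group
        _ = (y : G)⁻¹ * (y * (t * (y : G)⁻¹ * t⁻¹)) * (t * x) := by rw [h2]
        _ = t * ((y : G)⁻¹ * x) := by group
    have h4 := hreg _ (U.mul_mem (U.inv_mem y.2) x.2) h3
    exact Subtype.ext (inv_mul_eq_one.1 h4).symm
  have hb : Function.Bijective f := Finite.injective_iff_bijective.1 hf
  have h2 : ∑ u : U, χ ((f u : U) * t) = 0 := by
    rw [← h1]
    exact hb.sum_comp (fun u : U => χ (u * t))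
  have h3 : ∀ u : U, χ ((f u : U) * t) = χ t := by
    intro u
    have h4 : ((f u : U) : G) * t = u * t * (u : G)⁻¹ := by
      show (u : G) * (t * (u : G)⁻¹ * t⁻¹) * t = _
      group
    rw [h4]
    exact isIrr_isClassFunction hχ t u
  rw [Finset.sum_congr rfl fun u _ => h3 u, Finset.sum_const, Finset.card_univ, nsmul_eq_mul] at h2
  exact (mul_eq_zero.1 h2).resolve_left (by rw [← Nat.card_eq_fintype_card]; exact card_ne_zero')

variable [Fintype G] (D : Split G)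

/-- principal series vanish off the conjugates of `B` -/
theorem ps_zero (f : D.B →* ℂˣ) {g : G} (hg : ∀ x : G, x⁻¹ * g * x ∉ D.B) : D.ps f g = 0 := by
  classical
  have := Fintype.ofFinite D.B
  rw [D.ps_def, OddOrderCharacters.Clifford.indFun_apply]
  rw [Finset.sum_eq_zero fun x _ => ext_apply_not_mem D.B _ _ (hg x), mul_zero]

/-- the degree of a character divides `|G : B| * |U| * dim V^U` -/
theorem deg_dvd [Fintype D.U] {χ : G → ℂ} (hχ : IsIrrCharacter G χ) {d k : ℕ} (hd : χ 1 = d)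
    (hk : classInner (fun u : D.U => χ u) 1 = k) : d ∣ (Nat.card D.U + 1) * Nat.card D.U * k := by
  classical
  have hB : ∀ b ∈ D.B, ∀ u : G, b⁻¹ * u * b ∈ D.U ↔ u ∈ D.U := by
    intro b hb u
    refine ⟨fun h => ?_, fun h => D.nU' hb h⟩
    have := D.nU b hb _ h
    have e : b * (b⁻¹ * u * b) * b⁻¹ = u := by group
    rwa [e] at this
  have hinv : ∀ (x g : G), ∀ l ∈ D.B, ((g * l)⁻¹ * x * (g * l) ∈ D.U ↔ g⁻¹ * x * g ∈ D.U) := by
    intro x g l hl
    have e : (g * l)⁻¹ * x * (g * l) = l⁻¹ * (g⁻¹ * x * g) * l := by group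
    rw [e, hB l hl]
  have hfin : Finite (G ⧸ D.B) := inferInstance
  have := Fintype.ofFinite (G ⧸ D.B)
  -- the class function
  let F : G → ℤ := fun x => ∑ c : G ⧸ D.B, if (Quotient.out c)⁻¹ * x * Quotient.out c ∈ D.U then 1 else 0
  have hF : ∀ x, ((∑ g : G, if g⁻¹ * x * g ∈ D.U then (1 : ℤ) else 0)) = (Nat.card D.B : ℤ) * F x := by
    intro x
    exact H631.Kaw.sum_eq_card_mul D.B (fun g => if g⁻¹ * x * g ∈ D.U then (1 : ℤ) else 0) (fun g l hl => by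
      simp only [hinv x g l hl])
  have hBn : (Nat.card D.B : ℤ) ≠ 0 := by exact_mod_cast Nat.card_pos.ne'
  have hcl : ∀ x g, F (g * x * g⁻¹) = F x := by
    intro x g
    apply mul_left_cancel₀ hBn
    rw [← hF, ← hF]
    refine Fintype.sum_equiv (Equiv.mulLeft g⁻¹) _ _ fun y => ?_
    have e : (g⁻¹ * y)⁻¹ * x * (g⁻¹ * y) = y⁻¹ * (g * x * g⁻¹) * y := by group
    simp only [Equiv.coe_mulLeft, e]
  obtain ⟨n, ρ, hρ, rfl⟩ := hχ
  have h1 := Characters.CentralCharacter.isIntegral_sum_int ρ F hcl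
  -- the sum
  have h2 : ∑ x, (F x : ℂ) * ρ.character x = ((Nat.card D.U + 1) * Nat.card D.U * k : ℕ) := by
    have hBc : (Nat.card D.B : ℂ) ≠ 0 := card_ne_zero'
    apply mul_left_cancel₀ hBc
    have h3 : (Nat.card D.B : ℂ) * ∑ x, (F x : ℂ) * ρ.character x =
        ∑ x : G, ∑ g : G, if g⁻¹ * x * g ∈ D.U then ρ.character x else 0 := by
      rw [Finset.mul_sum]
      refine Finset.sum_congr rfl fun x _ => ?_
      have h4 : ((Nat.card D.B : ℂ) * (F x : ℂ)) = ∑ g : G, if g⁻¹ * x * g ∈ D.U then (1 : ℂ) else 0 := by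
        have := congrArg (Int.cast (R := ℂ)) (hF x)
        push_cast at this
        rw [← this]
      rw [← mul_assoc, h4, Finset.sum_mul]
      refine Finset.sum_congr rfl fun g _ => ?_
      split_ifs <;> simp
    rw [h3, Finset.sum_comm]
    have h5 : ∀ g : G, (∑ x : G, if g⁻¹ * x * g ∈ D.U then ρ.character x else 0) = ∑ u : D.U, ρ.character u := by
      intro g
      have h6 : (∑ x : G, if g⁻¹ * x * g ∈ D.U then ρ.character x else 0) =
          ∑ x : G, if x ∈ D.U then ρ.character x else 0 := by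
        refine Fintype.sum_equiv (MulAut.conj g⁻¹).toEquiv _ _ fun x => ?_
        have e : (MulAut.conj g⁻¹).toEquiv x = g⁻¹ * x * g := by
          show g⁻¹ * x * g⁻¹⁻¹ = _
          rw [inv_inv]
        have e2 : ρ.character (g⁻¹ * x * g) = ρ.character x := by
          have := ρ.char_conj x g⁻¹
          rwa [inv_inv] at this
        rw [e, e2]
      rw [h6, ← Finset.sum_filter]
      exact (Finset.sum_subtype _ (by simp) _)
    rw [Finset.sum_congr rfl fun g _ => h5 g, Finset.sum_const, Finset.card_univ, nsmul_eq_mul]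
    have h7 : ∑ u : D.U, ρ.character u = Nat.card D.U * k := by
      have := hk
      rw [classInner_def] at this
      simp only [Pi.one_apply, map_one, mul_one] at this
      rw [← this, ← mul_assoc, mul_inv_cancel₀ card_ne_zero', one_mul]
    rw [h7, ← Nat.card_eq_fintype_card, D.card_G]
    push_cast
    ring
  rw [h2] at h1
  have hd' : (Module.finrank ℂ (Fin n → ℂ) : ℂ) = d := by
    rw [← hd]
    exact ρ.char_one.symm
  rw [hd'] at h1
  have hd0 : d ≠ 0 := by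
    intro h
    rw [h, Nat.cast_zero] at hd
    exact isIrr_apply_one_ne_zero ⟨n, ρ, hρ, rfl⟩ hd
  exact Characters.DegreeBounds.nat_dvd_of_isIntegral_div hd0 h1

/-- **The irreducible characters.** -/
theorem cases [Fintype D.U] {χ : G → ℂ} (hχ : IsIrrCharacter G χ) :
    (∑ u : D.U, χ u = 0) ∨ (∃ f : D.B →* ℂˣ, χ = D.ps f) ∨ χ = 1 ∨ D.ps 1 = 1 + χ ∨
      ∃ (f : D.B →* ℂˣ) (χ' : G → ℂ) (d d' : ℕ), D.Inv f ∧ f ≠ 1 ∧ D.ps f = χ + χ' ∧ IsIrrCharacter G χ' ∧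
        χ ≠ 1 ∧ χ' ≠ 1 ∧ χ 1 = d ∧ χ' 1 = d' ∧ d + d' = Nat.card D.U + 1 ∧
        d ∣ (Nat.card D.U + 1) * Nat.card D.U ∧ d' ∣ (Nat.card D.U + 1) * Nat.card D.U := by
  classical
  by_cases h0 : ∑ u : D.U, χ u = 0
  · exact Or.inl h0
  refine Or.inr ?_
  have h1 : classInner (fun u : D.U => χ u) 1 ≠ 0 := fun h => h0 (noFix_iff.1 (noFix_iff_inner.2 h))
  obtain ⟨f, hf, hne⟩ := D.exists_ps hχ h1
  by_cases hinv : ∀ t, ∀ ht : t ∈ D.T, f ⟨t, D.TB ht⟩ = f ⟨D.w⁻¹ * t * D.w, D.TB (D.wT t ht)⟩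
  swap
  · left
    push Not at hinv
    have h2 := D.isIrr_ps f hinv
    refine ⟨f, ?_⟩
    by_contra h3
    exact hne (classInner_irr_ne h2 hχ (fun h => h3 h.symm))
  right
  -- two constituents
  obtain ⟨χ', hχ', hne', hsum⟩ : ∃ χ' : G → ℂ, IsIrrCharacter G χ' ∧ χ' ≠ χ ∧ D.ps f = χ + χ' := by
    obtain ⟨a, b, hab, h⟩ := exists_two (D.isCharacter_ps f) (D.norm_ps f hinv)
    by_cases ha : (a : G → ℂ) = χ
    · exact ⟨b, b.2, fun hb => hab (Subtype.ext (ha.trans hb.symm)), by rw [h, ha]⟩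
    by_cases hb : (b : G → ℂ) = χ
    · exact ⟨a, a.2, ha, by rw [h, hb, add_comm]⟩
    · exfalso
      apply hne
      rw [h, classInner_add_left, classInner_irr_ne a.2 hχ ha, classInner_irr_ne b.2 hχ hb, add_zero]
  by_cases hf1 : f = 1
  · subst hf1
    have h3 := D.inner_ps_one
    rw [hsum, classInner_add_left] at h3
    by_cases h4 : χ = 1
    · exact Or.inl h4
    right; left
    by_cases h5 : χ' = 1
    · rw [hsum, h5, add_comm]
    · rw [classInner_irr_ne hχ isIrr_one h4, classInner_irr_ne hχ' isIrr_one h5, add_zero] at h3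
      exact absurd h3 zero_ne_one
  right; right
  have h3 := D.inner_ps_one_eq_zero f hf1
  rw [hsum, classInner_add_left] at h3
  have h4 : χ ≠ 1 := by
    intro h
    rw [h, classInner_irr_self isIrr_one, classInner_irr_ne hχ' isIrr_one (h ▸ hne'), add_zero] at h3
    exact one_ne_zero h3
  have h5 : χ' ≠ 1 := by
    intro h
    rw [h, classInner_irr_self isIrr_one, classInner_irr_ne hχ isIrr_one h4, zero_add] at h3
    exact one_ne_zero h3
  -- fixed vectors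
  obtain ⟨k, hk⟩ := classInner_isNat (isCharacter_comp D.U.subtype (isIrr_isCharacter hχ)) (isCharacter_one (G := D.U))
  obtain ⟨k', hk'⟩ := classInner_isNat (isCharacter_comp D.U.subtype (isIrr_isCharacter hχ'))
    (isCharacter_one (G := D.U))
  have e1 : classInner (fun u : D.U => χ u) 1 = k := hk
  have e2 : classInner (fun u : D.U => χ' u) 1 = k' := hk'
  have h6 : classInner (fun u : D.U => χ' u) 1 ≠ 0 := by
    apply D.inner_ne_zero f hf hχ'
    rw [hsum, classInner_add_left, classInner_irr_self hχ', classInner_irr_ne hχ hχ' hne'.symm, zero_add]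
    exact one_ne_zero
  have h7 := D.inner_U_one f hf
  rw [hsum] at h7
  have h8 := D.inner_add_U χ χ' (1 : D.U → ℂ)
  rw [h7, e1, e2] at h8
  have h9 : 2 = k + k' := by exact_mod_cast h8
  have hk0 : k ≠ 0 := by rintro rfl; exact h1 (by rw [e1, Nat.cast_zero])
  have hk0' : k' ≠ 0 := by rintro rfl; exact h6 (by rw [e2, Nat.cast_zero])
  have hk1 : k = 1 := by omega
  have hk1' : k' = 1 := by omega
  obtain ⟨d, hd⟩ := isCharacter_apply_one (isIrr_isCharacter hχ)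
  obtain ⟨d', hd'⟩ := isCharacter_apply_one (isIrr_isCharacter hχ')
  refine ⟨f, χ', d, d', ⟨hf, hinv⟩, hf1, hsum, hχ', h4, h5, hd, hd', ?_, ?_, ?_⟩
  · have := congrFun hsum 1
    rw [D.ps_one, Pi.add_apply, hd, hd'] at this
    exact_mod_cast this.symm
  · have := deg_dvd D hχ hd e1
    rwa [hk1, mul_one] at this
  · have := deg_dvd D hχ' hd' e2
    rwa [hk1', mul_one] at this

/-- arithmetic of the two degrees -/
theorem arith {p v r c d d' : ℕ} (hp : p.Prime) (hr : r.Prime) (hr2 : r ≠ 2)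
    (h : ∀ k, 0 < k → k < v → ¬ r ∣ p ^ k + 1) (hd : d ∣ (p ^ v + 1) * p ^ v) (hd' : d' ∣ (p ^ v + 1) * p ^ v)
    (hs : d + d' = p ^ v + 1) (h1 : d ≠ 1) (h1' : d' ≠ 1) (hc : r ^ c ∣ p ^ v + 1) : r ^ c ∣ d ∧ r ^ c ∣ d' := by
  have hpos : 0 < (p ^ v + 1) * p ^ v := Nat.mul_pos (Nat.succ_pos _) (pow_pos hp.pos v)
  have hd0 : 0 < d := Nat.pos_of_dvd_of_pos hd hpos
  have hd0' : 0 < d' := Nat.pos_of_dvd_of_pos hd' hpos
  have e1 : (p ^ v + 1) * p ^ v = d * p ^ v + d' * p ^ v := by rw [← hs]; ring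
  obtain ⟨a, ha⟩ : d ∣ d' * p ^ v := (Nat.dvd_add_right (Dvd.intro _ rfl)).1 (e1 ▸ hd)
  obtain ⟨b, hb⟩ : d' ∣ d * p ^ v := (Nat.dvd_add_left (Dvd.intro _ rfl)).1 (e1 ▸ hd')
  have hab : a * b = p ^ (2 * v) := by
    have h2 : (d * d') * (a * b) = (d * d') * p ^ (2 * v) := by
      calc (d * d') * (a * b) = (d * a) * (d' * b) := by ring
        _ = (d' * p ^ v) * (d * p ^ v) := by rw [← ha, ← hb]
        _ = (d * d') * p ^ (2 * v) := by rw [two_mul, pow_add]; ring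
    exact Nat.eq_of_mul_eq_mul_left (Nat.mul_pos hd0 hd0') h2
  -- one divides the other
  have key : ∀ x y i : ℕ, 0 < x → x ≠ 1 → y = p ^ i * x → x + y = p ^ v + 1 → r ^ c ∣ x := by
    intro x y i hx hx1 hy hxy
    have h2 : (p ^ i + 1) * x = p ^ v + 1 := by rw [← hxy, hy]; ring
    have h3 : i < v := by
      by_contra h4
      have h5 : p ^ v ≤ p ^ i := Nat.pow_le_pow_right hp.pos (not_lt.1 h4)
      have h6 : 2 ≤ x := by omega
      have h7 : (p ^ i + 1) * 2 ≤ (p ^ i + 1) * x := Nat.mul_le_mul_left _ h6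
      omega
    have h4 : Nat.Coprime (r ^ c) (p ^ i + 1) := by
      apply Nat.Coprime.pow_left
      rw [Nat.Prime.coprime_iff_not_dvd hr]
      rcases Nat.eq_zero_or_pos i with rfl | hi
      · rw [pow_zero]
        intro h5
        exact hr2 ((Nat.prime_dvd_prime_iff_eq hr Nat.prime_two).1 h5)
      · exact h i hi h3
    exact h4.dvd_of_dvd_mul_left (h2 ▸ hc)
  obtain ⟨i, -, hi⟩ := (Nat.dvd_prime_pow hp).1 (Dvd.intro _ hab)
  rcases le_total v i with hvi | hvi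
  · have h2 : d' = p ^ (i - v) * d := by
      have h3 : d' * p ^ v = (p ^ (i - v) * d) * p ^ v := by
        rw [ha, hi, ← Nat.sub_add_cancel hvi, pow_add, Nat.add_sub_cancel]
        ring
      exact Nat.eq_of_mul_eq_mul_right (pow_pos hp.pos v) h3
    have h3 := key d d' _ hd0 h1 h2 hs
    exact ⟨h3, h2 ▸ h3.mul_left _⟩
  · have h2 : d = p ^ (v - i) * d' := by
      have h3 : p ^ i * d = p ^ i * (p ^ (v - i) * d') := by
        rw [← mul_assoc, ← pow_add, Nat.add_sub_cancel' hvi, mul_comm (p ^ i), ← hi, ← ha, mul_comm]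
      exact Nat.eq_of_mul_eq_mul_left (pow_pos hp.pos i) h3
    have h3 := key d' d _ hd0' h1' h2 (by rw [add_comm]; exact hs)
    exact ⟨h2 ▸ h3.mul_left _, h3⟩

end Cfsg.Agent.H956.OZ.R1
end

-- part: H956/OZ/Ree
section
/-!
# S4842, the small Ree groups (helper956)
-/

set_option autoImplicit false

namespace Cfsg.Agent.H956.OZ.Ree

open Cfsg Cfsg.Agent.LieRecognition.ReeAbs Cfsg.Agent.LieRecognition.ReeSylowThree
open Cfsg.Agent.LieRecognition.ReeSplit Cfsg.Agent.H664.R1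
open Cfsg.Agent.H730.OZ (OneZero Concl Row)

universe u

section abs

variable {K : Type*} [Field K] [Fintype K] {G : Type u} [Group G] {m : ℕ} {U : K → K → K → G} {h : Kˣ → G} {n : G}

/-- the split BN pair of rank one of the Ree groups -/
def spl (D : Data m U h n) : Split G where
  B := bSub D
  U := uSub D
  T := Cfsg.Agent.H71.ReeOut.hSub D
  w := n
  UB := uSub_le_bSub D
  TB := by
    rintro _ ⟨a, rfl⟩
    exact h_mem_bSub D a
  nU := fun b hb u hu => conj_mem_uSub D hb hu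
  dec := by
    rintro _ ⟨t, u, v, a, rfl⟩
    exact ⟨_, ⟨t, u, v, rfl⟩, _, ⟨a, rfl⟩, rfl⟩
  disj := by
    rintro _ ⟨t, u, v, rfl⟩ ⟨a, ha⟩
    have h1 : U t u v * h 1 = U 0 0 0 * h a := by rw [D.h_one, mul_one, D.U_zero, one_mul, ha]
    obtain ⟨rfl, rfl, rfl, -⟩ := D.inj₁ _ _ _ _ _ _ _ _ h1
    exact D.U_zero
  comm := by
    rintro _ ⟨a, rfl⟩ _ ⟨b, rfl⟩
    exact D.h_comm a b
  wT := by
    rintro _ ⟨a, rfl⟩
    refine ⟨a⁻¹, ?_⟩
    rw [D.n_inv, D.n_h, mul_assoc, D.n_n, mul_one]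
  wT' := by
    rintro _ ⟨a, rfl⟩
    refine ⟨a⁻¹, ?_⟩
    rw [D.n_inv, D.n_h, mul_assoc, D.n_n, mul_one]
  cap := by
    intro b hb hb'
    rw [D.n_inv] at hb'
    exact Cfsg.Agent.H71.ReeOut.mem_hSub_of D hb hb'
  big := by
    intro x hx
    rcases D.bruhat x with ⟨t, u, v, a, rfl⟩ | ⟨t, u, v, a, t', u', v', rfl⟩
    · exact absurd ⟨t, u, v, a, rfl⟩ hx
    · exact ⟨_, ⟨t, u, v, a, rfl⟩, _, uSub_le_bSub D ⟨t', u', v', rfl⟩, rfl⟩
  wB := by
    rintro ⟨t, u, v, a, ha⟩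
    apply D.ne t u v a 0 0 0 1 0 0 0
    rw [← ha, D.U_zero, D.h_one, one_mul, one_mul, mul_one]

omit [Fintype K] in
theorem h_eq_of (D : Data m U h n) {a b : Kˣ} {v : G} (hv : v ∈ uSub D) (he : h a = v * h b) : a = b := by
  obtain ⟨t, u, w, rfl⟩ := hv
  have h1 : U 0 0 0 * h a = U t u w * h b := by rw [D.U_zero, one_mul, he]
  exact (D.inj₁ _ _ _ _ _ _ _ _ h1).2.2.2

/-- regular elements of the torus -/
theorem reg (D : Data m U h n) (hK : Fintype.card K = 3 ^ (2 * m + 1)) {a : Kˣ} (ha : a * a ≠ 1) :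
    ∀ u ∈ uSub D, u * h a = h a * u → u = 1 := by
  intro u hu hc
  by_contra hu1
  apply ha
  rcases mem_or_of_commute D hK hu hu1 hc.symm with h1 | ⟨v, hv, h1⟩
  · have h2 : h a = h a * h 1 := by rw [D.h_one, mul_one]
    rw [h_eq_of D h1 h2, mul_one]
  · rw [h_eq_of D hv h1]
    simp

theorem orderOf_h (D : Data m U h n) (a : Kˣ) : orderOf (h a) = orderOf a :=
  orderOf_injective (MonoidHom.mk' h D.h_mul) (Cfsg.Agent.H71.ReeOut.h_injective D) a

end abs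

theorem not_conj_of_orderOf {G : Type*} [Group G] {a b : G} (h : orderOf a ≠ orderOf b) : ¬ IsConj a b := by
  intro hc
  obtain ⟨c, hc⟩ := isConj_iff.1 hc
  apply h
  rw [← hc]
  exact ((MulAut.conj c).orderOf_eq a).symm

/-- an element of order prime to `|B|` is not conjugate into `B` -/
theorem not_mem_of_coprime {G : Type*} [Group G] [Finite G] {B : Subgroup G} {z : G} (h1 : orderOf z ≠ 1)
    (hc : (orderOf z).Coprime (Nat.card B)) (x : G) : x⁻¹ * z * x ∉ B := by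
  intro h
  have h2 : orderOf (x⁻¹ * z * x) = orderOf z := by
    have := (MulAut.conj x⁻¹).orderOf_eq z
    rw [MulAut.conj_apply, inv_inv] at this
    exact this
  have h3 := orderOf_dvd_natCard (⟨x⁻¹ * z * x, h⟩ : B)
  rw [Subgroup.orderOf_mk, h2] at h3
  exact h1 (Nat.Coprime.eq_one_of_dvd hc h3)

/-- elements of prime order `r` of a subgroup `A`, with `|N(⟨z⟩) : A| < r - 1`, are not all conjugate -/
theorem exists_not_conj {G : Type*} [Group G] [Finite G] {A : Subgroup G} (hA : IsMulCommutative A) {z : G} (hz : z ∈ A)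
    {r k : ℕ} (hzr : orderOf z = r)
    (hN : Nat.card (Subgroup.normalizer ((Subgroup.zpowers z : Subgroup G) : Set G)) = k * Nat.card A)
    (hAN : A ≤ Subgroup.normalizer ((Subgroup.zpowers z : Subgroup G) : Set G)) (hk : k < r - 1) :
    ∃ j : ℕ, 0 < j ∧ j < r ∧ ¬ IsConj z (z ^ j) := by
  by_contra hcon
  push Not at hcon
  set N := Subgroup.normalizer ((Subgroup.zpowers z : Subgroup G) : Set G) with hNdef
  have hex : ∀ i : Fin (r - 1), ∃ g : G, g * z * g⁻¹ = z ^ ((i : ℕ) + 1) := fun i =>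
    isConj_iff.1 (hcon _ (Nat.succ_pos _) (by have := i.2; omega))
  choose g hg using hex
  have hgN : ∀ i, g i ∈ N := by
    intro i
    have h1 : (Subgroup.zpowers z).map (MulAut.conj (g i)).toMonoidHom ≤ Subgroup.zpowers z := by
      rw [MonoidHom.map_zpowers, Subgroup.zpowers_le]
      show g i * z * (g i)⁻¹ ∈ _
      rw [hg i]
      exact Subgroup.npow_mem_zpowers z _
    have h2 : (Subgroup.zpowers z).map (MulAut.conj (g i)).toMonoidHom = Subgroup.zpowers z := by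
      apply Subgroup.eq_of_le_of_card_ge h1
      exact (Nat.card_congr ((Subgroup.zpowers z).equivMapOfInjective _ (MulAut.conj (g i)).injective).toEquiv).le
    rw [hNdef, Subgroup.mem_normalizer_iff]
    intro x
    constructor
    · intro hx
      have : (MulAut.conj (g i)) x ∈ (Subgroup.zpowers z).map (MulAut.conj (g i)).toMonoidHom :=
        Subgroup.mem_map_of_mem _ hx
      rw [h2] at this
      exact this
    · intro hx
      have h3 : g i * x * (g i)⁻¹ ∈ (Subgroup.zpowers z).map (MulAut.conj (g i)).toMonoidHom := by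
        rw [h2]; exact hx
      obtain ⟨y, hy, hy2⟩ := h3
      have h4 : g i * y * (g i)⁻¹ = g i * x * (g i)⁻¹ := hy2
      have h5 : y = x := by simpa only [_root_.mul_left_inj, _root_.mul_right_inj] using h4
      rw [← h5]; exact hy
  let f : Fin (r - 1) → N ⧸ A.subgroupOf N := fun i => QuotientGroup.mk ⟨g i, hgN i⟩
  have hf : Function.Injective f := by
    intro i j hij
    have h1 := QuotientGroup.eq.1 hij
    rw [Subgroup.mem_subgroupOf] at h1
    have h2 : (g i)⁻¹ * g j ∈ A := h1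
    have h3 : (g i)⁻¹ * g j * z = z * ((g i)⁻¹ * g j) := by
      have := hA.1.1 ⟨_, h2⟩ ⟨z, hz⟩
      exact congrArg Subtype.val this
    have h4 : z ^ ((j : ℕ) + 1) = z ^ ((i : ℕ) + 1) := by
      calc z ^ ((j : ℕ) + 1) = g j * z * (g j)⁻¹ := (hg j).symm
        _ = g i * ((g i)⁻¹ * g j * z) * (g j)⁻¹ := by group
        _ = g i * (z * ((g i)⁻¹ * g j)) * (g j)⁻¹ := by rw [h3]
        _ = g i * z * (g i)⁻¹ := by group
        _ = _ := hg i
    have h5 := pow_inj_mod.1 h4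
    rw [hzr, Nat.mod_eq_of_lt (by have := j.2; omega), Nat.mod_eq_of_lt (by have := i.2; omega)] at h5
    exact Fin.ext (by omega)
  have h1 := Nat.card_le_card_of_injective f hf
  rw [Nat.card_eq_fintype_card, Fintype.card_fin] at h1
  have h2 : Nat.card (N ⧸ A.subgroupOf N) * Nat.card (A.subgroupOf N) = Nat.card N :=
    (Subgroup.card_eq_card_quotient_mul_card_subgroup _).symm
  rw [Nat.card_congr (Subgroup.subgroupOfEquivOfLe hAN).toEquiv, hN] at h2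
  have h3 := Nat.eq_of_mul_eq_mul_right Nat.card_pos h2
  omega

/-- the linear characters of perfect groups -/
theorem eq_one_of_perfect {G : Type*} [Group G] (hG : commutator G = ⊤) {χ : G → ℂ} (hχ : IsIrrCharacter G χ)
    (h1 : χ 1 = 1) : χ = 1 := by
  obtain ⟨f, rfl⟩ := Characters.Linear.exists_hom_of_isIrrCharacter hχ h1
  have h2 : f.ker = ⊤ := by
    rw [eq_top_iff, ← hG]
    exact Abelianization.commutator_subset_ker f
  funext g
  have h3 : g ∈ f.ker := by rw [h2]; exact Subgroup.mem_top g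
  rw [MonoidHom.mem_ker] at h3
  simp [h3]

/-! ### Arithmetic -/

/-- the primitive prime divisor of `3 ^ (6 a) - 1`, `a = 2 m + 1` -/
theorem exists_r {m : ℕ} (hm : 1 ≤ m) : ∃ r : ℕ, r.Prime ∧ r ≠ 2 ∧ r ≠ 3 ∧ 7 < r ∧
    (∀ k, 0 < k → k < 3 * (2 * m + 1) → ¬ r ∣ 3 ^ k + 1) ∧ ¬ r ∣ 3 ^ (2 * m + 1) - 1 ∧ ¬ r ∣ 3 ^ (2 * m + 1) + 1 ∧
    r ∣ 3 ^ (3 * (2 * m + 1)) + 1 := by
  obtain ⟨r, hr, h1, h2, h3⟩ := Cfsg.Agent.Lib.Zsigmondy.exists_primitive (a := 3) (n := 6 * (2 * m + 1))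
    (by norm_num) (by omega) (by omega) (by omega)
  have hr1 : 6 * (2 * m + 1) ≤ r - 1 := Nat.le_of_dvd (by have := hr.two_le; omega) h2
  have hsq : ∀ k, r ∣ 3 ^ k + 1 → r ∣ 3 ^ (2 * k) - 1 := by
    intro k hk
    have e : 3 ^ (2 * k) - 1 = (3 ^ k + 1) * (3 ^ k - 1) := by
      rw [two_mul, pow_add]
      have := Nat.mul_self_sub_mul_self_eq (3 ^ k) 1
      simpa only [_root_.mul_one] using this
    rw [e]
    exact hk.mul_right _
  have h4 : ∀ k, 0 < k → k < 3 * (2 * m + 1) → ¬ r ∣ 3 ^ k + 1 := by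
    intro k hk hk2 hd
    have h5 := (h1 _).1 (hsq k hd)
    have h6 := Nat.le_of_dvd (by omega) h5
    omega
  refine ⟨r, hr, by omega, by omega, by omega, h4, ?_, h4 _ (by omega) (by omega), ?_⟩
  · intro hd
    have h5 := Nat.le_of_dvd (by omega) ((h1 _).1 hd)
    omega
  · have h5 : r ∣ 3 ^ (2 * (3 * (2 * m + 1))) - 1 := (h1 _).2 ⟨1, by ring⟩
    have e : 3 ^ (2 * (3 * (2 * m + 1))) - 1 = (3 ^ (3 * (2 * m + 1)) + 1) * (3 ^ (3 * (2 * m + 1)) - 1) := by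
      rw [two_mul, pow_add]
      have := Nat.mul_self_sub_mul_self_eq (3 ^ (3 * (2 * m + 1))) 1
      simpa only [_root_.mul_one] using this
    rw [e] at h5
    rcases (hr.dvd_mul).1 h5 with h6 | h6
    · exact h6
    · have h7 := Nat.le_of_dvd (by omega) ((h1 _).1 h6)
      omega

/-- the numbers `q ± 3 ^ (m + 1) + 1` -/
theorem fac (m : ℕ) (hm : 1 ≤ m) : ∃ q x : ℕ, q = 3 ^ (2 * m + 1) ∧ x = 3 ^ (m + 1) ∧ x * x = 3 * q ∧ 9 ≤ x ∧ x < q ∧
    (q - x + 1) * (q + x + 1) * (q + 1) = q ^ 3 + 1 := by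
  refine ⟨_, _, rfl, rfl, ?_, ?_, ?_, ?_⟩
  · rw [← pow_add, ← pow_succ']
    congr 1
    omega
  · calc 9 = 3 ^ 2 := by norm_num
      _ ≤ 3 ^ (m + 1) := Nat.pow_le_pow_right (by norm_num) (by omega)
  · exact Nat.pow_lt_pow_right (by norm_num) (by omega)
  · have h1 : 3 ^ (m + 1) ≤ 3 ^ (2 * m + 1) := Nat.pow_le_pow_right (by norm_num) (by omega)
    have h2 : 3 ^ (m + 1) * 3 ^ (m + 1) = 3 * 3 ^ (2 * m + 1) := by
      rw [← pow_add, ← pow_succ']
      congr 1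
      omega
    generalize 3 ^ (m + 1) = x at *
    generalize 3 ^ (2 * m + 1) = q at *
    obtain ⟨y, rfl⟩ := Nat.exists_eq_add_of_le h1
    rw [Nat.add_sub_cancel_left]
    nlinarith only [h2]

/-- **Ree groups**: no irreducible character vanishes on exactly one class. -/
theorem not_oneZero {K : Type*} [Field K] [Fintype K] {m : ℕ} (hm : 1 ≤ m) (hK : Fintype.card K = 3 ^ (2 * m + 1))
    {χ : ↥(Cfsg.Lie.twistedG2 K (3 ^ m)) → ℂ} (hχ : IsIrrCharacter ↥(Cfsg.Lie.twistedG2 K (3 ^ m)) χ) :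
    ¬ OneZero χ := by
  classical
  obtain ⟨U, h, n, D⟩ := Cfsg.Agent.ChevalleyStructure.Ree.Data.exists_data hK
  have : Finite ↥(Cfsg.Lie.twistedG2 K (3 ^ m)) := inferInstance
  have := Fintype.ofFinite ↥(Cfsg.Lie.twistedG2 K (3 ^ m))
  have : Fintype (spl D).U := Fintype.ofFinite _
  obtain ⟨q, x, hq, hx, hxx, hx9, hxq, hfac⟩ := fac m hm
  have hKq : Fintype.card K = q := by rw [hK, hq]
  have hcU : Nat.card (spl D).U = q ^ 3 := by rw [← hKq]; exact card_uSub D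
  have hcT : Nat.card (spl D).T = q - 1 := by rw [← hKq]; exact Cfsg.Agent.H71.ReeOut.card_hSub D
  have hcB : Nat.card (spl D).B = q ^ 3 * (q - 1) := by rw [(spl D).card_B, hcU, hcT]
  have hcG : Nat.card ↥(Cfsg.Lie.twistedG2 K (3 ^ m)) = (q ^ 3 + 1) * (q ^ 3 * (q - 1)) := by
    rw [(spl D).card_G, hcU, hcB]
  rintro ⟨x0, hx0, hx1⟩
  have hcon : ∀ g g' : ↥(Cfsg.Lie.twistedG2 K (3 ^ m)), χ g = 0 → χ g' = 0 → orderOf g ≠ orderOf g' → False := by
    intro g g' hg hg' hne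
    exact not_conj_of_orderOf hne ((hx1 g hg).symm.trans (hx1 g' hg'))
  -- coprimality
  have hcop : ∀ k, k ∣ q ^ 3 + 1 → Odd k → Nat.Coprime k (Nat.card (spl D).B) := by
    intro k hk hk2
    rw [hcB]
    have h1 : Nat.Coprime k (q ^ 3) := by
      have h2 : Nat.Coprime (q ^ 3 + 1) (q ^ 3) := (Nat.coprime_self_add_left).2 (Nat.coprime_one_left _)
      exact Nat.Coprime.coprime_dvd_left hk h2
    have h3 : Nat.Coprime k (q - 1) := by
      by_contra hc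
      obtain ⟨p, hp, hp2, hp1⟩ := Nat.Prime.not_coprime_iff_dvd.1 hc
      have h4 : p ∣ q ^ 3 + 1 := hp2.trans hk
      have h5 : p ∣ q ^ 3 - 1 := by
        have : q - 1 ∣ q ^ 3 - 1 := by
          have := Nat.sub_dvd_pow_sub_pow q 1 3
          rwa [one_pow] at this
        exact hp1.trans this
      have h6 : 1 ≤ q ^ 3 := Nat.one_le_pow _ _ (by omega)
      have h7 : p ∣ 2 := by
        have h8 := Nat.dvd_sub h4 h5
        have e : q ^ 3 + 1 - (q ^ 3 - 1) = 2 := by (clear * - h6; omega)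
        rwa [e] at h8
      rw [(Nat.prime_dvd_prime_iff_eq hp Nat.prime_two).1 h7] at hp2
      exact (Nat.not_even_iff_odd.2 hk2) ((even_iff_two_dvd).2 hp2)
    exact Nat.Coprime.mul_right h1 h3
  have hqo : Odd q := by rw [hq]; exact Odd.pow (by decide)
  have hxo : Odd x := by rw [hx]; exact Odd.pow (by decide)
  have hk1o : Odd (q - x + 1) := by
    obtain ⟨a, ha⟩ := hqo
    obtain ⟨b, hb⟩ := hxo
    exact ⟨a - b, by (clear * - ha hb; omega)⟩
  have hk2o : Odd (q + x + 1) := by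
    obtain ⟨a, ha⟩ := hqo
    obtain ⟨b, hb⟩ := hxo
    exact ⟨a + b + 1, by (clear * - ha hb; omega)⟩
  have hk1d : q - x + 1 ∣ q ^ 3 + 1 := ⟨(q + x + 1) * (q + 1), by rw [← hfac]; ring⟩
  have hk2d : q + x + 1 ∣ q ^ 3 + 1 := ⟨(q - x + 1) * (q + 1), by rw [← hfac]; ring⟩
  rcases R1.cases (spl D) hχ with h0 | ⟨f, hf⟩ | h1 | hst | ⟨f, χ', d, d', hinv, hf1, hsum, hχ', hne, hne', hd, hd', hdd, hdv, hdv'⟩
  · -- cuspidal
    obtain ⟨a, ha⟩ := IsCyclic.exists_generator (α := Kˣ)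
    have hao : orderOf a = q - 1 := by
      rw [orderOf_eq_card_of_forall_mem_zpowers ha, Nat.card_units, Nat.card_eq_fintype_card, hKq]
    have hle : ∀ k, 0 < k → a ^ k = 1 → q - 1 ≤ k := by
      intro k hk h1
      rw [← hao]
      exact Nat.le_of_dvd hk (orderOf_dvd_of_pow_eq_one h1)
    have h1 : a * a ≠ 1 := by
      intro h2
      have := hle 2 (by norm_num) (by rw [pow_two]; exact h2)
      omega
    have h2 : (a * a) * (a * a) ≠ 1 := by
      intro h2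
      have := hle 4 (by norm_num) (by
        calc a ^ 4 = (a * a) * (a * a) := by simp only [pow_succ, pow_zero, one_mul, mul_assoc]
          _ = 1 := h2)
      omega
    have hz : ∀ b : Kˣ, b * b ≠ 1 → χ (h b) = 0 := by
      intro b hb
      exact R1.cusp_zero hχ h0 (fun u hu => (spl D).nU _ (h_mem_bSub D b) u hu) (reg D hK hb)
    refine hcon _ _ (hz _ h1) (hz _ h2) ?_
    rw [orderOf_h D, orderOf_h D, hao]
    intro h3
    obtain ⟨c, hc⟩ := hqo
    have h4 : (a * a) ^ c = 1 := by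
      rw [← pow_two, ← pow_mul, ← pow_orderOf_eq_one a, hao]
      congr 1
      (clear * - hc; omega)
    have h5 := Nat.le_of_dvd (by omega) (orderOf_dvd_of_pow_eq_one h4)
    (clear * - hq h3 hc h5; omega)
  · -- irreducible principal series
    obtain ⟨z1, hz1⟩ := (Cfsg.Agent.S1159.result hm hK (q - x + 1)).2 (by
      rw [← hq, ← hx]
      simp only [_root_.dvd_refl, _root_.true_or, _root_.or_true])
    obtain ⟨z2, hz2⟩ := (Cfsg.Agent.S1159.result hm hK (q + x + 1)).2 (by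
      rw [← hq, ← hx]
      simp only [_root_.dvd_refl, _root_.or_true])
    rw [hf] at hcon
    refine hcon z1 z2 ?_ ?_ (by rw [hz1, hz2]; omega)
    · apply R1.ps_zero
      apply not_mem_of_coprime
      · rw [hz1]; omega
      · rw [hz1]; exact hcop _ hk1d hk1o
    · apply R1.ps_zero
      apply not_mem_of_coprime
      · rw [hz2]; omega
      · rw [hz2]; exact hcop _ hk2d hk2o
  · -- trivial
    rw [h1] at hx0
    exact one_ne_zero hx0
  · -- Steinberg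
    have hz : ∀ v ∈ uSub D, v ≠ 1 → χ v = 0 := by
      intro v hv hv1
      have h1 := (spl D).ps_U 1 (fun _ _ => rfl) hv hv1
      rw [hst, Pi.add_apply, Pi.one_apply] at h1
      linear_combination h1
    have o1 := orderOf_U_one D hK
    have o2 := orderOf_U_zero_one D hK
    refine hcon _ _ (hz (U 1 0 0) ⟨_, _, _, rfl⟩ ?_) (hz (U 0 1 0) ⟨_, _, _, rfl⟩ ?_) (by rw [o1, o2]; norm_num)
    · intro h1
      rw [h1, orderOf_one] at o1
      omega
    · intro h1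
      rw [h1, orderOf_one] at o2
      omega
  · -- the two constituents of the reducible principal series
    obtain ⟨r, hr, hr2, hr3, hr7, hrk, hrq1, hrq2, hrq3⟩ := exists_r hm
    have hq3 : 3 ^ (3 * (2 * m + 1)) = q ^ 3 := by rw [hq, ← pow_mul, mul_comm]
    rw [← hq] at hrq1 hrq2
    rw [hq3] at hrq3
    have hperf := Cfsg.Agent.S1116.result hK hm
    have hd1 : d ≠ 1 := fun h1 => hne (eq_one_of_perfect hperf hχ (by rw [hd, h1, Nat.cast_one]))
    have hd1' : d' ≠ 1 := fun h1 => hne' (eq_one_of_perfect hperf hχ' (by rw [hd', h1, Nat.cast_one]))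
    obtain ⟨c, b, hrb, hcb⟩ := Nat.exists_eq_pow_mul_and_not_dvd (n := Nat.card ↥(Cfsg.Lie.twistedG2 K (3 ^ m)))
      Nat.card_pos.ne' r hr.ne_one
    have hrB : ¬ r ∣ q ^ 3 * (q - 1) := by
      intro h1
      rcases hr.dvd_mul.1 h1 with h2 | h2
      · have h3 := hr.dvd_of_dvd_pow h2
        rw [hq] at h3
        exact hr3 ((Nat.prime_dvd_prime_iff_eq hr Nat.prime_three).1 (hr.dvd_of_dvd_pow h3))
      · exact hrq1 h2
    have hrc : r ^ c ∣ 3 ^ (3 * (2 * m + 1)) + 1 := by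
      rw [hq3]
      have h1 : r ^ c ∣ (q ^ 3 + 1) * (q ^ 3 * (q - 1)) := by
        rw [← hcG, hcb]
        exact Dvd.intro _ rfl
      exact (Nat.Coprime.pow_left c ((Nat.Prime.coprime_iff_not_dvd hr).2 hrB)).dvd_of_dvd_mul_right h1
    have hrd := (R1.arith Nat.prime_three hr hr2 hrk (by rw [hq3, ← hcU]; exact hdv) (by rw [hq3, ← hcU]; exact hdv')
      (by rw [hq3, ← hcU]; exact hdd) hd1 hd1' hrc).1
    have hzero : ∀ g : ↥(Cfsg.Lie.twistedG2 K (3 ^ m)), r ∣ orderOf g → χ g = 0 := by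
      intro g hg
      refine H732.VZ.zero_of_defect hr hcb hrb ⟨χ, hχ⟩ ?_ hg
      have h1 : charDegree χ = d := by
        have h2 := H686.CharKit.charDegree_irr ⟨χ, hχ⟩
        have h3 : (charDegree χ : ℂ) = d := h2.trans hd
        exact_mod_cast h3
      show r ^ c ∣ charDegree χ
      rw [h1]
      exact hrd
    -- the isolated subgroup
    obtain ⟨A, k, hAc, hAk, hrA, hNA, hNA0⟩ : ∃ (A : Subgroup ↥(Cfsg.Lie.twistedG2 K (3 ^ m))) (k : ℕ), IsCyclic A ∧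
        Nat.card A = k ∧ r ∣ k ∧ Nat.card (Subgroup.normalizer (A : Set ↥(Cfsg.Lie.twistedG2 K (3 ^ m)))) = 6 * k ∧
        ∀ A₀ : Subgroup ↥(Cfsg.Lie.twistedG2 K (3 ^ m)), A₀ ≤ A → A₀ ≠ ⊥ →
          Subgroup.normalizer (A₀ : Set ↥(Cfsg.Lie.twistedG2 K (3 ^ m))) =
            Subgroup.normalizer (A : Set ↥(Cfsg.Lie.twistedG2 K (3 ^ m))) := by
      have hS := Cfsg.Agent.S1158.result hm hK
      rw [← hfac] at hrq3
      rw [← hq, ← hx] at hS
      rcases hr.dvd_mul.1 hrq3 with h1 | h1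
      · rcases hr.dvd_mul.1 h1 with h2 | h2
        · obtain ⟨A, h3, h4, h5, h6⟩ := hS (q - x + 1, 6 * (q - x + 1)) (by simp only [_root_.Set.mem_insert_iff, _root_.Prod.mk.injEq, _root_.mul_eq_mul_left_iff, _root_.Nat.add_right_cancel_iff, _root_.OfNat.ofNat_ne_zero, _root_.or_false, _root_.Set.mem_singleton_iff, _root_.and_self, _root_.true_or, _root_.or_true])
          exact ⟨A, _, h3, h4, h2, h5, h6⟩
        · obtain ⟨A, h3, h4, h5, h6⟩ := hS (q + x + 1, 6 * (q + x + 1)) (by simp only [_root_.Set.mem_insert_iff, _root_.Prod.mk.injEq, _root_.mul_eq_mul_left_iff, _root_.Nat.add_right_cancel_iff, _root_.Nat.add_eq_left, _root_.OfNat.ofNat_ne_zero, _root_.or_false, _root_.and_self, _root_.Set.mem_singleton_iff, _root_.or_true])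
          exact ⟨A, _, h3, h4, h2, h5, h6⟩
      · exact absurd h1 hrq2
    have hrf : Fact r.Prime := ⟨hr⟩
    obtain ⟨z, hz⟩ := exists_prime_orderOf_dvd_card' (G := A) r (by rw [hAk]; exact hrA)
    have hzo : orderOf (z : ↥(Cfsg.Lie.twistedG2 K (3 ^ m))) = r := by rw [Subgroup.orderOf_coe]; exact hz
    have hzA : Subgroup.zpowers (z : ↥(Cfsg.Lie.twistedG2 K (3 ^ m))) ≤ A := (Subgroup.zpowers_le).2 z.2
    have hz1 : Subgroup.zpowers (z : ↥(Cfsg.Lie.twistedG2 K (3 ^ m))) ≠ ⊥ := by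
      rw [Subgroup.zpowers_ne_bot]
      intro h1
      rw [h1, orderOf_one] at hzo
      exact hr.one_lt.ne hzo
    have hN := hNA0 _ hzA hz1
    obtain ⟨j, hj0, hjr, hj⟩ := exists_not_conj (A := A) (k := 6) inferInstance z.2 hzo (by rw [hN, hNA, hAk])
      (by rw [hN]; exact Subgroup.le_normalizer) (by omega)
    apply hj
    have hoj : r ∣ orderOf ((z : ↥(Cfsg.Lie.twistedG2 K (3 ^ m))) ^ j) := by
      have h1 : orderOf ((z : ↥(Cfsg.Lie.twistedG2 K (3 ^ m))) ^ j) = r := by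
        rw [orderOf_pow' _ hj0.ne', hzo]
        have h2 : Nat.gcd r j = 1 := Nat.coprime_of_lt_prime hj0.ne' hjr hr
        rw [h2, Nat.div_one]
      rw [h1]
    exact (hx1 _ (hzero _ (by rw [hzo]))).symm.trans (hx1 _ (hzero _ hoj))

/-- `OneZero` transports along isomorphisms -/
theorem oneZero_congr {S T : Type*} [Group S] [Group T] (e : S ≃* T) {χ : S → ℂ} (h : OneZero χ) :
    OneZero (χ ∘ (e.symm : T → S)) := by
  obtain ⟨x, hx0, hx⟩ := h
  refine ⟨e x, by simpa using hx0, fun y hy => ?_⟩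
  obtain ⟨c, hc⟩ := isConj_iff.1 (hx (e.symm y) hy)
  refine isConj_iff.2 ⟨e c, ?_⟩
  rw [← map_inv, ← map_mul, ← map_mul, hc, e.apply_symm_apply]

/-- **The row of the small Ree groups.** -/
theorem row_ree {S : Type u} [Group S] [Finite S] (h : Cfsg.Lie.IsoRee S) : Row S := by
  obtain ⟨K, _, _, m, hm, hK, ⟨e⟩⟩ := h
  intro χ hχ h1
  exact absurd (oneZero_congr e h1) (not_oneZero hm hK
    (Characters.Core.isIrr_comp (e.symm : ↥(Cfsg.Lie.twistedG2 K (3 ^ m)) →* S) e.symm.surjective hχ))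

end Cfsg.Agent.H956.OZ.Ree
end
end
end
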